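/-
Orders of the linear groups over a finite field.

Main results (namespace `Cfsg.Agent.GLOrder`, `q = Nat.card F`):
* `card_units`                : `Nat.card Fˣ = q - 1`
* `card_GL`, `card_GL'`       : order of `GL_n(q)` as a product (`Fin` index / `q`-power times product)
* `card_SL_mul`               : `(q - 1) * |SL ι F| = |GL ι F|` for a nonempty index type
* `card_SL`, `card_SL'`       : order of `SL_n(q)`
* `card_center_SL`            : `|Z(SL ι F)| = gcd (card ι) (q - 1)`
* `card_center_GL`            : `|Z(GL ι F)| = q - 1`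
* `card_PSL_mul`, `card_PGL`  : orders of `PSL` and `PGL`
* `exists_card_eq_pow`, `not_dvd_pow_sub_one`, `card_sylow_of_card_eq`, `card_sylow_GL`, `card_sylow_SL`
* `card_GL_two`, `card_SL_two`, `card_PGL_two`, `card_PSL_two`, `card_PSL_two_of_odd`, `..._of_even`
-/
import Cfsg.Agent.EqLemmas

set_option autoImplicit false
set_option linter.unusedSectionVars false
set_option linter.style.haveILetI false

namespace Cfsg.Agent.GLOrder

open Matrix

variable {F : Type*} [Field F] [Finite F]

theorem card_units : Nat.card Fˣ = Nat.card F - 1 := Nat.card_units F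

theorem card_field_pos : 0 < Nat.card F := Nat.card_pos

theorem one_lt_card_field : 1 < Nat.card F := Finite.one_lt_card

/-- Order of `GL_n(q)`. -/
theorem card_GL (n : ℕ) :
    Nat.card (GL (Fin n) F) = ∏ i : Fin n, (Nat.card F ^ n - Nat.card F ^ (i : ℕ)) := by
  have := Fintype.ofFinite F
  rw [Matrix.card_GL_field, Nat.card_eq_fintype_card]

theorem prod_pow_sub_pow (q n : ℕ) :
    ∏ i ∈ Finset.range n, (q ^ n - q ^ i) =
      q ^ (n * (n - 1) / 2) * ∏ i ∈ Finset.range n, (q ^ (i + 1) - 1) := by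
  have h : ∀ i ∈ Finset.range n, q ^ n - q ^ i = q ^ i * (q ^ (n - i) - 1) := by
    intro i hi
    rw [Nat.mul_sub, mul_one, ← pow_add, Nat.add_sub_cancel' (Finset.mem_range.1 hi).le]
  rw [Finset.prod_congr rfl h, Finset.prod_mul_distrib, Finset.prod_pow_eq_pow_sum,
    Finset.sum_range_id]
  congr 1
  rw [← Finset.prod_range_reflect]
  refine Finset.prod_congr rfl fun i hi => ?_
  have := Finset.mem_range.1 hi
  congr 2
  omega

/-- Order of `GL_n(q)`, with the power of `q` split off. -/
theorem card_GL' (n : ℕ) :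
    Nat.card (GL (Fin n) F) =
      Nat.card F ^ (n * (n - 1) / 2) * ∏ i ∈ Finset.range n, (Nat.card F ^ (i + 1) - 1) := by
  rw [card_GL, Fin.prod_univ_eq_prod_range (fun i => Nat.card F ^ n - Nat.card F ^ i),
    prod_pow_sub_pow]

section General

variable {ι : Type*} [Fintype ι] [DecidableEq ι]

omit [Finite F] in
theorem range_toGL :
    (SpecialLinearGroup.toGL : SpecialLinearGroup ι F →* GL ι F).range =
      (GeneralLinearGroup.det : GL ι F →* Fˣ).ker := by
  ext g
  constructor
  · rintro ⟨s, rfl⟩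
    exact MonoidHom.mem_ker.2 (SpecialLinearGroup.coeToGL_det s)
  · intro hg
    have h := MonoidHom.mem_ker.1 hg
    have h' : (g : Matrix ι ι F).det = 1 := by
      simpa using congrArg Units.val h
    exact ⟨⟨(g : Matrix ι ι F), h'⟩, Units.ext rfl⟩

/-- `(q - 1) * |SL| = |GL|`. -/
theorem card_SL_mul [Nonempty ι] :
    (Nat.card F - 1) * Nat.card (SpecialLinearGroup ι F) = Nat.card (GL ι F) := by
  let φ : GL ι F →* Fˣ := GeneralLinearGroup.det
  have h1 : Nat.card (SpecialLinearGroup ι F) = Nat.card φ.ker := by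
    rw [← range_toGL]
    exact Nat.card_congr (MonoidHom.ofInjective SpecialLinearGroup.toGL_injective).toEquiv
  rw [h1, ← φ.ker.card_mul_index, Subgroup.index_ker,
    MonoidHom.range_eq_top.2 GeneralLinearGroup.det_surjective, Subgroup.card_top, card_units,
    mul_comm]

/-- The centre of `SL_n(q)` has order `gcd(n, q - 1)`. -/
theorem card_center_SL [Nonempty ι] :
    Nat.card (Subgroup.center (SpecialLinearGroup ι F)) =
      Nat.gcd (Fintype.card ι) (Nat.card F - 1) := by
  rw [Nat.card_congr (SpecialLinearGroup.center_equiv_rootsOfUnity'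
    (Classical.arbitrary ι)).toEquiv]
  have h : (rootsOfUnity (Fintype.card ι) F) =
      (powMonoidHom (Fintype.card ι) : Fˣ →* Fˣ).ker := by
    ext x
    simp [mem_rootsOfUnity]
  rw [h, IsCyclic.card_powMonoidHom_ker, card_units, Nat.gcd_comm]

omit [Finite F] in
theorem scalar_injective [Nonempty ι] :
    Function.Injective (GeneralLinearGroup.scalar ι : Fˣ →* GL ι F) := by
  intro a b h
  have h' := congrArg Units.val h
  rw [GeneralLinearGroup.coe_scalar, GeneralLinearGroup.coe_scalar] at h'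
  exact Units.ext (Matrix.scalar_inj.1 h')

/-- The centre of `GL_n(q)` has order `q - 1`. -/
theorem card_center_GL [Nonempty ι] :
    Nat.card (Subgroup.center (GL ι F)) = Nat.card F - 1 := by
  rw [GeneralLinearGroup.center_eq_range_scalar,
    ← Nat.card_congr (MonoidHom.ofInjective scalar_injective).toEquiv, card_units]

/-- `|PGL| = |SL|`. -/
theorem card_PGL :
    Nat.card (ProjGenLinGroup ι F) = Nat.card (SpecialLinearGroup ι F) := by
  rcases isEmpty_or_nonempty ι with hι | hι
  · haveI : Subsingleton (GL ι F) := ⟨fun a b => Units.ext (Subsingleton.elim _ _)⟩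
    haveI : Subsingleton (ProjGenLinGroup ι F) := ProjGenLinGroup.mk_surjective.subsingleton
    rw [Nat.card_unique, Nat.card_unique]
  · have hq : 0 < Nat.card F - 1 := by have := one_lt_card_field (F := F); omega
    have h := (Subgroup.center (GL ι F)).card_mul_index
    rw [card_center_GL, ← card_SL_mul] at h
    exact Nat.eq_of_mul_eq_mul_left hq h

/-- `gcd(n, q - 1) * |PSL| = |SL|`. -/
theorem card_PSL_mul [Nonempty ι] :
    Nat.gcd (Fintype.card ι) (Nat.card F - 1) * Nat.card (ProjectiveSpecialLinearGroup ι F) =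
      Nat.card (SpecialLinearGroup ι F) := by
  rw [← card_center_SL, ← Subgroup.index_eq_card, Subgroup.card_mul_index]

theorem card_PSL [Nonempty ι] :
    Nat.card (ProjectiveSpecialLinearGroup ι F) =
      Nat.card (SpecialLinearGroup ι F) / Nat.gcd (Fintype.card ι) (Nat.card F - 1) := by
  have h := card_PSL_mul (ι := ι) (F := F)
  have hpos : 0 < Nat.gcd (Fintype.card ι) (Nat.card F - 1) :=
    Nat.gcd_pos_of_pos_left _ Fintype.card_pos
  rw [← h, Nat.mul_div_cancel_left _ hpos]

end General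

/-- Order of `SL_n(q)`. -/
theorem card_SL (n : ℕ) :
    Nat.card (SpecialLinearGroup (Fin n) F) =
      Nat.card F ^ (n * (n - 1) / 2) * ∏ i ∈ Finset.Ico 1 n, (Nat.card F ^ (i + 1) - 1) := by
  rcases Nat.eq_zero_or_pos n with rfl | hn
  · simp
  haveI : Nonempty (Fin n) := ⟨⟨0, hn⟩⟩
  have hq : 0 < Nat.card F - 1 := by have := one_lt_card_field (F := F); omega
  apply Nat.eq_of_mul_eq_mul_left hq
  rw [card_SL_mul, card_GL', Finset.range_eq_Ico, Finset.prod_eq_prod_Ico_succ_bot hn]
  simp only [zero_add, pow_one]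
  ring

/-- Order of `GL_2(q)`. -/
theorem card_GL_two :
    Nat.card (GL (Fin 2) F) = Nat.card F * (Nat.card F - 1) * (Nat.card F ^ 2 - 1) := by
  rw [card_GL']
  simp [Finset.prod_range_succ, mul_assoc]

/-- Order of `SL_2(q)`. -/
theorem card_SL_two :
    Nat.card (SpecialLinearGroup (Fin 2) F) = Nat.card F * (Nat.card F ^ 2 - 1) := by
  rw [card_SL]
  simp

/-- Order of `PGL_2(q)`. -/
theorem card_PGL_two :
    Nat.card (ProjGenLinGroup (Fin 2) F) = Nat.card F * (Nat.card F ^ 2 - 1) := by
  rw [card_PGL, card_SL_two]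

/-- Order of `PSL_2(q)`. -/
theorem card_PSL_two :
    Nat.card (ProjectiveSpecialLinearGroup (Fin 2) F) =
      Nat.card F * (Nat.card F ^ 2 - 1) / Nat.gcd 2 (Nat.card F - 1) := by
  rw [card_PSL, card_SL_two, Fintype.card_fin]

/-- `2 * |PSL_2(q)| = q (q^2 - 1)` for odd `q`. -/
theorem card_PSL_two_of_odd (h : Odd (Nat.card F)) :
    2 * Nat.card (ProjectiveSpecialLinearGroup (Fin 2) F) =
      Nat.card F * (Nat.card F ^ 2 - 1) := by
  have hg : Nat.gcd 2 (Nat.card F - 1) = 2 :=
    Nat.gcd_eq_left (by obtain ⟨k, hk⟩ := h; omega)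
  rw [← card_SL_two, ← card_PSL_mul (ι := Fin 2) (F := F), Fintype.card_fin, hg]

/-- `|PSL_2(q)| = q (q^2 - 1)` for even `q`. -/
theorem card_PSL_two_of_even (h : Even (Nat.card F)) :
    Nat.card (ProjectiveSpecialLinearGroup (Fin 2) F) =
      Nat.card F * (Nat.card F ^ 2 - 1) := by
  have hg : Nat.gcd 2 (Nat.card F - 1) = 1 := by
    have hq : 1 < Nat.card F := one_lt_card_field
    have hodd : Odd (Nat.card F - 1) := by
      obtain ⟨k, hk⟩ := h
      exact ⟨k - 1, by omega⟩
    exact Nat.coprime_two_left.2 hodd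
  rw [← card_SL_two, ← card_PSL_mul (ι := Fin 2) (F := F), Fintype.card_fin, hg, one_mul]

section Sylow

/-- The cardinality of a finite field of characteristic `p` is a positive power of `p`. -/
theorem exists_card_eq_pow (p : ℕ) [Fact p.Prime] [CharP F p] :
    ∃ f : ℕ, 0 < f ∧ Nat.card F = p ^ f := by
  have := Fintype.ofFinite F
  obtain ⟨n, -, hn⟩ := FiniteField.card F p
  exact ⟨n, n.2, by rw [Nat.card_eq_fintype_card, hn]⟩

theorem not_dvd_pow_sub_one (p : ℕ) [Fact p.Prime] [CharP F p] {k : ℕ} (hk : k ≠ 0) :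
    ¬ p ∣ Nat.card F ^ k - 1 := by
  obtain ⟨f, hf, hq⟩ := exists_card_eq_pow (F := F) p
  have hp : p.Prime := Fact.out
  have hd : p ∣ Nat.card F ^ k := by
    rw [hq, ← pow_mul]
    exact dvd_pow_self p (Nat.mul_ne_zero hf.ne' hk)
  intro h
  have h1 : 1 ≤ Nat.card F ^ k := Nat.one_le_pow _ _ card_field_pos
  have h2 := Nat.dvd_sub hd h
  rw [Nat.sub_sub_self h1] at h2
  exact hp.not_dvd_one h2

/-- The order of a Sylow `p`-subgroup of a group of order `p ^ k * M`, `p ∤ M`. -/
theorem card_sylow_of_card_eq {G : Type*} [Group G] [Finite G] {p : ℕ} [hp : Fact p.Prime]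
    {k M : ℕ} (h : Nat.card G = p ^ k * M) (hM : ¬ p ∣ M) (P : Sylow p G) :
    Nat.card P = p ^ k := by
  have hM0 : M ≠ 0 := by rintro rfl; exact hM (dvd_zero p)
  rw [P.card_eq_multiplicity, h, Nat.factorization_mul (pow_ne_zero _ hp.out.ne_zero) hM0,
    Finsupp.add_apply, Nat.Prime.factorization_pow hp.out, Finsupp.single_eq_same,
    Nat.factorization_eq_zero_of_not_dvd hM, add_zero]

theorem not_dvd_prod_pow_sub_one (p : ℕ) [Fact p.Prime] [CharP F p] (s : Finset ℕ) :
    ¬ p ∣ ∏ i ∈ s, (Nat.card F ^ (i + 1) - 1) := by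
  have hp : Prime p := Nat.prime_iff.1 Fact.out
  intro h
  obtain ⟨i, -, hi⟩ := hp.exists_mem_finset_dvd h
  exact not_dvd_pow_sub_one p (Nat.succ_ne_zero i) hi

/-- A Sylow subgroup of `GL_n(q)` for the characteristic has order `q^(n(n-1)/2)`. -/
theorem card_sylow_GL (p : ℕ) [Fact p.Prime] [CharP F p] (n : ℕ)
    (P : Sylow p (GL (Fin n) F)) : Nat.card P = Nat.card F ^ (n * (n - 1) / 2) := by
  obtain ⟨f, -, hq⟩ := exists_card_eq_pow (F := F) p
  have h := card_GL' (F := F) n
  rw [hq, ← pow_mul] at h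
  rw [hq, ← pow_mul]
  refine card_sylow_of_card_eq h ?_ P
  rw [← hq]
  exact not_dvd_prod_pow_sub_one p _

/-- A Sylow subgroup of `SL_n(q)` for the characteristic has order `q^(n(n-1)/2)`. -/
theorem card_sylow_SL (p : ℕ) [Fact p.Prime] [CharP F p] (n : ℕ)
    (P : Sylow p (SpecialLinearGroup (Fin n) F)) :
    Nat.card P = Nat.card F ^ (n * (n - 1) / 2) := by
  obtain ⟨f, -, hq⟩ := exists_card_eq_pow (F := F) p
  have h := card_SL (F := F) n
  rw [hq, ← pow_mul] at h
  rw [hq, ← pow_mul]
  refine card_sylow_of_card_eq h ?_ P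
  rw [← hq]
  exact not_dvd_prod_pow_sub_one p _

end Sylow

end Cfsg.Agent.GLOrder
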