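/-
`GL_2` and `SL_2` over a field: unipotent and Borel subgroups, Sylow subgroups in the
characteristic, unique involution, centre.

Main results (namespace `Cfsg.Agent.GLOrder`):
* `upperU`, `borel`            : the subgroups `[1,*;0,1]` and `[*,*;0,*]` of `GL_2`
* `card_upperU`, `card_borel`, `normalizer_upperU`, `mem_borel_of_conj_mem`
* `exists_conj_upperU`         : every Sylow `p`-subgroup of `GL_2(q)` is conjugate to `upperU`
* `upperS`, `lowerS`           : root subgroups of `SL_2`; `upperS_sup_lowerS`, `upperS_sup_conj`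
* `exists_conj_upperS`         : every Sylow `p`-subgroup of `SL_2(q)` is conjugate to `upperS`
* `SL2_eq_one_or_neg_one_of_sq`, `SL2_sq_eq_neg_one`, `center_SL2`
-/
import Cfsg.Agent.Lib.GLOrder.Basic

set_option autoImplicit false
set_option linter.unusedSectionVars false

namespace Cfsg.Agent.GLOrder

open Matrix
open scoped MatrixGroups Pointwise

variable {F : Type*} [Field F]

/-- Entries of a product in `GL_2`. -/
theorem GL2_mul_apply (g h : GL (Fin 2) F) (i j : Fin 2) :
    (g * h) i j = g i 0 * h 0 j + g i 1 * h 1 j := by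
  rw [GeneralLinearGroup.coe_mul, Matrix.mul_apply, Fin.sum_univ_two]

theorem GL2_det (g : GL (Fin 2) F) : g 0 0 * g 1 1 - g 0 1 * g 1 0 ≠ 0 := by
  have := GeneralLinearGroup.det_ne_zero g
  rwa [Matrix.det_fin_two] at this

theorem GL2_inv_lower (g : GL (Fin 2) F) (h : g 1 0 = 0) : g⁻¹ 1 0 = 0 := by
  have h1 := GL2_mul_apply g g⁻¹ 1 0
  rw [mul_inv_cancel, h, zero_mul, zero_add] at h1
  have hd := GL2_det g
  rw [h, mul_zero, sub_zero] at hd
  have h0 : (1 : GL (Fin 2) F) 1 0 = 0 := by simp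
  rw [h0] at h1
  exact (mul_eq_zero.1 h1.symm).resolve_left (right_ne_zero_of_mul hd)

/-- The upper triangular matrices in `GL_2`. -/
def borel (F : Type*) [Field F] : Subgroup (GL (Fin 2) F) where
  carrier := {g | g 1 0 = 0}
  mul_mem' {a b} ha hb := by
    simp only [Set.mem_ofPred_eq] at ha hb ⊢
    rw [GL2_mul_apply, ha, hb]; ring
  one_mem' := by simp
  inv_mem' {a} ha := GL2_inv_lower a ha

/-- The upper unitriangular matrices in `GL_2`. -/
def upperU (F : Type*) [Field F] : Subgroup (GL (Fin 2) F) :=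
  (GeneralLinearGroup.upperRightHom (R := F)).toMonoidHom.range

theorem mem_borel {g : GL (Fin 2) F} : g ∈ borel F ↔ g 1 0 = 0 := Iff.rfl

theorem upperRightHom_mem (b : F) : GeneralLinearGroup.upperRightHom b ∈ upperU F :=
  ⟨Multiplicative.ofAdd b, rfl⟩

theorem mem_upperU {g : GL (Fin 2) F} :
    g ∈ upperU F ↔ g 0 0 = 1 ∧ g 1 0 = 0 ∧ g 1 1 = 1 := by
  constructor
  · rintro ⟨x, rfl⟩
    simp
  · rintro ⟨h0, h1, h2⟩
    refine ⟨Multiplicative.ofAdd (g 0 1), ?_⟩
    apply GeneralLinearGroup.ext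
    intro i j
    fin_cases i <;> fin_cases j <;> simp [h0, h1, h2]

theorem upperU_le_borel : upperU F ≤ borel F := fun _ hg => (mem_upperU.1 hg).2.1

theorem card_upperU : Nat.card (upperU F) = Nat.card F := by
  have hinj : Function.Injective ((GeneralLinearGroup.upperRightHom (R := F)).toMonoidHom) :=
    fun a b h => by
      have := GeneralLinearGroup.injective_upperRightHom (R := F) (a₁ := a.toAdd) (a₂ := b.toAdd) h
      simpa using this
  rw [upperU, ← Nat.card_congr (MonoidHom.ofInjective hinj).toEquiv]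
  exact Nat.card_congr Multiplicative.toAdd

theorem coe_mkOfDetNeZero {n : Type*} [Fintype n] [DecidableEq n] (A : Matrix n n F)
    (h : A.det ≠ 0) : (GeneralLinearGroup.mkOfDetNeZero A h : Matrix n n F) = A := rfl

/-- The Borel subgroup as `Fˣ × Fˣ × F`. -/
noncomputable def borelEquiv (F : Type*) [Field F] : borel F ≃ Fˣ × Fˣ × F where
  toFun g :=
    have hd : (g : GL (Fin 2) F) 0 0 * (g : GL (Fin 2) F) 1 1 ≠ 0 := by
      have h := GL2_det (g : GL (Fin 2) F)
      rwa [mem_borel.1 g.2, mul_zero, sub_zero] at h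
    (Units.mk0 _ (left_ne_zero_of_mul hd), Units.mk0 _ (right_ne_zero_of_mul hd),
      (g : GL (Fin 2) F) 0 1)
  invFun x := ⟨GeneralLinearGroup.mkOfDetNeZero !![(x.1 : F), x.2.2; 0, (x.2.1 : F)]
    (by simp [Matrix.det_fin_two]), by
      rw [mem_borel]; simp⟩
  left_inv g := by
    apply Subtype.ext
    apply GeneralLinearGroup.ext
    intro i j
    have := mem_borel.1 g.2
    fin_cases i <;> fin_cases j <;>
      simp [this]
  right_inv x := by
    ext <;> simp

theorem card_borel [Finite F] :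
    Nat.card (borel F) = Nat.card F * (Nat.card F - 1) ^ 2 := by
  rw [Nat.card_congr (borelEquiv F), Nat.card_prod, Nat.card_prod, card_units]
  ring

/-- If a conjugate of a nontrivial element of `upperU` lies in `upperU`, the conjugating element
is upper triangular. -/
theorem mem_borel_of_conj_mem {g u : GL (Fin 2) F} (hu : u ∈ upperU F) (hu1 : u ≠ 1)
    (h : g * u * g⁻¹ ∈ upperU F) : g ∈ borel F := by
  obtain ⟨h0, h1, h2⟩ := mem_upperU.1 hu
  have hb : u 0 1 ≠ 0 := by
    intro hb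
    apply hu1
    apply GeneralLinearGroup.ext
    intro i j
    fin_cases i <;> fin_cases j <;> simp [h0, h1, h2, hb]
  obtain ⟨v0, v1, v2⟩ := mem_upperU.1 h
  have e := GL2_mul_apply (g * u * g⁻¹) g 1 1
  rw [inv_mul_cancel_right, v1, v2, GL2_mul_apply, h2] at e
  rw [mem_borel]
  have e' : g 1 0 * u 0 1 = 0 := by linear_combination e
  exact (mul_eq_zero.1 e').resolve_right hb

theorem conj_mem_upperU {g u : GL (Fin 2) F} (hg : g ∈ borel F) (hu : u ∈ upperU F) :
    g * u * g⁻¹ ∈ upperU F := by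
  obtain ⟨h0, h1, h2⟩ := mem_upperU.1 hu
  have hg0 : g 1 0 = 0 := hg
  have hg' : g⁻¹ 1 0 = 0 := GL2_inv_lower g hg0
  have a0 := GL2_mul_apply g g⁻¹ 0 0
  have a1 := GL2_mul_apply g g⁻¹ 1 1
  rw [mul_inv_cancel] at a0 a1
  simp only [hg0, hg', Units.val_one, one_apply_eq, mul_zero, zero_mul, add_zero,
    zero_add] at a0 a1
  rw [mem_upperU]
  refine ⟨?_, ?_, ?_⟩
  · rw [GL2_mul_apply, GL2_mul_apply, h0, h1, hg']
    linear_combination -a0
  · rw [GL2_mul_apply, GL2_mul_apply, h1, hg0, hg']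
    ring
  · rw [GL2_mul_apply, GL2_mul_apply, GL2_mul_apply, h1, h2, hg0]
    linear_combination -a1

theorem exists_ne_one_upperU : ∃ u ∈ upperU F, u ≠ 1 := by
  refine ⟨_, upperRightHom_mem (1 : F), fun h => ?_⟩
  have h' := congrArg (fun g : GL (Fin 2) F => g 0 1) h
  simp at h'

theorem normalizer_upperU :
    Subgroup.normalizer (upperU F : Set (GL (Fin 2) F)) = borel F := by
  ext g
  rw [Subgroup.mem_normalizer_iff]
  constructor
  · intro h
    obtain ⟨u, hu, hu1⟩ := exists_ne_one_upperU (F := F)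
    exact mem_borel_of_conj_mem hu hu1 ((h u).1 hu)
  · intro hg u
    refine ⟨conj_mem_upperU hg, fun h => ?_⟩
    have := conj_mem_upperU (inv_mem hg) h
    simpa [mul_assoc] using this

/-- Every Sylow `p`-subgroup of `GL_2(q)` (`p` the characteristic) is conjugate to `upperU`. -/
theorem exists_conj_upperU [Finite F] (p : ℕ) [Fact p.Prime] [CharP F p]
    (P : Sylow p (GL (Fin 2) F)) :
    ∃ g : GL (Fin 2) F,
      (P : Subgroup (GL (Fin 2) F)) = (upperU F).map (MulAut.conj g).toMonoidHom := by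
  have hq : Nat.card (upperU F) = p ^ (Nat.card (GL (Fin 2) F)).factorization p := by
    rw [card_upperU, ← P.card_eq_multiplicity, card_sylow_GL p 2 P]
    simp
  obtain ⟨g, hg⟩ := MulAction.exists_smul_eq (GL (Fin 2) F) (Sylow.ofCard (upperU F) hq) P
  exact ⟨g, by rw [← hg]; rfl⟩

theorem mem_map_conj_iff {G : Type*} [Group G] {H : Subgroup G} {g x : G} :
    x ∈ H.map (MulAut.conj g).toMonoidHom ↔ g⁻¹ * x * g ∈ H := by
  rw [Subgroup.mem_map]
  constructor
  · rintro ⟨y, hy, rfl⟩
    simpa [mul_assoc] using hy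
  · intro h
    exact ⟨_, h, by simp [mul_assoc]⟩

/-- The centraliser of a nontrivial element of `upperU`: scalars times `upperU`. -/
theorem mem_centralizer_upperU {u : GL (Fin 2) F} (hu : u ∈ upperU F) (hu1 : u ≠ 1)
    (x : GL (Fin 2) F) :
    x ∈ Subgroup.centralizer ({u} : Set (GL (Fin 2) F)) ↔ x 1 0 = 0 ∧ x 1 1 = x 0 0 := by
  obtain ⟨h0, h1, h2⟩ := mem_upperU.1 hu
  have hb : u 0 1 ≠ 0 := by
    intro hb
    apply hu1
    apply GeneralLinearGroup.ext
    intro i j
    fin_cases i <;> fin_cases j <;> simp [h0, h1, h2, hb]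
  rw [Subgroup.mem_centralizer_singleton_iff, GeneralLinearGroup.ext_iff]
  simp only [Fin.forall_fin_two, GL2_mul_apply, h0, h1, h2]
  constructor
  · rintro ⟨⟨e00, e01⟩, -, -⟩
    constructor
    · exact (mul_eq_zero.1 (by linear_combination -e00 : u 0 1 * x 1 0 = 0)).resolve_left hb
    · have : u 0 1 * (x 1 1 - x 0 0) = 0 := by linear_combination -e01
      exact sub_eq_zero.1 ((mul_eq_zero.1 this).resolve_left hb)
  · rintro ⟨e10, e11⟩
    simp only [e10, e11]
    refine ⟨⟨?_, ?_⟩, ?_, ?_⟩ <;> ring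

theorem card_centralizer_upperU [Finite F] {u : GL (Fin 2) F} (hu : u ∈ upperU F) (hu1 : u ≠ 1) :
    Nat.card (Subgroup.centralizer ({u} : Set (GL (Fin 2) F))) =
      Nat.card F * (Nat.card F - 1) := by
  let S : Set (Fˣ × Fˣ × F) := {t | t.2.1 = t.1}
  have e : Subgroup.centralizer ({u} : Set (GL (Fin 2) F)) ≃ S :=
    { toFun := fun x => ⟨borelEquiv F ⟨x, ((mem_centralizer_upperU hu hu1 _).1 x.2).1⟩,
        Units.ext ((mem_centralizer_upperU hu hu1 _).1 x.2).2⟩
      invFun := fun t => ⟨((borelEquiv F).symm t : borel F), (mem_centralizer_upperU hu hu1 _).2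
        ⟨((borelEquiv F).symm t).2, congrArg Units.val t.2⟩⟩
      left_inv := fun x => by simp
      right_inv := fun t => by apply Subtype.ext; exact (borelEquiv F).apply_symm_apply _ }
  have e' : S ≃ Fˣ × F :=
    { toFun := fun t => (t.1.1, t.1.2.2)
      invFun := fun t => ⟨(t.1, t.1, t.2), rfl⟩
      left_inv := fun t => by
        obtain ⟨⟨a, b, c⟩, h⟩ := t
        change b = a at h; subst h; rfl
      right_inv := fun t => rfl }
  rw [Nat.card_congr (e.trans e'), Nat.card_prod, card_units, mul_comm]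

section SL2

/-- Entries of a product in `SL_2`. -/
theorem SL2_mul_apply (g h : SL(2, F)) (i j : Fin 2) :
    (g * h) i j = g i 0 * h 0 j + g i 1 * h 1 j := by
  show ((g : Matrix (Fin 2) (Fin 2) F) * (h : Matrix (Fin 2) (Fin 2) F)) i j = _
  rw [Matrix.mul_apply, Fin.sum_univ_two]

theorem SL2_det (g : SL(2, F)) : g 0 0 * g 1 1 - g 0 1 * g 1 0 = 1 := by
  rw [← Matrix.det_fin_two]; exact g.2

/-- The upper root subgroup `[1,*;0,1]` of `SL_2`. -/
def upperS (F : Type*) [Field F] : Subgroup SL(2, F) :=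
  (upperU F).comap SpecialLinearGroup.toGL

/-- The lower root subgroup `[1,0;*,1]` of `SL_2`. -/
def lowerS (F : Type*) [Field F] : Subgroup SL(2, F) where
  carrier := {g | g 0 0 = 1 ∧ g 0 1 = 0 ∧ g 1 1 = 1}
  mul_mem' {a b} ha hb := by
    obtain ⟨a0, a1, a2⟩ := ha
    obtain ⟨b0, b1, b2⟩ := hb
    refine ⟨?_, ?_, ?_⟩ <;> rw [SL2_mul_apply] <;> simp [a0, a1, a2, b0, b1, b2]
  one_mem' := by simp
  inv_mem' {a} ha := by
    obtain ⟨a0, a1, a2⟩ := ha
    rw [SpecialLinearGroup.SL2_inv_expl]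
    refine ⟨?_, ?_, ?_⟩ <;> simp [a0, a1, a2]

theorem mem_upperS {g : SL(2, F)} :
    g ∈ upperS F ↔ g 0 0 = 1 ∧ g 1 0 = 0 ∧ g 1 1 = 1 :=
  mem_upperU (g := SpecialLinearGroup.toGL g)

theorem mem_lowerS {g : SL(2, F)} :
    g ∈ lowerS F ↔ g 0 0 = 1 ∧ g 0 1 = 0 ∧ g 1 1 = 1 := Iff.rfl

theorem upperU_le_range_toGL :
    upperU F ≤ (SpecialLinearGroup.toGL : SL(2, F) →* GL (Fin 2) F).range := by
  intro g hg
  obtain ⟨h0, h1, h2⟩ := mem_upperU.1 hg
  exact ⟨⟨g, by rw [Matrix.det_fin_two, h0, h1, h2]; ring⟩, Units.ext rfl⟩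

theorem card_upperS : Nat.card (upperS F) = Nat.card F := by
  rw [← card_upperU (F := F), ← Subgroup.map_comap_eq_self (upperU_le_range_toGL (F := F))]
  exact Nat.card_congr
    (Subgroup.equivMapOfInjective _ _ SpecialLinearGroup.toGL_injective).toEquiv

theorem upperS_sup_lowerS : upperS F ⊔ lowerS F = ⊤ := by
  rw [eq_top_iff]
  intro A _
  refine Matrix.SL2.transvection_induction _ (fun i j hij c => ?_)
    (fun _ _ => mul_mem) A
  fin_cases i <;> fin_cases j
  · exact absurd rfl hij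
  · exact Subgroup.mem_sup_left (mem_upperS.2 (by simp [SpecialLinearGroup.transvection_coe]))
  · exact Subgroup.mem_sup_right (mem_lowerS.2 (by simp [SpecialLinearGroup.transvection_coe]))
  · exact absurd rfl hij

/-- `upperS` and any other conjugate of it generate `SL_2`. -/
theorem upperS_sup_conj {g : SL(2, F)} (hg : g 1 0 ≠ 0) :
    upperS F ⊔ (upperS F).map (MulAut.conj g).toMonoidHom = ⊤ := by
  rw [eq_top_iff, ← upperS_sup_lowerS]
  refine sup_le le_sup_left fun l hl => ?_
  obtain ⟨l0, l1, l2⟩ := mem_lowerS.1 hl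
  let x : SL(2, F) := ⟨!![1, g 0 0 / g 1 0; 0, 1], by simp [Matrix.det_fin_two]⟩
  let u : SL(2, F) := ⟨!![1, -l 1 0 / g 1 0 ^ 2; 0, 1], by simp [Matrix.det_fin_two]⟩
  have hx : x ∈ upperS F := mem_upperS.2 (by simp [x])
  have hu : u ∈ upperS F := mem_upperS.2 (by simp [u])
  have y00 : (x⁻¹ * g) 0 0 = 0 := by
    rw [SL2_mul_apply, SpecialLinearGroup.SL2_inv_expl]
    simp [x]; field_simp; ring
  have y10 : (x⁻¹ * g) 1 0 = g 1 0 := by
    rw [SL2_mul_apply, SpecialLinearGroup.SL2_inv_expl]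
    simp [x]
  have hd := SL2_det (x⁻¹ * g)
  rw [y00, y10, zero_mul, zero_sub] at hd
  generalize hy : x⁻¹ * g = y at y00 y10 hd
  have key : y * u = l * y := by
    ext i j
    rw [SL2_mul_apply y u, SL2_mul_apply l y]
    fin_cases i <;> fin_cases j <;> simp [u, l0, l1, l2, y00, y10]
    have : y 0 1 = -(g 1 0)⁻¹ := by
      rw [eq_neg_iff_add_eq_zero]; field_simp; linear_combination -hd
    rw [this]; field_simp
  have hl' : l = x⁻¹ * (g * u * g⁻¹) * x := by
    rw [eq_mul_inv_of_mul_eq key.symm, ← hy]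
    group
  have hgu : g * u * g⁻¹ ∈ upperS F ⊔ (upperS F).map (MulAut.conj g).toMonoidHom :=
    Subgroup.mem_sup_right (Subgroup.mem_map_of_mem _ hu)
  have hxm := Subgroup.mem_sup_left (T := (upperS F).map (MulAut.conj g).toMonoidHom) hx
  rw [hl']
  exact mul_mem (mul_mem (inv_mem hxm) hgu) hxm

/-- Every Sylow `p`-subgroup of `SL_2(q)` (`p` the characteristic) is conjugate to `upperS`. -/
theorem exists_conj_upperS [Finite F] (p : ℕ) [Fact p.Prime] [CharP F p]
    (P : Sylow p SL(2, F)) :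
    ∃ g : SL(2, F), (P : Subgroup SL(2, F)) = (upperS F).map (MulAut.conj g).toMonoidHom := by
  have hq : Nat.card (upperS F) = p ^ (Nat.card SL(2, F)).factorization p := by
    rw [card_upperS, ← P.card_eq_multiplicity, card_sylow_SL p 2 P]
    simp
  obtain ⟨g, hg⟩ := MulAction.exists_smul_eq SL(2, F) (Sylow.ofCard (upperS F) hq) P
  exact ⟨g, by rw [← hg]; rfl⟩

theorem conj_mem_upperS {g u : SL(2, F)} (hg : g 1 0 = 0) (hu : u ∈ upperS F) :
    g * u * g⁻¹ ∈ upperS F := by
  have := conj_mem_upperU (g := SpecialLinearGroup.toGL g) (u := SpecialLinearGroup.toGL u) hg hu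
  rw [← map_inv, ← map_mul, ← map_mul] at this
  exact this

/-- `A * A = 1` in `SL_2` forces `A = 1` or `A = -1` (for `2 ≠ 0`). -/
theorem SL2_eq_one_or_neg_one_of_sq (h2 : (2 : F) ≠ 0) {g : SL(2, F)} (h : g * g = 1) :
    g = 1 ∨ g = -1 := by
  have hinv : g⁻¹ = g := inv_eq_of_mul_eq_one_right h
  rw [SpecialLinearGroup.SL2_inv_expl] at hinv
  have e01 := congrArg (fun A : SL(2, F) => A 0 1) hinv
  have e10 := congrArg (fun A : SL(2, F) => A 1 0) hinv
  have e00 := congrArg (fun A : SL(2, F) => A 0 0) hinv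
  simp at e01 e10 e00
  have hb : g 0 1 = 0 := by
    have : (2 : F) * g 0 1 = 0 := by linear_combination -e01
    exact (mul_eq_zero.1 this).resolve_left h2
  have hc : g 1 0 = 0 := by
    have : (2 : F) * g 1 0 = 0 := by linear_combination -e10
    exact (mul_eq_zero.1 this).resolve_left h2
  have hd := SL2_det g
  rw [hb, zero_mul, sub_zero, e00] at hd
  have : (g 0 0 - 1) * (g 0 0 + 1) = 0 := by linear_combination hd
  rcases mul_eq_zero.1 this with h' | h'
  · left
    have ha : g 0 0 = 1 := sub_eq_zero.1 h'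
    ext i j; fin_cases i <;> fin_cases j <;> simp [ha, hb, hc, e00]
  · right
    have ha : g 0 0 = -1 := eq_neg_of_add_eq_zero_left h'
    ext i j; fin_cases i <;> fin_cases j <;> simp [ha, hb, hc, e00]

/-- A trace-zero element of `SL_2` squares to `-1`. -/
theorem SL2_sq_eq_neg_one {g : SL(2, F)} (h : g 0 0 + g 1 1 = 0) : g * g = -1 := by
  have hd := SL2_det g
  have h11 : g 1 1 = -g 0 0 := eq_neg_of_add_eq_zero_right h
  rw [h11] at hd
  ext i j
  fin_cases i <;> fin_cases j <;> simp [SL2_mul_apply, h11] <;>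
    (first | ring1 | linear_combination hd | linear_combination -hd)

theorem center_SL2 {g : SL(2, F)} :
    g ∈ Subgroup.center SL(2, F) ↔ g = 1 ∨ g = -1 := by
  constructor
  · intro hg
    obtain ⟨r, hr, hA⟩ := Matrix.SpecialLinearGroup.mem_center_iff.1 hg
    rw [Fintype.card_fin, sq_eq_one_iff] at hr
    rcases hr with rfl | rfl
    · left; apply Subtype.ext; rw [← hA]; simp
    · right; apply Subtype.ext; rw [← hA, map_neg, map_one]; rfl
  · rintro (rfl | rfl)
    · exact one_mem _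
    · exact Subgroup.mem_center_iff.2 fun x => by simp

end SL2

end Cfsg.Agent.GLOrder
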