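/-
Tori of `SL_2(q)` and `GL_2(q)`, cyclic and quaternion Sylow subgroups of `SL_2(q)`.

Main results (namespace `Cfsg.Agent.GLOrder`):
* `diagS`                    : the split torus hom `Fˣ →* SL(2,F)`
* `exists_cyclic_GL_two`     : `GL_2(q)` has an element of order `q^2 - 1`
* `exists_orderOf_SL_two`    : an element of order `d` in `SL_2(q)` for `d ∣ q-1` or `d ∣ q+1`
* `isCyclic_sylow_SL_two`    : odd `r`, not the characteristic: Sylow `r`-subgroups are cyclic
* `exists_inverting`         : elements inverting a given torus element, squaring to `-1`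
* `sylow_two_SL_two`         : for odd `q` the Sylow 2-subgroup is generalised quaternion
-/
import Cfsg.Agent.Lib.GLOrder.Two

set_option autoImplicit false
set_option linter.unusedSectionVars false
set_option linter.style.haveILetI false

namespace Cfsg.Agent.GLOrder

open Matrix
open scoped MatrixGroups

variable {F : Type*} [Field F]

/-- The split torus of `SL_2`. -/
def diagS (F : Type*) [Field F] : Fˣ →* SL(2, F) where
  toFun u := ⟨!![(u : F), 0; 0, ((u⁻¹ : Fˣ) : F)], by simp [Matrix.det_fin_two]⟩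
  map_one' := by ext i j; fin_cases i <;> fin_cases j <;> simp
  map_mul' u v := by
    apply Subtype.ext
    show (!![((u * v : Fˣ) : F), 0; 0, (((u * v)⁻¹ : Fˣ) : F)] : Matrix (Fin 2) (Fin 2) F) =
      !![(u : F), 0; 0, ((u⁻¹ : Fˣ) : F)] * !![(v : F), 0; 0, ((v⁻¹ : Fˣ) : F)]
    rw [Matrix.mul_fin_two]
    simp [mul_comm]

theorem diagS_injective : Function.Injective (diagS F) := fun u v h => by
  apply Units.ext
  exact congrFun (congrFun (congrArg Subtype.val h) 0) 0

theorem exists_orderOf_of_dvd {G : Type*} [Group G] [Finite G] [IsCyclic G] {d : ℕ}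
    (hd : d ∣ Nat.card G) : ∃ g : G, orderOf g = d := by
  obtain ⟨g, hg⟩ := IsCyclic.exists_ofOrder_eq_natCard (α := G)
  have hd0 : d ≠ 0 := fun h => Nat.card_pos.ne' (Nat.eq_zero_of_zero_dvd (h ▸ hd))
  refine ⟨g ^ (Nat.card G / d), ?_⟩
  rw [orderOf_pow, hg, Nat.gcd_eq_right (Nat.div_dvd_of_dvd hd), Nat.div_div_self hd Nat.card_pos.ne']

theorem sq_sub_one (q : ℕ) : q ^ 2 - 1 = (q + 1) * (q - 1) := by
  rcases q with _ | r
  · rfl
  · exact Nat.sub_eq_of_eq_add (by simp; ring)

section Finite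

variable [Finite F]

theorem exists_nonsplit_hom :
    ∃ (L : Type) (_ : Field L) (_ : Finite L) (φ : Lˣ →* GL (Fin 2) F),
      Function.Injective φ ∧ Nat.card L = Nat.card F ^ 2 := by
  obtain ⟨p, hp⟩ := CharP.exists F
  haveI : Fact p.Prime := ⟨CharP.char_prime_of_ne_zero F (CharP.char_ne_zero_of_finite F p)⟩
  let L := FiniteField.Extension F p 2
  let b : Module.Basis (Fin 2) F L :=
    Module.finBasisOfFinrankEq F L (FiniteField.finrank_extension F p 2)
  refine ⟨L, inferInstance, inferInstance, Units.map (Algebra.leftMulMatrix b).toMonoidHom, ?_,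
    FiniteField.natCard_extension F p 2⟩
  exact Units.map_injective (Algebra.leftMulMatrix_injective b)

/-- `GL_2(q)` contains a cyclic subgroup of order `q^2 - 1`. -/
theorem exists_cyclic_GL_two : ∃ g : GL (Fin 2) F, orderOf g = Nat.card F ^ 2 - 1 := by
  obtain ⟨L, _, _, φ, hφ, hL⟩ := exists_nonsplit_hom (F := F)
  obtain ⟨g, hg⟩ := IsCyclic.exists_ofOrder_eq_natCard (α := Lˣ)
  exact ⟨φ g, by rw [orderOf_injective φ hφ, hg, Nat.card_units, hL]⟩

/-- `SL_2(q)` has elements of every order dividing `q - 1` or `q + 1`. -/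
theorem exists_orderOf_SL_two {d : ℕ} (hd : d ∣ Nat.card F - 1 ∨ d ∣ Nat.card F + 1) :
    ∃ g : SL(2, F), orderOf g = d := by
  rcases hd with hd | hd
  · rw [← card_units] at hd
    obtain ⟨u, hu⟩ := exists_orderOf_of_dvd hd
    exact ⟨diagS F u, by rw [orderOf_injective _ diagS_injective, hu]⟩
  · obtain ⟨L, _, _, φ, hφ, hL⟩ := exists_nonsplit_hom (F := F)
    let ψ : Lˣ →* Fˣ := GeneralLinearGroup.det.comp φ
    have h1 := ψ.ker.card_mul_index
    rw [Subgroup.index_ker, Nat.card_units, hL, sq_sub_one] at h1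
    obtain ⟨s, hs⟩ : Nat.card ψ.range ∣ Nat.card F - 1 :=
      card_units (F := F) ▸ Subgroup.card_subgroup_dvd_card ψ.range
    rw [hs, mul_comm (Nat.card ψ.range) s, ← mul_assoc] at h1
    have h2 := Nat.eq_of_mul_eq_mul_right Nat.card_pos h1
    obtain ⟨k, hk⟩ := exists_orderOf_of_dvd (G := ψ.ker) (d := d) (h2 ▸ hd.mul_right s)
    have hmem : φ k ∈ (SpecialLinearGroup.toGL : SL(2, F) →* GL (Fin 2) F).range := by
      rw [range_toGL]; exact MonoidHom.mem_ker.2 (MonoidHom.mem_ker.1 k.2)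
    obtain ⟨g, hg⟩ := hmem
    refine ⟨g, ?_⟩
    rw [← orderOf_injective _ SpecialLinearGroup.toGL_injective, hg, orderOf_injective φ hφ,
      ← hk]
    exact Subgroup.orderOf_coe k

theorem card_SL_two' :
    Nat.card SL(2, F) = Nat.card F * (Nat.card F + 1) * (Nat.card F - 1) := by
  rw [card_SL_two, sq_sub_one, mul_assoc]

/-- For an odd prime `r` different from the characteristic the Sylow `r`-subgroups of `SL_2(q)`
are cyclic. -/
theorem isCyclic_sylow_SL_two (p : ℕ) [Fact p.Prime] [CharP F p] (r : ℕ) [hr : Fact r.Prime]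
    (hr2 : r ≠ 2) (hrp : r ≠ p) (R : Sylow r SL(2, F)) :
    IsCyclic (R : Subgroup SL(2, F)) := by
  obtain ⟨f, -, hq⟩ := exists_card_eq_pow (F := F) p
  have hd := Subgroup.card_subgroup_dvd_card (R : Subgroup SL(2, F))
  rw [R.card_eq_multiplicity] at hd
  generalize hk : (Nat.card SL(2, F)).factorization r = k at hd
  rw [card_SL_two', mul_assoc] at hd
  have hcq : Nat.Coprime (r ^ k) (Nat.card F) := by
    rw [hq]; exact Nat.Coprime.pow _ _ ((Nat.coprime_primes hr.out Fact.out).2 hrp)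
  replace hd := hcq.dvd_of_dvd_mul_left hd
  have hor : r ^ k ∣ Nat.card F - 1 ∨ r ^ k ∣ Nat.card F + 1 := by
    by_cases h : r ∣ Nat.card F - 1
    · left
      refine Nat.Coprime.dvd_of_dvd_mul_left ?_ hd
      refine Nat.Coprime.pow_left _ ((hr.out.coprime_iff_not_dvd).2 fun h' => hr2 ?_)
      have h2 := Nat.dvd_sub h' h
      have hq1 := one_lt_card_field (F := F)
      rw [show Nat.card F + 1 - (Nat.card F - 1) = 2 by omega] at h2
      exact (Nat.prime_dvd_prime_iff_eq hr.out Nat.prime_two).1 h2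
    · right
      exact Nat.Coprime.dvd_of_dvd_mul_right
        (Nat.Coprime.pow_left _ ((hr.out.coprime_iff_not_dvd).2 h)) hd
  obtain ⟨g, hg⟩ := exists_orderOf_SL_two hor
  let Q : Sylow r SL(2, F) := Sylow.ofCard (Subgroup.zpowers g) (by rw [Nat.card_zpowers, hg, hk])
  haveI : IsCyclic (Q : Subgroup SL(2, F)) := inferInstanceAs (IsCyclic (Subgroup.zpowers g))
  exact isCyclic_of_surjective (Q.equiv R) (Q.equiv R).surjective

end Finite

theorem SL2_cayley_hamilton (g : SL(2, F)) :
    (g : Matrix (Fin 2) (Fin 2) F) * g = (g 0 0 + g 1 1) • (g : Matrix (Fin 2) (Fin 2) F) - 1 := by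
  have hd := SL2_det g
  ext i j
  fin_cases i <;> fin_cases j <;> simp [Matrix.mul_apply] <;>
    (first | ring1 | linear_combination hd | linear_combination -hd)

/-- An element of `SL_2` of finite order prime to the characteristic and of trace `±2` is `±1`. -/
theorem eq_one_or_neg_one_of_trace {g : SL(2, F)} {n : ℕ} (hn : (n : F) ≠ 0) (he : Even n)
    (hg : g ^ n = 1) (c : F) (hc : c * c = 1) (htr : g 0 0 + g 1 1 = 2 * c) :
    g = 1 ∨ g = -1 := by
  set M : Matrix (Fin 2) (Fin 2) F := c • (g : Matrix (Fin 2) (Fin 2) F) with hM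
  have hMM : M * M = (2 : F) • M - 1 := by
    rw [hM, smul_mul_smul_comm, hc, one_smul, SL2_cayley_hamilton, htr, mul_smul]
  have hpow : ∀ k : ℕ, M ^ k = (k : F) • (M - 1) + 1 := by
    intro k
    induction k with
    | zero => simp
    | succ k ih =>
      rw [pow_succ, ih, add_mul, one_mul, smul_mul_assoc, sub_mul, hMM, one_mul, Nat.cast_succ,
        add_smul, one_smul, two_smul]
      abel_nf
  have h1 : M ^ n = 1 := by
    obtain ⟨l, rfl⟩ := he
    rw [hM, smul_pow, show (g : Matrix (Fin 2) (Fin 2) F) ^ (l + l) = 1 from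
      (Matrix.SpecialLinearGroup.coe_pow g _).symm.trans (by rw [hg]; rfl), ← two_mul, pow_mul, pow_two, hc, one_pow, one_smul]
  rw [hpow, add_eq_right, smul_eq_zero] at h1
  have hM1 : M = 1 := sub_eq_zero.1 (h1.resolve_left hn)
  have hg' : (g : Matrix (Fin 2) (Fin 2) F) = c • 1 := by
    rw [← hM1, hM, smul_smul, hc, one_smul]
  rcases mul_self_eq_one_iff.1 hc with rfl | rfl
  · left; exact Subtype.ext (by rw [hg']; simp)
  · right; exact Subtype.ext (by rw [hg']; simp)

section Finite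

variable [Finite F]

/-- For odd `q`, an element `t` of `SL_2(q)` of 2-power order at least 4 is inverted by some
element squaring to `-1`, not commuting with it. -/
theorem exists_inverting (h2 : (2 : F) ≠ 0) {t : SL(2, F)} {a : ℕ} (ha : 2 ≤ a)
    (ht : orderOf t = 2 ^ a) :
    ∃ w : SL(2, F), w * w = -1 ∧ w * t⁻¹ = t * w ∧ w ∉ Subgroup.zpowers t := by
  have htn : t ≠ 1 ∧ t ≠ -1 := by
    constructor <;> rintro rfl
    · rw [orderOf_one] at ht
      exact absurd ht.symm (Nat.one_lt_two_pow (by omega)).ne'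
    · have h4 : orderOf (-1 : SL(2, F)) ∣ 2 := orderOf_dvd_of_pow_eq_one (by simp [pow_two])
      rw [ht] at h4
      have := Nat.le_of_dvd two_pos h4
      have : 2 ^ 2 ≤ 2 ^ a := Nat.pow_le_pow_right two_pos ha
      omega
  have hdisc : (t 0 0 + t 1 1) * (t 0 0 + t 1 1) ≠ 4 := by
    intro h
    have hc : ((t 0 0 + t 1 1) / 2) * ((t 0 0 + t 1 1) / 2) = 1 := by
      field_simp
      linear_combination h
    have he : Even (2 ^ a) := (Nat.even_pow).2 ⟨even_two, by omega⟩
    have hn : ((2 ^ a : ℕ) : F) ≠ 0 := by push_cast; exact pow_ne_zero _ h2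
    rcases eq_one_or_neg_one_of_trace hn he (ht ▸ pow_orderOf_eq_one t) _ hc (by field_simp) with
      h' | h'
    · exact htn.1 h'
    · exact htn.2 h'
  have hd := SL2_det t
  obtain ⟨x, y, z, hlin, hdet⟩ : ∃ x y z : F,
      x * (t 0 0 - t 1 1) + y * t 1 0 + z * t 0 1 = 0 ∧ -(x * x) - y * z = 1 := by
    by_cases h10 : t 1 0 = 0
    · have hδ : t 0 0 - t 1 1 ≠ 0 := by
        intro hδ
        apply hdisc
        rw [h10, mul_zero, sub_zero] at hd
        linear_combination 4 * hd + (t 0 0 - t 1 1) * hδ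
      refine ⟨-t 0 1 / (t 0 0 - t 1 1), -(1 + (t 0 1 / (t 0 0 - t 1 1)) ^ 2), 1, ?_, ?_⟩
      · rw [h10]; field_simp; ring
      · field_simp; ring
    · let D := t 0 1 + (t 0 0 - t 1 1) ^ 2 / (4 * t 1 0)
      have h4 : (4 : F) ≠ 0 := by
        rw [show (4 : F) = 2 * 2 by norm_num]; exact mul_ne_zero h2 h2
      have hD : D ≠ 0 := by
        intro hD
        apply hdisc
        simp only [D] at hD
        field_simp at hD
        linear_combination hD + 4 * hd
      have := Fintype.ofFinite F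
      obtain ⟨x', z, hz⟩ := FiniteField.exists_root_sum_quadratic
        (f := Polynomial.C (-t 1 0) * Polynomial.X ^ 2 + Polynomial.C 0 * Polynomial.X +
          Polynomial.C (-t 1 0))
        (g := Polynomial.C D * Polynomial.X ^ 2 + Polynomial.C 0 * Polynomial.X + Polynomial.C 0)
        (Polynomial.degree_quadratic (neg_ne_zero.2 h10)) (Polynomial.degree_quadratic hD)
        (FiniteField.odd_card_of_char_ne_two fun h => h2 (by
          haveI := ringChar.of_eq h
          exact CharTwo.two_eq_zero))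
      simp [D] at hz
      let x := x' + (t 0 0 - t 1 1) * z / (2 * t 1 0)
      refine ⟨x, -(x * (t 0 0 - t 1 1) + z * t 0 1) / t 1 0, z, ?_, ?_⟩
      · field_simp; ring
      · apply mul_left_cancel₀ (mul_ne_zero h4 h10)
        simp only [x]
        field_simp at hz ⊢
        linear_combination hz
  let w : SL(2, F) := ⟨!![x, y; z, -x], by rw [Matrix.det_fin_two_of]; linear_combination hdet⟩
  have hw : w * w = -1 := SL2_sq_eq_neg_one (by simp [w])
  have hwt : (w * t) * (w * t) = -1 := SL2_sq_eq_neg_one (by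
    rw [SL2_mul_apply, SL2_mul_apply]; simp [w]; linear_combination hlin)
  have hrel : w * t⁻¹ = t * w := by
    have hwi : w⁻¹ = -w := inv_eq_of_mul_eq_one_right (by simp [mul_neg, hw])
    have : w * (t * w * t) = w * w := by rw [hw, ← hwt]; group
    have h3 := mul_left_cancel this
    calc w * t⁻¹ = t * w * t * t⁻¹ := by rw [h3]
      _ = t * w := by group
  refine ⟨w, hw, hrel, fun hmem => ?_⟩
  have hcomm : w * t⁻¹ = t⁻¹ * w := by
    obtain ⟨k, hk⟩ := Subgroup.mem_zpowers_iff.1 hmem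
    rw [← hk]
    exact ((Commute.refl t).zpow_left k).inv_right
  rw [hcomm] at hrel
  have h1 : t * t = 1 := by
    have := mul_right_cancel hrel
    calc t * t = t * t⁻¹ := by rw [this]
      _ = 1 := mul_inv_cancel t
  have h4 : orderOf t ∣ 2 := orderOf_dvd_of_pow_eq_one (by rw [pow_two, h1])
  rw [ht] at h4
  have := Nat.le_of_dvd two_pos h4
  have : 2 ^ 2 ≤ 2 ^ a := Nat.pow_le_pow_right two_pos ha
  omega

end Finite

section Quaternion

variable {G : Type*} [Group G] (n : ℕ) [NeZero n] (t w : G)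

/-- `i ↦ t ^ i` on `ZMod (2 n)`. -/
def zmodPow (i : ZMod (2 * n)) : G := t ^ i.val

variable {n t w}

theorem zmodPow_add (ht : t ^ (2 * n) = 1) (i j : ZMod (2 * n)) :
    zmodPow n t (i + j) = zmodPow n t i * zmodPow n t j := by
  rw [zmodPow, zmodPow, zmodPow, ← pow_add, ZMod.val_add, ← pow_eq_pow_mod _ ht]

theorem zmodPow_zero : zmodPow n t 0 = 1 := by simp [zmodPow]

theorem zmodPow_sub (ht : t ^ (2 * n) = 1) (i j : ZMod (2 * n)) :
    zmodPow n t (j - i) = (zmodPow n t i)⁻¹ * zmodPow n t j := by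
  rw [eq_inv_mul_iff_mul_eq, ← zmodPow_add ht, add_sub_cancel]

theorem zmodPow_natCast : zmodPow n t (n : ZMod (2 * n)) = t ^ n := by
  rw [zmodPow, ZMod.val_cast_of_lt (by have := NeZero.pos n; omega)]

/-- The hom from a quaternion group given generators and relations. -/
def quaternionHom (ht : t ^ (2 * n) = 1) (hw : w * w = t ^ n) (hrel : w * t⁻¹ = t * w) :
    QuaternionGroup n →* G where
  toFun
    | .a i => zmodPow n t i
    | .xa i => w * zmodPow n t i
  map_one' := zmodPow_zero
  map_mul' := by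
    have hcomm : ∀ i, zmodPow n t i * w = w * (zmodPow n t i)⁻¹ := fun i => by
      rw [zmodPow, ← inv_pow]
      exact ((show SemiconjBy w t⁻¹ t from hrel).pow_right _).eq.symm
    rintro (i | i) (j | j)
    · exact zmodPow_add ht i j
    · show w * zmodPow n t (j - i) = zmodPow n t i * (w * zmodPow n t j)
      rw [← mul_assoc, hcomm, mul_assoc, ← zmodPow_sub ht]
    · show w * zmodPow n t (i + j) = w * zmodPow n t i * zmodPow n t j
      rw [mul_assoc, ← zmodPow_add ht]
    · show zmodPow n t ((n : ZMod (2 * n)) + j - i) =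
        w * zmodPow n t i * (w * zmodPow n t j)
      rw [add_sub_assoc, zmodPow_add ht, zmodPow_sub ht, zmodPow_natCast, ← hw]
      calc w * w * ((zmodPow n t i)⁻¹ * zmodPow n t j)
          = w * (w * (zmodPow n t i)⁻¹) * zmodPow n t j := by group
        _ = _ := by rw [← hcomm]; group

theorem quaternionHom_injective (ht : orderOf t = 2 * n) (hw : w * w = t ^ n)
    (hrel : w * t⁻¹ = t * w) (hwt : w ∉ Subgroup.zpowers t) :
    Function.Injective (quaternionHom (ht ▸ pow_orderOf_eq_one t) hw hrel) := by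
  rw [injective_iff_map_eq_one]
  rintro (i | i) h
  · have h' : t ^ i.val = 1 := h
    rw [← orderOf_dvd_iff_pow_eq_one, ht] at h'
    have h0 := Nat.eq_zero_of_dvd_of_lt h' i.val_lt
    rw [(ZMod.val_eq_zero i).1 h0]
    rfl
  · refine absurd ?_ hwt
    have h' : w * t ^ i.val = 1 := h
    rw [eq_inv_of_mul_eq_one_left h']
    exact inv_mem (pow_mem (Subgroup.mem_zpowers t) _)

end Quaternion

/-- For odd `q` the Sylow 2-subgroups of `SL_2(q)` are generalised quaternion. -/
theorem sylow_two_SL_two [Finite F] (hodd : Odd (Nat.card F)) (P : Sylow 2 SL(2, F)) :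
    ∃ k : ℕ, 1 ≤ k ∧ Nonempty ((P : Subgroup SL(2, F)) ≃* QuaternionGroup (2 ^ k)) := by
  haveI : Fact (Nat.Prime 2) := ⟨Nat.prime_two⟩
  have h2 : (2 : F) ≠ 0 := by
    intro h
    haveI : CharP F 2 := CharTwo.of_one_ne_zero_of_two_eq_zero one_ne_zero h
    obtain ⟨f, hf, hq⟩ := exists_card_eq_pow (F := F) 2
    exact Nat.not_even_iff_odd.2 hodd (hq ▸ Nat.even_pow.2 ⟨even_two, by omega⟩)
  obtain ⟨m, hm⟩ := hodd
  have hcard : Nat.card SL(2, F) = (2 * m + 1) * (2 * m + 2) * (2 * m) := by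
    rw [card_SL_two', hm, show 2 * m + 1 - 1 = 2 * m by omega]
  have hm0 : m ≠ 0 := by
    rintro rfl
    have := one_lt_card_field (F := F)
    omega
  -- the exact power of two
  obtain ⟨b, c, hb, hc, hdvd⟩ : ∃ b c, 1 ≤ b ∧ ¬ 2 ∣ c ∧
      Nat.card SL(2, F) = 2 ^ (b + 2) * c ∧
      (2 ^ (b + 1) ∣ Nat.card F - 1 ∨ 2 ^ (b + 1) ∣ Nat.card F + 1) := by
    rcases Nat.even_or_odd m with hev | hod
    · obtain ⟨b, c, hc, hmc⟩ := Nat.exists_eq_two_pow_mul_odd hm0
      refine ⟨b, (2 * m + 1) * (m + 1) * c, ?_, ?_, ?_, Or.inl ?_⟩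
      · rcases b with _ | b
        · rw [hmc, pow_zero, one_mul] at hev
          exact absurd hev (Nat.not_even_iff_odd.2 hc)
        · omega
      · exact fun h => Nat.not_even_iff_odd.2 ((Odd.mul ⟨m, rfl⟩ (Even.add_one hev)).mul hc)
          (even_iff_two_dvd.2 h)
      · rw [hcard]
        calc (2 * m + 1) * (2 * m + 2) * (2 * m) = 4 * ((2 * m + 1) * (m + 1)) * m := by ring
          _ = 4 * ((2 * m + 1) * (m + 1)) * (2 ^ b * c) := by rw [← hmc]
          _ = _ := by ring
      · rw [hm, Nat.add_sub_cancel, hmc, pow_succ']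
        exact ⟨c, by ring⟩
    · obtain ⟨b, c, hc, hmc⟩ := Nat.exists_eq_two_pow_mul_odd (Nat.succ_ne_zero m)
      refine ⟨b, (2 * m + 1) * m * c, ?_, ?_, ?_, Or.inr ?_⟩
      · rcases b with _ | b
        · rw [pow_zero, one_mul] at hmc
          subst hmc
          exact absurd hc (Nat.not_odd_iff_even.2 (Odd.add_one hod))
        · omega
      · exact fun h => Nat.not_even_iff_odd.2 ((Odd.mul ⟨m, rfl⟩ hod).mul hc)
          (even_iff_two_dvd.2 h)
      · rw [hcard]
        calc (2 * m + 1) * (2 * m + 2) * (2 * m) = 4 * ((2 * m + 1) * m) * m.succ := by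
              rw [Nat.succ_eq_add_one]; ring
          _ = 4 * ((2 * m + 1) * m) * (2 ^ b * c) := by rw [hmc]
          _ = _ := by ring
      · rw [hm, show 2 * m + 1 + 1 = 2 * m.succ by omega, hmc, pow_succ']
        exact ⟨c, by ring⟩
  obtain ⟨t, ht⟩ := exists_orderOf_SL_two hdvd.2
  obtain ⟨w, hw, hrel, hwt⟩ := exists_inverting h2 (by omega : 2 ≤ b + 1) ht
  have htn : t ^ 2 ^ b = -1 := by
    have hsq : t ^ 2 ^ b * t ^ 2 ^ b = 1 := by
      rw [← pow_add, ← two_mul, ← pow_succ', ← ht, pow_orderOf_eq_one]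
    refine (SL2_eq_one_or_neg_one_of_sq h2 hsq).resolve_left fun h => ?_
    rw [← orderOf_dvd_iff_pow_eq_one, ht, Nat.pow_dvd_pow_iff_le_right (by norm_num)] at h
    omega
  haveI : NeZero (2 ^ b) := ⟨pow_ne_zero _ two_ne_zero⟩
  have ht' : orderOf t = 2 * 2 ^ b := by rw [ht, pow_succ']
  let φ := quaternionHom (ht' ▸ pow_orderOf_eq_one t) (hw.trans htn.symm) hrel
  have hφ : Function.Injective φ := quaternionHom_injective ht' (hw.trans htn.symm) hrel hwt
  let Q : Sylow 2 SL(2, F) := Sylow.ofCard φ.range (by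
    rw [← P.card_eq_multiplicity, card_sylow_of_card_eq hdvd.1 hc P,
      ← Nat.card_congr (MonoidHom.ofInjective hφ).toEquiv, Nat.card_eq_fintype_card,
      QuaternionGroup.card]
    ring)
  exact ⟨b, hb, ⟨((MonoidHom.ofInjective hφ).trans (Q.equiv P)).symm⟩⟩

end Cfsg.Agent.GLOrder
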