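/-
Traces and products of conjugacy classes of `SL_2(q)` and `PSL_2(q)`.

Main results (namespace `Cfsg.Agent.GLOrder`):
* `isConj_of_trace_odd`, `isConj_of_trace_even`
* `exists_tr_pair_split`, `exists_tr_pair_odd` : `G = M⁻¹ (M G)` with both traces prescribed
* `psl_cover_odd`, `psl_cover_split`
* `psl_class_product_ne` : a product of two classes of `PSL_2(q)`, `q ≥ 4`, is never a single class
-/
import Cfsg.Agent.Lib.GLOrder.Two
import Cfsg.Agent.Lib.TwoByTwo.Classes
import Cfsg.Agent.Lib.PSL2.Basic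

set_option autoImplicit false
set_option linter.unusedSectionVars false
set_option linter.style.haveILetI false

namespace Cfsg.Agent.GLOrder

open Matrix
open scoped MatrixGroups

variable {F : Type*} [Field F]

theorem not_isScalar_iff {g : SL(2, F)} :
    ¬ TwoByTwo.IsScalar (g : Matrix (Fin 2) (Fin 2) F) ↔ g ∉ Subgroup.center SL(2, F) := by
  refine not_congr ⟨fun h => ?_, fun h => ?_⟩
  · obtain ⟨h1, h2, h3⟩ := h
    have hd := SL2_det g
    rw [h1, h3, zero_mul, sub_zero] at hd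
    rw [center_SL2]
    rcases mul_self_eq_one_iff.1 hd with h0 | h0
    · left; ext i j; fin_cases i <;> fin_cases j <;> simp [h1, h2, h3, h0]
    · right; ext i j; fin_cases i <;> fin_cases j <;> simp [h1, h2, h3, h0]
  · rcases center_SL2.1 h with rfl | rfl <;> simp [TwoByTwo.IsScalar]

theorem not_isScalar_of_tr {g : SL(2, F)} (h : PSL2.tr g ^ 2 ≠ 4) :
    ¬ TwoByTwo.IsScalar (g : Matrix (Fin 2) (Fin 2) F) := by
  rw [not_isScalar_iff]
  intro hg
  apply h
  rcases center_SL2.1 hg with rfl | rfl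
  · rw [PSL2.tr_one]; norm_num
  · rw [PSL2.tr_neg, PSL2.tr_one]; norm_num

/-- In odd characteristic semisimple elements with equal trace are conjugate. -/
theorem isConj_of_trace_odd [Finite F] (h2 : (2 : F) ≠ 0) {A B : SL(2, F)}
    (ht : PSL2.tr A = PSL2.tr B) (h4 : PSL2.tr A ^ 2 ≠ 4) : IsConj A B := by
  have := Fintype.ofFinite F
  have hc : ringChar F ≠ 2 := fun hc => h2 (by
    haveI := ringChar.of_eq hc
    exact CharTwo.two_eq_zero)
  have key : ∀ C : SL(2, F), PSL2.tr C ^ 2 ≠ 4 →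
      ∃ x y, TwoByTwo.qf (C : Matrix (Fin 2) (Fin 2) F) x y = 1 := fun C hC => by
    refine TwoByTwo.exists_qf_eq_one hc ?_
    rw [C.2, mul_one, ← PSL2.tr_eq_trace]
    exact sub_ne_zero.2 hC
  obtain ⟨x, y, hA⟩ := key A h4
  obtain ⟨x', y', hB⟩ := key B (ht ▸ h4)
  refine TwoByTwo.sl_isConj_of_qf_eq ?_ (hA.trans hB.symm) (by rw [hA]; exact one_ne_zero)
  rw [← PSL2.tr_eq_trace, ← PSL2.tr_eq_trace, ht]

/-- In characteristic two non-central elements with equal trace are conjugate. -/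
theorem isConj_of_trace_even [Finite F] [CharP F 2] {A B : SL(2, F)}
    (ht : PSL2.tr A = PSL2.tr B) (hA : A ∉ Subgroup.center SL(2, F))
    (hB : B ∉ Subgroup.center SL(2, F)) : IsConj A B := by
  have key : ∀ C : SL(2, F), C ∉ Subgroup.center SL(2, F) →
      ∃ x y, TwoByTwo.qf (C : Matrix (Fin 2) (Fin 2) F) x y = 1 := fun C hC => by
    obtain ⟨x, y, h⟩ := TwoByTwo.exists_qf_ne_zero (not_isScalar_iff.2 hC)
    obtain ⟨s, hs⟩ := FiniteField.isSquare_of_char_two (ringChar.eq F 2) (TwoByTwo.qf C.1 x y)⁻¹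
    exact ⟨s * x, s * y, by rw [TwoByTwo.qf_smul, pow_two, ← hs, inv_mul_cancel₀ h]⟩
  obtain ⟨x, y, hA⟩ := key A hA
  obtain ⟨x', y', hB⟩ := key B hB
  refine TwoByTwo.sl_isConj_of_qf_eq ?_ (hA.trans hB.symm) (by rw [hA]; exact one_ne_zero)
  rw [← PSL2.tr_eq_trace, ← PSL2.tr_eq_trace, ht]

/-- Reduction of trace conditions to the companion matrix. -/
theorem exists_tr_pair_of_companion {G : SL(2, F)} (hG : G ∉ Subgroup.center SL(2, F)) {t : F}
    {a b c : F} (hdet : a * (t - a) - b * c = 1) (htr : b - c + (t - a) * PSL2.tr G = t) :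
    ∃ M : SL(2, F), PSL2.tr M = t ∧ PSL2.tr (M * G) = t := by
  obtain ⟨x, y, h⟩ := TwoByTwo.exists_qf_ne_zero (not_isScalar_iff.2 hG)
  set P := TwoByTwo.cyc (G : Matrix (Fin 2) (Fin 2) F) x y with hP
  have hu : IsUnit P.det := by rw [hP, TwoByTwo.det_cyc]; exact h.isUnit
  set C : Matrix (Fin 2) (Fin 2) F := !![a, b; c, t - a] with hC
  have hCd : C.det = 1 := by rw [hC, Matrix.det_fin_two_of]; exact hdet
  let M : SL(2, F) := ⟨P * C * P⁻¹, by rw [Matrix.det_conj (P.isUnit_iff_isUnit_det.2 hu), hCd]⟩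
  refine ⟨M, ?_, ?_⟩
  · rw [PSL2.tr_eq_trace]
    show (P * C * P⁻¹).trace = t
    rw [Matrix.trace_mul_comm, ← Matrix.mul_assoc, Matrix.nonsing_inv_mul _ hu, Matrix.one_mul, hC,
      Matrix.trace_fin_two_of]
    ring
  · rw [PSL2.tr_eq_trace]
    show (P * C * P⁻¹ * (G : Matrix (Fin 2) (Fin 2) F)).trace = t
    have e : P⁻¹ * (G : Matrix (Fin 2) (Fin 2) F) * P =
        TwoByTwo.companion2 (PSL2.tr G) 1 := by
      rw [Matrix.mul_assoc, hP, TwoByTwo.mul_cyc, ← Matrix.mul_assoc, ← hP,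
        Matrix.nonsing_inv_mul P hu, Matrix.one_mul, G.2, PSL2.tr_eq_trace]
    rw [show P * C * P⁻¹ * (G : Matrix (Fin 2) (Fin 2) F) = P * (C * (P⁻¹ * G.1)) by
      simp only [Matrix.mul_assoc], Matrix.trace_mul_comm, Matrix.mul_assoc, e, hC,
      TwoByTwo.companion2, Matrix.mul_fin_two, Matrix.trace_fin_two_of]
    linear_combination htr

/-- Split traces: every non-central element splits. -/
theorem exists_tr_pair_split {G : SL(2, F)} (hG : G ∉ Subgroup.center SL(2, F)) {t l : F}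
    (hl : l * (t - l) = 1) : ∃ M : SL(2, F), PSL2.tr M = t ∧ PSL2.tr (M * G) = t :=
  exists_tr_pair_of_companion hG (a := l) (b := t - (t - l) * PSL2.tr G) (c := 0)
    (by linear_combination hl) (by ring)

/-- Odd `q`: every non-central element of trace `≠ 2` splits for any nonzero trace. -/
theorem exists_tr_pair_odd [Finite F] (h2 : (2 : F) ≠ 0) {G : SL(2, F)}
    (hG : G ∉ Subgroup.center SL(2, F)) {t : F} (ht : t ≠ 0) (hs : PSL2.tr G ≠ 2) :
    ∃ M : SL(2, F), PSL2.tr M = t ∧ PSL2.tr (M * G) = t := by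
  have := Fintype.ofFinite F
  set s := PSL2.tr G with hs'
  have h4 : (4 : F) ≠ 0 := by rw [show (4 : F) = 2 * 2 by norm_num]; exact mul_ne_zero h2 h2
  obtain ⟨a, w, hw⟩ : ∃ a w : F,
      w * w = (t * (1 - s) + a * s) ^ 2 + 4 * (a * (t - a) - 1) := by
    by_cases hsq : s * s = 4
    · have hsm : s = -2 := by
        have : (s - 2) * (s + 2) = 0 := by linear_combination hsq
        exact eq_neg_of_add_eq_zero_left ((mul_eq_zero.1 this).resolve_left (sub_ne_zero.2 hs))
      refine ⟨((t * (1 - s)) ^ 2 - 4) / (8 * t), 0, ?_⟩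
      have h8 : (8 : F) * t ≠ 0 :=
        mul_ne_zero (by rw [show (8 : F) = 2 * 4 by norm_num]; exact mul_ne_zero h2 h4) ht
      have key : ((t * (1 - s)) ^ 2 - 4) / (8 * t) * (8 * t) = (t * (1 - s)) ^ 2 - 4 :=
        div_mul_cancel₀ _ h8
      rw [hsm] at key ⊢
      linear_combination key
    · obtain ⟨w, a, hwa⟩ := FiniteField.exists_root_sum_quadratic
        (f := Polynomial.C 1 * Polynomial.X ^ 2 + Polynomial.C 0 * Polynomial.X + Polynomial.C 0)
        (g := Polynomial.C (4 - s * s) * Polynomial.X ^ 2 +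
          Polynomial.C (-(2 * t * (1 - s) * s + 4 * t)) * Polynomial.X +
          Polynomial.C (4 - (t * (1 - s)) ^ 2))
        (Polynomial.degree_quadratic one_ne_zero)
        (Polynomial.degree_quadratic (sub_ne_zero.2 (Ne.symm hsq)))
        (FiniteField.odd_card_of_char_ne_two fun hc => h2 (by
          haveI := ringChar.of_eq hc
          exact CharTwo.two_eq_zero))
      simp at hwa
      exact ⟨a, w, by linear_combination hwa⟩
  let c := (w - (t * (1 - s) + a * s)) / 2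
  have hc : 2 * c = w - (t * (1 - s) + a * s) := by simp only [c]; field_simp
  refine exists_tr_pair_of_companion hG (a := a) (b := c + t - (t - a) * s) (c := c) ?_ (by ring)
  apply mul_left_cancel₀ h4
  linear_combination (-(2 * c) - (w + (t * (1 - s) + a * s))) * hc - hw

theorem mk_neg_eq (G : SL(2, F)) :
    QuotientGroup.mk' (Subgroup.center SL(2, F)) (-G) = QuotientGroup.mk' _ G := by
  rw [← neg_one_mul, map_mul]
  have : QuotientGroup.mk' (Subgroup.center SL(2, F)) (-1) = 1 :=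
    (QuotientGroup.eq_one_iff _).2 (center_SL2.2 (Or.inr rfl))
  rw [this, one_mul]

theorem cover_of_pair {X : SL(2, F)} (hconj : ∀ A : SL(2, F), PSL2.tr A = PSL2.tr X → IsConj X A)
    {G : SL(2, F)} {M : SL(2, F)} (hM : PSL2.tr M = PSL2.tr X)
    (hMG : PSL2.tr (M * G) = PSL2.tr X) :
    ∃ u v : SL(2, F) ⧸ Subgroup.center SL(2, F),
      QuotientGroup.mk' _ G = (u * QuotientGroup.mk' _ X * u⁻¹) * (v * QuotientGroup.mk' _ X * v⁻¹) := by
  obtain ⟨c, hc⟩ := isConj_iff.1 (hconj M⁻¹ ((PSL2.tr_inv M).trans hM))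
  obtain ⟨d, hd⟩ := isConj_iff.1 (hconj (M * G) hMG)
  refine ⟨QuotientGroup.mk' _ c, QuotientGroup.mk' _ d, ?_⟩
  rw [← map_inv, ← map_mul, ← map_mul, ← map_inv, ← map_mul, ← map_mul, ← map_mul, hc, hd,
    inv_mul_cancel_left]

/-- Odd `q`: squares of semisimple classes of elements of trace `≠ 0, ±2` cover `PSL_2(q) - 1`. -/
theorem psl_cover_odd [Finite F] (h2 : (2 : F) ≠ 0) {X : SL(2, F)} (h0 : PSL2.tr X ≠ 0)
    (h4 : PSL2.tr X ^ 2 ≠ 4) (g : SL(2, F) ⧸ Subgroup.center SL(2, F)) (hg : g ≠ 1) :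
    ∃ u v : SL(2, F) ⧸ Subgroup.center SL(2, F),
      g = (u * QuotientGroup.mk' _ X * u⁻¹) * (v * QuotientGroup.mk' _ X * v⁻¹) := by
  obtain ⟨G, rfl⟩ := QuotientGroup.mk'_surjective _ g
  obtain ⟨G', hG', hs⟩ : ∃ G' : SL(2, F), QuotientGroup.mk' (Subgroup.center SL(2, F)) G' =
      QuotientGroup.mk' _ G ∧ PSL2.tr G' ≠ 2 := by
    by_cases h : PSL2.tr G = 2
    · refine ⟨-G, mk_neg_eq G, ?_⟩
      rw [PSL2.tr_neg, h]
      intro e
      exact h2 (mul_left_cancel₀ h2 (by linear_combination -e))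
    · exact ⟨G, rfl, h⟩
  have hc : G' ∉ Subgroup.center SL(2, F) := fun hc =>
    hg (by rw [← hG']; exact (QuotientGroup.eq_one_iff _).2 hc)
  obtain ⟨M, hM, hMG⟩ := exists_tr_pair_odd h2 hc h0 hs
  rw [← hG']
  exact cover_of_pair (fun A hA => isConj_of_trace_odd h2 hA.symm h4) hM hMG

/-- Characteristic two: squares of split semisimple classes cover. -/
theorem psl_cover_split [Finite F] [CharP F 2] {X : SL(2, F)} {l : F}
    (hl : l * (PSL2.tr X - l) = 1) (h0 : PSL2.tr X ≠ 0)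
    (g : SL(2, F) ⧸ Subgroup.center SL(2, F)) (hg : g ≠ 1) :
    ∃ u v : SL(2, F) ⧸ Subgroup.center SL(2, F),
      g = (u * QuotientGroup.mk' _ X * u⁻¹) * (v * QuotientGroup.mk' _ X * v⁻¹) := by
  obtain ⟨G, rfl⟩ := QuotientGroup.mk'_surjective _ g
  have hc : G ∉ Subgroup.center SL(2, F) := fun hc => hg ((QuotientGroup.eq_one_iff _).2 hc)
  have hX : ∀ A : SL(2, F), PSL2.tr A = PSL2.tr X → A ∉ Subgroup.center SL(2, F) := by
    intro A hA hA'
    apply h0
    rw [← hA]
    rcases center_SL2.1 hA' with rfl | rfl <;>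
      simp [PSL2.tr_one, PSL2.tr_neg, CharTwo.two_eq_zero]
  obtain ⟨M, hM, hMG⟩ := exists_tr_pair_split hc hl
  exact cover_of_pair (fun A hA => isConj_of_trace_even hA.symm (hX X rfl) (hX A hA)) hM hMG

theorem SL2_inv_apply (g : SL(2, F)) :
    g⁻¹ 0 0 = g 1 1 ∧ g⁻¹ 0 1 = -g 0 1 ∧ g⁻¹ 1 0 = -g 1 0 ∧ g⁻¹ 1 1 = g 0 0 := by
  rw [SpecialLinearGroup.SL2_inv_expl]
  simp

theorem exists_conj_lower_ne_zero {A : SL(2, F)} (hA : A ∉ Subgroup.center SL(2, F)) :
    ∃ h : SL(2, F), (h * A * h⁻¹) 1 0 ≠ 0 := by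
  by_cases h10 : A 1 0 = 0
  · by_cases h01 : A 0 1 = 0
    · refine ⟨SpecialLinearGroup.transvection (show (1 : Fin 2) ≠ 0 by decide) 1, ?_⟩
      obtain ⟨i0, i1, i2, i3⟩ :=
        SL2_inv_apply (SpecialLinearGroup.transvection (show (1 : Fin 2) ≠ 0 by decide) (1 : F))
      rw [SL2_mul_apply, SL2_mul_apply, SL2_mul_apply, i0, i2]
      simp [SpecialLinearGroup.transvection_coe, h10, h01]
      intro e
      exact (not_isScalar_iff.2 hA) ⟨h01, h10, by linear_combination e⟩
    · let w : SL(2, F) := ⟨!![0, -1; 1, 0], by simp [Matrix.det_fin_two]⟩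
      refine ⟨w, ?_⟩
      obtain ⟨i0, i1, i2, i3⟩ := SL2_inv_apply w
      rw [SL2_mul_apply (w * A) w⁻¹, SL2_mul_apply w A, SL2_mul_apply w A, i0, i2]
      simp [w, h10, h01]
  · exact ⟨1, by simpa using h10⟩

theorem psl_mk_isConj {C D : SL(2, F)}
    (h : IsConj (QuotientGroup.mk' (Subgroup.center SL(2, F)) C) (QuotientGroup.mk' _ D)) :
    PSL2.tr D = PSL2.tr C ∨ PSL2.tr D = -PSL2.tr C := by
  obtain ⟨u, hu⟩ := isConj_iff.1 h
  obtain ⟨k, rfl⟩ := QuotientGroup.mk'_surjective _ u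
  rw [← map_inv, ← map_mul, ← map_mul, QuotientGroup.mk'_eq_mk'] at hu
  obtain ⟨z, hz, hzd⟩ := hu
  rw [← hzd]
  rcases center_SL2.1 hz with rfl | rfl
  · left; rw [mul_one, PSL2.tr_conj]
  · right; rw [mul_neg_one, PSL2.tr_neg, PSL2.tr_conj]

/-- A product of two classes of `PSL_2(q)`, `q ≥ 4`, is not a single class. -/
theorem psl_class_product_ne [Fintype F] (h4 : 4 ≤ Fintype.card F)
    (a b : SL(2, F) ⧸ Subgroup.center SL(2, F)) (ha : a ≠ 1) (hb : b ≠ 1)
    (c : SL(2, F) ⧸ Subgroup.center SL(2, F)) :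
    {g | ∃ u v, g = (u * a * u⁻¹) * (v * b * v⁻¹)} ≠ {g | IsConj c g} := by
  classical
  intro hset
  obtain ⟨A, rfl⟩ := QuotientGroup.mk'_surjective _ a
  obtain ⟨B, rfl⟩ := QuotientGroup.mk'_surjective _ b
  obtain ⟨C, rfl⟩ := QuotientGroup.mk'_surjective _ c
  obtain ⟨h, hh⟩ := exists_conj_lower_ne_zero (A := A)
    fun hc => ha ((QuotientGroup.eq_one_iff _).2 hc)
  obtain ⟨k, hk⟩ := exists_conj_lower_ne_zero (A := B)
    fun hc => hb ((QuotientGroup.eq_one_iff _).2 hc)
  let A' := h * A * h⁻¹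
  let B' := k * B * k⁻¹
  let e : F → F := fun x => PSL2.tr (A' * (SpecialLinearGroup.transvection zero_ne_one x * B' *
    (SpecialLinearGroup.transvection zero_ne_one x)⁻¹))
  have he : ∀ x, e x = PSL2.tr C ∨ e x = -PSL2.tr C := by
    intro x
    refine psl_mk_isConj ?_
    have : QuotientGroup.mk' (Subgroup.center SL(2, F)) (A' * (SpecialLinearGroup.transvection
        zero_ne_one x * B' * (SpecialLinearGroup.transvection zero_ne_one x)⁻¹)) ∈
        {g | ∃ u v, g = (u * QuotientGroup.mk' _ A * u⁻¹) * (v * QuotientGroup.mk' _ B * v⁻¹)} := by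
      refine ⟨QuotientGroup.mk' _ h,
        QuotientGroup.mk' _ (SpecialLinearGroup.transvection zero_ne_one x * k), ?_⟩
      simp only [← map_inv, ← map_mul]
      congr 1
      simp only [A', B']
      group
    rw [hset] at this
    exact this
  let α := -(A' 1 0 * B' 1 0)
  let β := B' 1 0 * (A' 0 0 - A' 1 1) + (B' 1 1 - B' 0 0) * A' 1 0
  have hex : ∀ x, e x = PSL2.tr (A' * B') + β * x + α * x ^ 2 := by
    intro x
    obtain ⟨i0, i1, i2, i3⟩ :=
      SL2_inv_apply (SpecialLinearGroup.transvection (show (0 : Fin 2) ≠ 1 by decide) x)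
    simp only [e, PSL2.tr, SL2_mul_apply, i0, i1, i2, i3, α, β]
    simp [SpecialLinearGroup.transvection_coe]
    ring
  have hα : α ≠ 0 := neg_ne_zero.2 (mul_ne_zero hh hk)
  have hroots : ∀ r : F, (Finset.univ.filter fun x => e x = r).card ≤ 2 := by
    intro r
    let P : Polynomial F := Polynomial.C α * Polynomial.X ^ 2 + Polynomial.C β * Polynomial.X +
      Polynomial.C (PSL2.tr (A' * B') - r)
    have hP : P.degree = 2 := Polynomial.degree_quadratic hα
    have hsub : (Finset.univ.filter fun x => e x = r) ⊆ P.roots.toFinset := by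
      intro x hx
      rw [Finset.mem_filter, hex] at hx
      rw [Multiset.mem_toFinset, Polynomial.mem_roots (by intro h0; simp [h0] at hP)]
      simp [P]
      linear_combination hx.2
    refine ((Finset.card_le_card hsub).trans (Multiset.toFinset_card_le _)).trans ?_
    exact (Polynomial.card_roots' _).trans (le_of_eq (Polynomial.natDegree_eq_of_degree_eq_some hP))
  have huniv : (Finset.univ : Finset F) = (Finset.univ.filter fun x => e x = PSL2.tr C) ∪
      (Finset.univ.filter fun x => e x = -PSL2.tr C) := by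
    ext x; simp [he x]
  by_cases h2 : (2 : F) = 0
  · haveI : CharP F 2 := CharTwo.of_one_ne_zero_of_two_eq_zero one_ne_zero h2
    rw [CharTwo.neg_eq, Finset.union_self] at huniv
    have := hroots (PSL2.tr C)
    rw [← huniv, Finset.card_univ] at this
    omega
  · have hle : Fintype.card F ≤ 4 := by
      rw [← Finset.card_univ, huniv]
      exact (Finset.card_union_le _ _).trans (Nat.add_le_add (hroots _) (hroots _))
    have h5 : Fintype.card F % 2 = 1 := FiniteField.odd_card_of_char_ne_two fun hc => h2 (by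
      haveI := ringChar.of_eq hc
      exact CharTwo.two_eq_zero)
    omega

end Cfsg.Agent.GLOrder
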