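/-
Symplectic frames, the order of `Sp_{2m}(q)`, transitivity, centre.

Main results (namespace `Cfsg.Agent.GLOrder`):
* `IsSympFrame`, `Frame`, `frameSuccEquiv`, `card_frame`, `exists_frame` : hyperbolic bases of a
  nondegenerate alternating form on any vector space
* `sympB`, `sympB_apply`, `sympB_isAlt`, `sympB_nondeg`
* `mem_symplecticGroup_iff_col`, `mem_symplecticGroup_iff_preserves`, `spFrameEquiv`
* `card_Sp`, `exists_symp_mulVec`, `exists_symp_pair`
* `sympTransv`, `center_Sp`, `card_center_Sp`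
-/
import Cfsg.Agent.Lib.GLOrder.Basic

set_option autoImplicit false
set_option linter.unusedSectionVars false
set_option linter.style.haveILetI false

namespace Cfsg.Agent.GLOrder

open Matrix Module

universe u v

section Frames

variable {F : Type u} [Field F] {V : Type v} [AddCommGroup V] [Module F V]

/-- A hyperbolic system `e, f` for a bilinear form. -/
def IsSympFrame (B : LinearMap.BilinForm F V) {m : ℕ} (e f : Fin m → V) : Prop :=
  (∀ i j, B (e i) (e j) = 0) ∧ (∀ i j, B (f i) (f j) = 0) ∧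
    ∀ i j, B (e i) (f j) = if i = j then 1 else 0

/-- The type of hyperbolic systems of length `m`. -/
abbrev Frame (B : LinearMap.BilinForm F V) (m : ℕ) : Type v :=
  {t : (Fin m → V) × (Fin m → V) // IsSympFrame B t.1 t.2}

/-- Pairs `e, f` with `B e f = 1`. -/
abbrev HypPair (B : LinearMap.BilinForm F V) : Type v :=
  {p : V × V // B p.1 p.2 = 1}

/-- The orthogonal complement of a pair. -/
def perp2 (B : LinearMap.BilinForm F V) (e f : V) : Submodule F V :=
  LinearMap.ker (B e) ⊓ LinearMap.ker (B f)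

theorem mem_perp2 {B : LinearMap.BilinForm F V} {e f x : V} :
    x ∈ perp2 B e f ↔ B e x = 0 ∧ B f x = 0 := by
  simp [perp2]

variable {B : LinearMap.BilinForm F V}

theorem alt_swap (halt : ∀ x, B x x = 0) (x y : V) : B y x = -B x y := by
  have h := halt (x + y)
  simp only [map_add, LinearMap.add_apply, halt] at h
  linear_combination h

/-- Splitting off a hyperbolic plane. -/
def hypSplit (halt : ∀ x, B x x = 0) {e f : V} (h : B e f = 1) :
    V ≃ₗ[F] (F × F) × perp2 B e f where
  toFun x := ((B e x, B f x), ⟨x - B e x • f + B f x • e, by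
    rw [mem_perp2]
    simp [halt, h, alt_swap halt e f]⟩)
  map_add' x y := by
    refine Prod.ext (by simp) (Subtype.ext ?_)
    simp only [map_add, add_smul, Prod.snd_add, Submodule.coe_add]
    abel
  map_smul' c x := by
    refine Prod.ext (by simp) (Subtype.ext ?_)
    simp [smul_sub, smul_add, mul_smul]
  invFun t := t.1.1 • f - t.1.2 • e + (t.2 : V)
  left_inv x := by simp only; abel
  right_inv t := by
    obtain ⟨⟨a, b⟩, w, hw⟩ := t
    obtain ⟨h1, h2⟩ := mem_perp2.1 hw
    refine Prod.ext ?_ (Subtype.ext ?_)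
    · simp [halt, h, h1, h2, alt_swap halt e f]
    · simp [halt, h, h1, h2, alt_swap halt e f]
      abel

theorem finrank_perp2 [FiniteDimensional F V] (halt : ∀ x, B x x = 0) {e f : V}
    (h : B e f = 1) : finrank F (perp2 B e f) + 2 = finrank F V := by
  have := (hypSplit halt h).finrank_eq
  rw [Module.finrank_prod, Module.finrank_prod, Module.finrank_self] at this
  omega

/-- The restriction of a form to a submodule. -/
def resForm (B : LinearMap.BilinForm F V) (W : Submodule F V) : LinearMap.BilinForm F W :=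
  LinearMap.compl₁₂ B W.subtype W.subtype

@[simp]
theorem resForm_apply (W : Submodule F V) (x y : W) : resForm B W x y = B x y := rfl

theorem resForm_perp2_nondeg (halt : ∀ x, B x x = 0) (hnd : ∀ x, (∀ y, B x y = 0) → x = 0)
    {e f : V} (h : B e f = 1) (x : perp2 B e f) (hx : ∀ y, resForm B (perp2 B e f) x y = 0) :
    x = 0 := by
  apply Subtype.ext
  refine hnd _ fun y => ?_
  obtain ⟨h1, h2⟩ := mem_perp2.1 x.2
  have hy := hx (hypSplit halt h y).2
  simp [hypSplit, alt_swap halt e (x : V), alt_swap halt f (x : V), h1, h2] at hy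
  exact hy

/-- A frame of length `m + 1` is a hyperbolic pair and a frame of its complement. -/
def frameSuccEquiv (halt : ∀ x, B x x = 0) (m : ℕ) :
    Frame B (m + 1) ≃ Σ p : HypPair B, Frame (resForm B (perp2 B p.1.1 p.1.2)) m where
  toFun t := ⟨⟨(t.1.1 0, t.1.2 0), by simpa using t.2.2.2 0 0⟩,
    ⟨(fun i => ⟨t.1.1 i.succ, mem_perp2.2 ⟨t.2.1 _ _, by
        rw [alt_swap halt, t.2.2.2, if_neg (Fin.succ_ne_zero i), neg_zero]⟩⟩,
      fun i => ⟨t.1.2 i.succ, mem_perp2.2 ⟨by
        rw [t.2.2.2, if_neg (Fin.succ_ne_zero i).symm], t.2.2.1 _ _⟩⟩), by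
      refine ⟨fun i j => t.2.1 _ _, fun i j => t.2.2.1 _ _, fun i j => ?_⟩
      rw [resForm_apply, t.2.2.2]
      simp⟩⟩
  invFun s := ⟨(Fin.cons s.1.1.1 (fun i => ((s.2.1.1 i) : V)),
      Fin.cons s.1.1.2 (fun i => ((s.2.1.2 i) : V))), by
    obtain ⟨⟨⟨e, f⟩, hef⟩, ⟨es, fs⟩, h1, h2, h3⟩ := s
    refine ⟨fun i j => ?_, fun i j => ?_, fun i j => ?_⟩ <;>
      induction i using Fin.cases <;> induction j using Fin.cases <;>
      simp only [Fin.cons_zero, Fin.cons_succ]
    · exact halt e
    · exact (mem_perp2.1 (es _).2).1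
    · rw [alt_swap halt, (mem_perp2.1 (es _).2).1, neg_zero]
    · exact h1 _ _
    · exact halt f
    · exact (mem_perp2.1 (fs _).2).2
    · rw [alt_swap halt, (mem_perp2.1 (fs _).2).2, neg_zero]
    · exact h2 _ _
    · simpa using hef
    · rw [(mem_perp2.1 (fs _).2).1, if_neg (Fin.succ_ne_zero _).symm]
    · rw [alt_swap halt, (mem_perp2.1 (es _).2).2, neg_zero, if_neg (Fin.succ_ne_zero _)]
    · simpa using h3 _ _⟩
  left_inv t := Subtype.ext (Prod.ext (Fin.cons_self_tail _) (Fin.cons_self_tail _))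
  right_inv s := by
    obtain ⟨⟨⟨e, f⟩, hef⟩, ⟨es, fs⟩, h⟩ := s
    rfl

theorem exists_apply_eq_one (hnd : ∀ x, (∀ y, B x y = 0) → x = 0) {e : V} (he : e ≠ 0) :
    ∃ f, B e f = 1 := by
  by_contra hc
  push Not at hc
  refine he (hnd e fun y => ?_)
  by_contra hy
  exact hc ((B e y)⁻¹ • y) (by simp [hy])

theorem nonempty_frame {F : Type u} [Field F] :
    ∀ (m : ℕ) {V : Type v} [AddCommGroup V] [Module F V] [FiniteDimensional F V]
      (B : LinearMap.BilinForm F V), (∀ x, B x x = 0) → (∀ x, (∀ y, B x y = 0) → x = 0) →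
      finrank F V = 2 * m → Nonempty (Frame B m) := by
  intro m
  induction m with
  | zero => exact fun B _ _ _ => ⟨⟨(Fin.elim0, Fin.elim0), fun i => i.elim0,
      fun i => i.elim0, fun i => i.elim0⟩⟩
  | succ m ih =>
    intro V _ _ _ B halt hnd hr
    haveI : Nontrivial V := Module.nontrivial_of_finrank_pos (R := F) (by omega)
    obtain ⟨e, he⟩ := exists_ne (0 : V)
    obtain ⟨f, hf⟩ := exists_apply_eq_one hnd he
    have := finrank_perp2 halt hf
    obtain ⟨t⟩ := ih (resForm B (perp2 B e f)) (fun x => halt x)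
      (fun x hx => resForm_perp2_nondeg halt hnd hf x hx) (by omega)
    exact ⟨(frameSuccEquiv halt m).symm ⟨⟨(e, f), hf⟩, t⟩⟩

/-- Every hyperbolic pair starts a frame. -/
theorem exists_frame [FiniteDimensional F V] (halt : ∀ x, B x x = 0)
    (hnd : ∀ x, (∀ y, B x y = 0) → x = 0) {m : ℕ} (hr : finrank F V = 2 * (m + 1)) {e f : V}
    (h : B e f = 1) : ∃ t : Frame B (m + 1), t.1.1 0 = e ∧ t.1.2 0 = f := by
  have := finrank_perp2 halt h
  obtain ⟨t⟩ := nonempty_frame m (resForm B (perp2 B e f)) (fun x => halt x)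
    (fun x hx => resForm_perp2_nondeg halt hnd h x hx) (by omega)
  exact ⟨(frameSuccEquiv halt m).symm ⟨⟨(e, f), h⟩, t⟩, rfl, rfl⟩

theorem card_sigma_const {α : Type*} {β : α → Type*} [Finite α] [∀ a, Finite (β a)] {c : ℕ}
    (h : ∀ a, Nat.card (β a) = c) : Nat.card (Σ a, β a) = Nat.card α * c := by
  have e : (Σ a, β a) ≃ α × Fin c :=
    (Equiv.sigmaCongrRight fun a => Finite.equivFinOfCardEq (h a)).trans (Equiv.sigmaEquivProd _ _)
  rw [Nat.card_congr e, Nat.card_prod, Nat.card_fin]

theorem card_hypPair [Finite F] [FiniteDimensional F V] (hnd : ∀ x, (∀ y, B x y = 0) → x = 0)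
    {n : ℕ} (hn : finrank F V = n + 1) :
    Nat.card (HypPair B) = (Nat.card F ^ (n + 1) - 1) * Nat.card F ^ n := by
  haveI : Finite V := Module.finite_of_finite F
  have e : HypPair B ≃ Σ e : {e : V // e ≠ 0}, {f : V // B e f = 1} :=
    { toFun := fun p => ⟨⟨p.1.1, fun h0 => by simpa [h0] using p.2⟩, ⟨p.1.2, p.2⟩⟩
      invFun := fun s => ⟨(s.1.1, s.2.1), s.2.2⟩
      left_inv := fun _ => rfl
      right_inv := fun _ => rfl }
  rw [Nat.card_congr e, card_sigma_const (c := Nat.card F ^ n) fun x => ?_]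
  · congr 1
    rw [← hn, ← Module.natCard_eq_pow_finrank]
    have := Fintype.ofFinite V
    classical
    simp [Nat.card_eq_fintype_card, Fintype.card_subtype_compl]
  · obtain ⟨f₀, hf₀⟩ := exists_apply_eq_one hnd x.2
    let E : {f : V // B (x : V) f = 1} ≃ LinearMap.ker (B (x : V)) :=
      { toFun := fun f => ⟨f.1 - f₀, by simp [f.2, hf₀]⟩
        invFun := fun k => ⟨k.1 + f₀, by simp [hf₀, LinearMap.mem_ker.1 k.2]⟩
        left_inv := fun f => by simp
        right_inv := fun k => by simp }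
    rw [Nat.card_congr E, Module.natCard_eq_pow_finrank (K := F)]
    congr 1
    have hs : Function.Surjective (B (x : V)) := fun c => ⟨c • f₀, by simp [hf₀]⟩
    have := LinearMap.finrank_range_add_finrank_ker (B (x : V))
    rw [LinearMap.range_eq_top.2 hs, finrank_top, Module.finrank_self] at this
    omega

/-- Number of hyperbolic bases of a nondegenerate alternating form. -/
theorem card_frame {F : Type u} [Field F] [Finite F] :
    ∀ (m : ℕ) {V : Type v} [AddCommGroup V] [Module F V] [FiniteDimensional F V]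
      (B : LinearMap.BilinForm F V), (∀ x, B x x = 0) → (∀ x, (∀ y, B x y = 0) → x = 0) →
      finrank F V = 2 * m →
      Nat.card (Frame B m) =
        ∏ i ∈ Finset.range m, ((Nat.card F ^ (2 * (i + 1)) - 1) * Nat.card F ^ (2 * i + 1)) := by
  intro m
  induction m with
  | zero =>
    intro V _ _ _ B _ _ _
    haveI : Subsingleton (Frame B 0) := ⟨fun a b => Subtype.ext (Subsingleton.elim _ _)⟩
    haveI : Nonempty (Frame B 0) := ⟨⟨(Fin.elim0, Fin.elim0), fun i => i.elim0,
      fun i => i.elim0, fun i => i.elim0⟩⟩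
    simp [Nat.card_unique]
  | succ m ih =>
    intro V _ _ _ B halt hnd hr
    haveI : Finite V := Module.finite_of_finite F
    have hp := card_hypPair hnd (n := 2 * m + 1) (by omega)
    rw [Nat.card_congr (frameSuccEquiv halt m), card_sigma_const (c :=
      ∏ i ∈ Finset.range m, ((Nat.card F ^ (2 * (i + 1)) - 1) * Nat.card F ^ (2 * i + 1)))
      fun p => ?_, hp, Finset.prod_range_succ, show 2 * m + 1 + 1 = 2 * (m + 1) by ring]
    · ring
    · have := finrank_perp2 halt p.2
      exact ih _ (fun x => halt x) (fun x hx => resForm_perp2_nondeg halt hnd p.2 x hx) (by omega)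

end Frames

section Sp

variable {F : Type u} [Field F] {m : ℕ}

/-- The standard alternating form `B(u,v) = Σ u_(inl i) v_(inr i) - u_(inr i) v_(inl i)`. -/
noncomputable def sympB (m : ℕ) (F : Type u) [Field F] :
    LinearMap.BilinForm F (Fin m ⊕ Fin m → F) :=
  Matrix.toLinearMap₂' F (-(Matrix.J (Fin m) F))

theorem sympB_apply (u v : Fin m ⊕ Fin m → F) :
    sympB m F u v = ∑ i, (u (.inl i) * v (.inr i) - u (.inr i) * v (.inl i)) := by
  rw [sympB, Matrix.toLinearMap₂'_apply', Matrix.J, dotProduct, Fintype.sum_sum_type,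
    ← Finset.sum_add_distrib]
  refine Finset.sum_congr rfl fun i _ => ?_
  simp [Matrix.mulVec, dotProduct, Fintype.sum_sum_type, Matrix.one_apply]
  ring

theorem sympB_eq_neg_sympForm (u v : Fin m ⊕ Fin m → F) :
    sympB m F u v = -Cfsg.sympForm m F u v := by
  rw [sympB, Matrix.toLinearMap₂'_apply', Cfsg.sympForm, Matrix.neg_mulVec, dotProduct_neg]

theorem sympB_self (u : Fin m ⊕ Fin m → F) : sympB m F u u = 0 := by
  rw [sympB_apply]
  exact Finset.sum_eq_zero fun i _ => by ring

theorem sympB_swap (u v : Fin m ⊕ Fin m → F) : sympB m F v u = -sympB m F u v :=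
  alt_swap sympB_self u v

theorem sympB_nondeg (u : Fin m ⊕ Fin m → F) (h : ∀ v, sympB m F u v = 0) : u = 0 := by
  funext a
  rcases a with i | i
  · simpa [sympB_apply, Pi.single_apply] using h (Pi.single (.inr i) 1)
  · simpa [sympB_apply, Pi.single_apply] using h (Pi.single (.inl i) 1)

theorem finrank_sympSpace : finrank F (Fin m ⊕ Fin m → F) = 2 * m := by
  rw [Module.finrank_fintype_fun_eq_card, Fintype.card_sum, Fintype.card_fin]
  ring

theorem mem_symplecticGroup_iff_col (A : Matrix (Fin m ⊕ Fin m) (Fin m ⊕ Fin m) F) :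
    A ∈ Matrix.symplecticGroup (Fin m) F ↔
      ∀ a b, sympB m F (A.col a) (A.col b) = (-(Matrix.J (Fin m) F)) a b := by
  have key : ∀ a b, sympB m F (A.col a) (A.col b) =
      (-(Aᵀ * Matrix.J (Fin m) F * A)) a b := by
    intro a b
    rw [← Matrix.neg_mul, ← Matrix.mul_neg, sympB, Matrix.toLinearMap₂'_apply',
      Matrix.mul_assoc]
    rfl
  simp only [key, SymplecticGroup.mem_iff']
  exact ⟨fun h a b => by rw [h], fun h => neg_injective (Matrix.ext h)⟩

theorem mem_symplecticGroup_iff_preserves (A : Matrix (Fin m ⊕ Fin m) (Fin m ⊕ Fin m) F) :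
    A ∈ Matrix.symplecticGroup (Fin m) F ↔
      ∀ u v, sympB m F (A *ᵥ u) (A *ᵥ v) = sympB m F u v := by
  constructor
  · intro h u v
    rw [sympB, Matrix.toLinearMap₂'_apply', Matrix.toLinearMap₂'_apply', Matrix.mulVec_mulVec,
      Matrix.dotProduct_mulVec, Matrix.vecMul_mulVec, ← Matrix.dotProduct_mulVec]
    congr 1
    congr 1
    rw [← Matrix.mul_assoc, Matrix.mul_neg, Matrix.neg_mul, SymplecticGroup.mem_iff'.1 h]
  · intro h
    rw [mem_symplecticGroup_iff_col]
    intro a b
    have := h (Pi.single a 1) (Pi.single b 1)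
    rw [Matrix.mulVec_single_one, Matrix.mulVec_single_one] at this
    rw [this, sympB, Matrix.toLinearMap₂'_apply']
    simp

theorem sympB_mulVec (g : Matrix.symplecticGroup (Fin m) F) (u v : Fin m ⊕ Fin m → F) :
    sympB m F (g.1 *ᵥ u) (g.1 *ᵥ v) = sympB m F u v :=
  (mem_symplecticGroup_iff_preserves _).1 g.2 u v

theorem isSympFrame_iff_mem (A : Matrix (Fin m ⊕ Fin m) (Fin m ⊕ Fin m) F) :
    IsSympFrame (sympB m F) (fun i => A.col (.inl i)) (fun i => A.col (.inr i)) ↔
      A ∈ Matrix.symplecticGroup (Fin m) F := by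
  rw [mem_symplecticGroup_iff_col]
  constructor
  · rintro ⟨h1, h2, h3⟩ (i | i) (j | j)
    · simpa [Matrix.J] using h1 i j
    · simpa [Matrix.J, Matrix.one_apply] using h3 i j
    · rw [sympB_swap, h3]
      simp [Matrix.J, Matrix.one_apply, eq_comm]
    · simpa [Matrix.J] using h2 i j
  · intro h
    refine ⟨fun i j => ?_, fun i j => ?_, fun i j => ?_⟩
    · simpa [Matrix.J] using h (.inl i) (.inl j)
    · simpa [Matrix.J] using h (.inr i) (.inr j)
    · simpa [Matrix.J, Matrix.one_apply] using h (.inl i) (.inr j)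

/-- The matrix with columns `e`, `f`. -/
def frameMat (e f : Fin m → Fin m ⊕ Fin m → F) : Matrix (Fin m ⊕ Fin m) (Fin m ⊕ Fin m) F :=
  Matrix.of fun r c => Sum.elim e f c r

theorem frameMat_col (e f : Fin m → Fin m ⊕ Fin m → F) :
    (fun i => (frameMat e f).col (.inl i)) = e ∧ (fun i => (frameMat e f).col (.inr i)) = f :=
  ⟨by funext i r; rfl, by funext i r; rfl⟩

theorem frameMat_mem {e f : Fin m → Fin m ⊕ Fin m → F} (h : IsSympFrame (sympB m F) e f) :
    frameMat e f ∈ Matrix.symplecticGroup (Fin m) F := by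
  rw [← isSympFrame_iff_mem, (frameMat_col e f).1, (frameMat_col e f).2]
  exact h

/-- The symplectic group as the set of hyperbolic bases (columns). -/
noncomputable def spFrameEquiv (m : ℕ) (F : Type u) [Field F] :
    Matrix.symplecticGroup (Fin m) F ≃ Frame (sympB m F) m where
  toFun A := ⟨(fun i => A.1.col (.inl i), fun i => A.1.col (.inr i)),
    (isSympFrame_iff_mem _).2 A.2⟩
  invFun t := ⟨frameMat t.1.1 t.1.2, frameMat_mem t.2⟩
  left_inv A := by
    apply Subtype.ext
    ext r c
    rcases c with c | c <;> rfl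
  right_inv t := Subtype.ext (Prod.ext (frameMat_col _ _).1 (frameMat_col _ _).2)

/-- Order of the symplectic group. -/
theorem card_Sp [Finite F] (m : ℕ) :
    Nat.card (Matrix.symplecticGroup (Fin m) F) =
      Nat.card F ^ (m ^ 2) * ∏ i ∈ Finset.range m, (Nat.card F ^ (2 * (i + 1)) - 1) := by
  rw [Nat.card_congr (spFrameEquiv m F),
    card_frame m (sympB m F) sympB_self sympB_nondeg finrank_sympSpace, Finset.prod_mul_distrib,
    Finset.prod_pow_eq_pow_sum, mul_comm]
  congr 2
  induction m with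
  | zero => simp
  | succ k ih => rw [Finset.sum_range_succ, ih]; ring

/-- `Sp` is transitive on hyperbolic pairs. -/
theorem exists_symp_pair {e f e' f' : Fin m ⊕ Fin m → F} (h : sympB m F e f = 1)
    (h' : sympB m F e' f' = 1) :
    ∃ g : Matrix.symplecticGroup (Fin m) F,
      g.1 *ᵥ e = e' ∧ g.1 *ᵥ f = f' := by
  rcases m with _ | k
  · rw [sympB_apply] at h; simp at h
  · have key : ∀ e f : Fin (k + 1) ⊕ Fin (k + 1) → F, sympB (k + 1) F e f = 1 →
        ∃ g : Matrix.symplecticGroup (Fin (k + 1)) F,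
          g.1 *ᵥ Pi.single (Sum.inl 0 : Fin (k + 1) ⊕ Fin (k + 1)) 1 = e ∧
          g.1 *ᵥ Pi.single (Sum.inr 0 : Fin (k + 1) ⊕ Fin (k + 1)) 1 = f := by
      intro e f h
      obtain ⟨t, ht⟩ := exists_frame sympB_self sympB_nondeg finrank_sympSpace h
      refine ⟨(spFrameEquiv (k + 1) F).symm t, ?_, ?_⟩ <;>
        rw [Matrix.mulVec_single_one]
      · exact ht.1
      · exact ht.2
    obtain ⟨g, hg⟩ := key e f h
    obtain ⟨g', hg'⟩ := key e' f' h'
    refine ⟨g' * g⁻¹, ?_, ?_⟩
    · rw [← hg.1, Matrix.mulVec_mulVec, ← Submonoid.coe_mul, inv_mul_cancel_right, hg'.1]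
    · rw [← hg.2, Matrix.mulVec_mulVec, ← Submonoid.coe_mul, inv_mul_cancel_right, hg'.2]

/-- `Sp` is transitive on nonzero vectors. -/
theorem exists_symp_mulVec {v w : Fin m ⊕ Fin m → F} (hv : v ≠ 0) (hw : w ≠ 0) :
    ∃ g : Matrix.symplecticGroup (Fin m) F, g.1 *ᵥ v = w := by
  obtain ⟨f, hf⟩ := exists_apply_eq_one sympB_nondeg hv
  obtain ⟨f', hf'⟩ := exists_apply_eq_one sympB_nondeg hw
  obtain ⟨g, hg, -⟩ := exists_symp_pair hf hf'
  exact ⟨g, hg⟩

theorem sympTransvection_mulVec (v x : Fin m ⊕ Fin m → F) (c : F) :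
    Cfsg.sympTransvection m v c *ᵥ x = x + (c * sympB m F v x) • v := by
  rw [Cfsg.sympTransvection, Matrix.add_mulVec, Matrix.one_mulVec, Matrix.smul_mulVec,
    Matrix.vecMulVec_mulVec, sympB_swap, sympB_eq_neg_sympForm, Cfsg.sympForm, dotProduct_comm,
    neg_neg, mul_smul]
  simp

/-- The symplectic transvection `x ↦ x + c B(v,x) v`. -/
noncomputable def sympTransv (v : Fin m ⊕ Fin m → F) (c : F) :
    Matrix.symplecticGroup (Fin m) F :=
  ⟨Cfsg.sympTransvection m v c, (mem_symplecticGroup_iff_preserves _).2 fun x y => by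
    simp only [sympTransvection_mulVec, map_add, map_smul, LinearMap.add_apply,
      LinearMap.smul_apply, smul_eq_mul, sympB_self]
    rw [sympB_swap v x]
    ring⟩

theorem sympTransv_mulVec (v x : Fin m ⊕ Fin m → F) (c : F) :
    (sympTransv v c).1 *ᵥ x =
      x + (c * sympB m F v x) • v :=
  sympTransvection_mulVec v x c

theorem exists_eq_smul_of_commute (g : Matrix.symplecticGroup (Fin m) F)
    (hg : ∀ h, g * h = h * g) (v : Fin m ⊕ Fin m → F) :
    ∃ a : F, g.1 *ᵥ v = a • v := by
  rcases eq_or_ne v 0 with rfl | hv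
  · exact ⟨0, by simp⟩
  · obtain ⟨x, hx⟩ := exists_apply_eq_one sympB_nondeg hv
    have h := congrArg (fun k : Matrix.symplecticGroup (Fin m) F => k.1 *ᵥ x)
      (hg (sympTransv v 1))
    simp only [Submonoid.coe_mul, ← Matrix.mulVec_mulVec, sympTransv_mulVec, hx, Matrix.mulVec_add,
      one_mul, one_smul] at h
    exact ⟨_, add_left_cancel h⟩

/-- The centre of `Sp_{2m}` is `{1, -1}`. -/
theorem center_Sp {g : Matrix.symplecticGroup (Fin m) F} :
    g ∈ Subgroup.center (Matrix.symplecticGroup (Fin m) F) ↔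
      g.1 = 1 ∨ g.1 = -1 := by
  constructor
  · intro hg
    rcases m with _ | k
    · left; exact Subsingleton.elim _ _
    have hc := exists_eq_smul_of_commute g fun h => (Subgroup.mem_center_iff.1 hg h).symm
    choose a ha using hc
    let z : Fin (k + 1) ⊕ Fin (k + 1) := .inl 0
    let v₀ : Fin (k + 1) ⊕ Fin (k + 1) → F := Pi.single z 1
    have key : ∀ b, a (Pi.single b 1) = a v₀ := by
      intro b
      rcases eq_or_ne b z with rfl | hb
      · rfl
      have h1 := ha (v₀ + Pi.single b 1)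
      rw [Matrix.mulVec_add, ha, ha] at h1
      have e1 := congrFun h1 z
      have e2 := congrFun h1 b
      simp [v₀, hb, hb.symm] at e1 e2
      rw [e2, e1]
    have hs : g.1 = a v₀ • (1 : Matrix (Fin _ ⊕ Fin _) (Fin _ ⊕ Fin _) F) := by
      ext i j
      have := congrFun (ha (Pi.single j 1)) i
      rw [key, Matrix.mulVec_single_one] at this
      simpa [Matrix.one_apply, Pi.single_apply] using this
    have hsq : a v₀ * a v₀ = 1 := by
      obtain ⟨x, hx⟩ := exists_apply_eq_one (sympB_nondeg (m := k + 1) (F := F))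
        (show v₀ ≠ 0 by simp [v₀])
      have := sympB_mulVec g v₀ x
      rw [hs] at this
      simpa [Matrix.smul_mulVec, hx] using this
    rcases mul_self_eq_one_iff.1 hsq with h | h <;> rw [h] at hs
    · left; simpa using hs
    · right; simpa using hs
  · intro h
    rw [Subgroup.mem_center_iff]
    intro k
    apply Subtype.ext
    rcases h with h | h <;> simp [h]

/-- `|Z(Sp_{2m}(q))| = gcd(2, q - 1)` for `m ≥ 1`. -/
theorem card_center_Sp [Finite F] (hm : 1 ≤ m) :
    Nat.card (Subgroup.center (Matrix.symplecticGroup (Fin m) F)) =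
      Nat.gcd 2 (Nat.card F - 1) := by
  haveI : Nonempty (Fin m) := ⟨⟨0, hm⟩⟩
  have key : Subgroup.center (Matrix.symplecticGroup (Fin m) F) ≃ rootsOfUnity 2 F :=
    { toFun := fun g => rootsOfUnity.mkOfPowEq
        ((g : Matrix.symplecticGroup (Fin m) F).1 (.inl ⟨0, hm⟩) (.inl ⟨0, hm⟩)) (by
          rcases center_Sp.1 g.2 with h | h <;> simp [h])
      invFun := fun r => ⟨⟨((r : Fˣ) : F) • (1 : Matrix (Fin _ ⊕ Fin _) (Fin _ ⊕ Fin _) F),
          (mem_symplecticGroup_iff_preserves _).2 fun u v => by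
            have h2 : ((r : Fˣ) : F) * ((r : Fˣ) : F) = 1 := by
              rw [← pow_two, ← Units.val_pow_eq_pow_val, (mem_rootsOfUnity _ _).1 r.2, Units.val_one]
            simp only [Matrix.smul_mulVec, Matrix.one_mulVec, map_smul, LinearMap.smul_apply,
              smul_eq_mul, ← mul_assoc, h2, one_mul]⟩, by
            rw [center_Sp]
            have h2 : ((r : Fˣ) : F) ^ 2 = 1 := by
              rw [← Units.val_pow_eq_pow_val, (mem_rootsOfUnity _ _).1 r.2, Units.val_one]
            rcases sq_eq_one_iff.1 h2 with h | h <;> simp [h]⟩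
      left_inv := fun g => by
        apply Subtype.ext; apply Subtype.ext
        rcases center_Sp.1 g.2 with h | h <;> simp [h]
      right_inv := fun r => by
        apply Subtype.ext; apply Units.ext; simp }
  rw [Nat.card_congr key, show rootsOfUnity 2 F = (powMonoidHom 2 : Fˣ →* Fˣ).ker by
    ext x; simp [mem_rootsOfUnity], IsCyclic.card_powMonoidHom_ker, card_units, Nat.gcd_comm]

end Sp

end Cfsg.Agent.GLOrder
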