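/-
Elements of symplectic groups from commutative algebras with involution.

If `R` is a commutative `F`-algebra of dimension `2m` with an algebra map `σ` and a functional `λ` such that
`(x, y) ↦ λ (x * σ y)` is a nondegenerate alternating form, the group of `u` with `u * σ u = 1` embeds in
`Sp_{2m}`.  Products of such algebras give block diagonal elements.

* `SympAlg`, `SympAlg.U`, `Elem` : the bundled algebra together with one element
* `Elem.prod`, `Elem.pow`
* `HasOrd F m a` : some such element of dimension `2m` has order a multiple of `a`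
* `hasOrd_sub_one`, `hasOrd_add_one` : tori of orders `q^d - 1`, `q^d + 1`
* `hasOrd_unipotent`, `hasOrd_char` : unipotent elements
* `hasOrd_prod`, `exists_psp_orderOf`, `exists_psp_two_mul`
-/
import Cfsg.Agent.EqLemmas
import Cfsg.Agent.Lib.GLOrder.Symplectic

set_option autoImplicit false
set_option linter.style.haveILetI false
set_option linter.unusedSectionVars false
set_option linter.unusedSimpArgs false

namespace Cfsg.Agent.GLOrder

open Module Polynomial Matrix

universe u

/-- A commutative algebra with involution and a functional giving an alternating form. -/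
structure SympAlg (F : Type u) [Field F] (R : Type u) [CommRing R] [Algebra F R] where
  /-- the involution -/
  σ : R →ₐ[F] R
  /-- the functional -/
  lam : R →ₗ[F] F
  alt : ∀ x, lam (x * σ x) = 0
  nondeg : ∀ x, (∀ y, lam (x * σ y) = 0) → x = 0

namespace SympAlg

variable {F : Type u} [Field F] {R : Type u} [CommRing R] [Algebra F R]

/-- The norm one group. -/
def U (A : SympAlg F R) : Subgroup Rˣ where
  carrier := {u | (u : R) * A.σ u = 1}
  mul_mem' {a b} ha hb := by
    simp only [Set.mem_ofPred_eq, Units.val_mul, map_mul] at *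
    rw [mul_mul_mul_comm, ha, hb, mul_one]
  one_mem' := by simp
  inv_mem' {a} ha := by
    simp only [Set.mem_ofPred_eq] at *
    calc ((a⁻¹ : Rˣ) : R) * A.σ ↑a⁻¹
        = ((a⁻¹ : Rˣ) : R) * A.σ ↑a⁻¹ * ((a : R) * A.σ a) := by rw [ha, mul_one]
      _ = ((a⁻¹ : Rˣ) : R) * (a : R) * A.σ (↑a⁻¹ * (a : R)) := by rw [map_mul]; ring
      _ = 1 := by simp

theorem mem_U {A : SympAlg F R} {u : Rˣ} : u ∈ A.U ↔ (u : R) * A.σ u = 1 := Iff.rfl

/-- The alternating form. -/
def form (A : SympAlg F R) : LinearMap.BilinForm F R :=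
  ((LinearMap.mul F R).compr₂ A.lam).compl₂ A.σ.toLinearMap

theorem form_apply (A : SympAlg F R) (x y : R) : A.form x y = A.lam (x * A.σ y) := rfl

/-- The norm one group embeds into the symplectic group. -/
theorem exists_hom (A : SympAlg F R) [FiniteDimensional F R] {m : ℕ}
    (hm : finrank F R = 2 * m) :
    ∃ ψ : A.U →* Matrix.symplecticGroup (Fin m) F, Function.Injective ψ ∧
      ∀ u : A.U, ψ u ∈ Subgroup.center (Matrix.symplecticGroup (Fin m) F) →
        ((u : Rˣ) : R) = 1 ∨ ((u : Rˣ) : R) = -1 := by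
  classical
  obtain ⟨t⟩ := nonempty_frame m A.form A.alt A.nondeg hm
  let φ : (Fin m ⊕ Fin m → F) →ₗ[F] R := Fintype.linearCombination F (Sum.elim t.1.1 t.1.2)
  have hφ : ∀ v, φ v = ∑ i, v (.inl i) • t.1.1 i + ∑ i, v (.inr i) • t.1.2 i := fun v => by
    simp [φ, Fintype.linearCombination_apply, Fintype.sum_sum_type]
  obtain ⟨h1, h2, h3⟩ := t.2
  have h3' : ∀ i j, A.form (t.1.2 i) (t.1.1 j) = -(if j = i then 1 else 0) := fun i j => by
    rw [alt_swap A.alt, h3]
  have hform : ∀ v w, A.form (φ v) (φ w) = sympB m F v w := by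
    intro v w
    simp only [hφ, map_add, map_sum, map_smul, LinearMap.add_apply, LinearMap.sum_apply,
      LinearMap.smul_apply, smul_eq_mul, h1, h2, h3, h3', sympB_apply, mul_zero, Finset.sum_const_zero,
      mul_ite, mul_one, mul_neg, Finset.sum_neg_distrib, Finset.sum_ite_eq,
      Finset.sum_ite_eq', Finset.mem_univ, if_true, zero_add, add_zero, Finset.sum_sub_distrib]
    simp only [mul_comm (w _) (v _)]
    ring
  have hinj : Function.Injective φ := by
    intro v w hvw
    refine sub_eq_zero.1 (sympB_nondeg (v - w) fun z => ?_)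
    rw [← hform, map_sub, hvw, sub_self, map_zero, LinearMap.zero_apply]
  let Φ : (Fin m ⊕ Fin m → F) ≃ₗ[F] R := LinearEquiv.ofInjectiveOfFinrankEq φ hinj (by
    rw [hm, finrank_sympSpace])
  let L : R →* Matrix (Fin m ⊕ Fin m) (Fin m ⊕ Fin m) F :=
    { toFun := fun a => LinearMap.toMatrix' (Φ.symm.toLinearMap ∘ₗ LinearMap.mulLeft F a ∘ₗ Φ.toLinearMap)
      map_one' := by rw [← LinearMap.toMatrix'_one]; congr 1; ext v; simp
      map_mul' := fun a b => by
        rw [← LinearMap.toMatrix'_comp]; congr 1; ext v; simp [mul_assoc] }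
  have hL : ∀ a v, Φ (L a *ᵥ v) = a * Φ v := fun a v => by
    simp [L, LinearMap.toMatrix'_mulVec]
  have hmem : ∀ u : A.U, L (u : Rˣ) ∈ Matrix.symplecticGroup (Fin m) F := fun u => by
    rw [mem_symplecticGroup_iff_preserves]
    intro v w
    rw [← hform, ← hform]
    show A.form (Φ (L (u : Rˣ) *ᵥ v)) (Φ (L (u : Rˣ) *ᵥ w)) = A.form (Φ v) (Φ w)
    rw [hL, hL, form_apply, form_apply, map_mul A.σ, mul_mul_mul_comm, mem_U.1 u.2, one_mul]
  refine ⟨MonoidHom.codRestrict ((L.comp (Units.coeHom R)).comp A.U.subtype) _ hmem, ?_, ?_⟩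
  · intro a b hab
    have h : L (a : Rˣ) = L (b : Rˣ) := congrArg Subtype.val hab
    have h' := congrArg (fun M => Φ (M *ᵥ Φ.symm 1)) h
    simp only [hL, LinearEquiv.apply_symm_apply, mul_one] at h'
    exact Subtype.ext (Units.ext h')
  · intro u hu
    have key : ∀ M, L (u : Rˣ) = M → ((u : Rˣ) : R) = Φ (M *ᵥ Φ.symm 1) := fun M hM => by
      rw [← hM, hL, LinearEquiv.apply_symm_apply, mul_one]
    rcases center_Sp.1 hu with h | h
    · left; rw [key 1 h]; simp
    · right; rw [key (-1) h]; simp [Matrix.neg_mulVec]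

/-- The product of two algebras. -/
def prod {R' : Type u} [CommRing R'] [Algebra F R'] (A : SympAlg F R) (B : SympAlg F R') :
    SympAlg F (R × R') where
  σ := (A.σ.comp (AlgHom.fst F R R')).prod (B.σ.comp (AlgHom.snd F R R'))
  lam := A.lam.coprod B.lam
  alt x := by simp [A.alt, B.alt]
  nondeg x hx := by
    refine Prod.ext (A.nondeg _ fun y => ?_) (B.nondeg _ fun y => ?_)
    · simpa using hx (y, 0)
    · simpa using hx (0, y)

end SympAlg

/-- An algebra with involution of dimension `2m` and a norm one element of it. -/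
structure Elem (F : Type u) [Field F] (m : ℕ) where
  /-- the algebra -/
  R : Type u
  [ring : CommRing R]
  [alg : Algebra F R]
  [fin : FiniteDimensional F R]
  /-- the form data -/
  A : SympAlg F R
  /-- the element -/
  x : A.U
  rank : finrank F R = 2 * m

attribute [instance] Elem.ring Elem.alg Elem.fin

namespace Elem

variable {F : Type u} [Field F] {m m' : ℕ}

/-- Powers. -/
def pow (E : Elem F m) (k : ℕ) : Elem F m := { E with x := E.x ^ k }

/-- Block sums. -/
def prod (E : Elem F m) (E' : Elem F m') : Elem F (m + m') where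
  R := E.R × E'.R
  A := E.A.prod E'.A
  x := ⟨MulEquiv.prodUnits.symm ((E.x : E.Rˣ), (E'.x : E'.Rˣ)),
    Prod.ext (SympAlg.mem_U.1 E.x.2) (SympAlg.mem_U.1 E'.x.2)⟩
  rank := by rw [finrank_prod, E.rank, E'.rank]; ring

/-- The underlying ring element. -/
def val (E : Elem F m) : E.R := ((E.x : E.Rˣ) : E.R)

theorem val_pow (E : Elem F m) (k : ℕ) : (E.pow k).val = E.val ^ k := by
  show (((E.x ^ k : E.A.U) : E.Rˣ) : E.R) = _
  simp [val]

theorem val_prod (E : Elem F m) (E' : Elem F m') : (E.prod E').val = (E.val, E'.val) := rfl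

theorem val_mul_σ (E : Elem F m) : E.val * E.A.σ E.val = 1 := SympAlg.mem_U.1 E.x.2

/-- The negative element. -/
def neg (E : Elem F m) : Elem F m :=
  { E with x := ⟨-(E.x : E.Rˣ), by rw [SympAlg.mem_U]; simpa using SympAlg.mem_U.1 E.x.2⟩ }

theorem val_neg (E : Elem F m) : E.neg.val = -E.val := rfl

theorem orderOf_val_pos [Finite F] (E : Elem F m) : 0 < orderOf E.val := by
  haveI : Finite E.R := Module.finite_of_finite F
  rw [val, orderOf_units]
  exact orderOf_pos _

/-- An element of `Sp` with the same powers up to the centre. -/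
theorem exists_sp (E : Elem F m) :
    ∃ g : Matrix.symplecticGroup (Fin m) F, ∀ k : ℕ, (g ^ k = 1 ↔ E.val ^ k = 1) ∧
      (g ^ k ∈ Subgroup.center (Matrix.symplecticGroup (Fin m) F) → E.val ^ k = 1 ∨ E.val ^ k = -1) := by
  obtain ⟨ψ, hψ, hc⟩ := E.A.exists_hom E.rank
  refine ⟨ψ E.x, fun k => ⟨?_, fun h => ?_⟩⟩
  · rw [← map_pow, map_eq_one_iff _ hψ]
    simp [val, Subtype.ext_iff, Units.ext_iff]
  · rw [← map_pow] at h
    simpa [val] using hc _ h

/-- An element of `PSp` of order `a`, if `a` divides all exponents sending the element to `±1`. -/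
theorem exists_psp [Finite F] (E : Elem F m) {a : ℕ}
    (h : ∀ k : ℕ, E.val ^ k = 1 ∨ E.val ^ k = -1 → a ∣ k) :
    ∃ g : Cfsg.PSp m F, orderOf g = a := by
  obtain ⟨g, hg⟩ := E.exists_sp
  have hd : a ∣ orderOf (g : Cfsg.PSp m F) := by
    refine h _ ((hg _).2 ((QuotientGroup.eq_one_iff _).1 ?_))
    rw [QuotientGroup.mk_pow, pow_orderOf_eq_one]
  exact ⟨(g : Cfsg.PSp m F) ^ (orderOf (g : Cfsg.PSp m F) / a),
    orderOf_pow_orderOf_div (orderOf_pos _).ne' hd⟩

end Elem

/-- Some element of dimension `2m` has order a multiple of `a`. -/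
def HasOrd (F : Type u) [Field F] (m a : ℕ) : Prop := ∃ E : Elem F m, a ∣ orderOf E.val

variable {F : Type u} [Field F] [Finite F] {m m' a b : ℕ}

theorem HasOrd.mono (h : HasOrd F m a) (hb : b ∣ a) : HasOrd F m b :=
  ⟨h.choose, hb.trans h.choose_spec⟩

theorem HasOrd.exact (h : HasOrd F m a) : ∃ E : Elem F m, orderOf E.val = a := by
  obtain ⟨E, hE⟩ := h
  refine ⟨E.pow (orderOf E.val / a), ?_⟩
  exact (congrArg orderOf (E.val_pow _)).trans (orderOf_pow_orderOf_div E.orderOf_val_pos.ne' hE)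

theorem HasOrd.prod (h : HasOrd F m a) (h' : HasOrd F m' b) :
    HasOrd F (m + m') (Nat.lcm a b) := by
  obtain ⟨E, hE⟩ := h
  obtain ⟨E', hE'⟩ := h'
  refine ⟨E.prod E', ?_⟩
  show _ ∣ orderOf ((E.val, E'.val) : E.R × E'.R)
  rw [Prod.orderOf]
  exact Nat.lcm_dvd (hE.trans (Nat.dvd_lcm_left _ _)) (hE'.trans (Nat.dvd_lcm_right _ _))

theorem Elem.nontrivial (E : Elem F m) (hm : 1 ≤ m) : Nontrivial E.R :=
  Module.nontrivial_of_finrank_pos (R := F) (by rw [E.rank]; omega)

/-- Odd orders, or any order in characteristic two, pass to `PSp`. -/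
theorem HasOrd.exists_psp_orderOf (h : HasOrd F m a) (ha : Odd a ∨ (2 : F) = 0) :
    ∃ g : Cfsg.PSp m F, orderOf g = a := by
  obtain ⟨E, hE⟩ := h
  refine E.exists_psp fun k hk => ?_
  rcases hk with hk | hk
  · exact hE.trans (orderOf_dvd_of_pow_eq_one hk)
  rcases ha with ha | ha
  · refine (Nat.Coprime.dvd_mul_left (Nat.coprime_two_right.2 ha)).1
      (hE.trans (orderOf_dvd_of_pow_eq_one (?_ : E.val ^ (2 * k) = 1)))
    rw [mul_comm, pow_mul, hk, neg_one_sq]
  · refine hE.trans (orderOf_dvd_of_pow_eq_one ?_)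
    have h2 : (2 : E.R) = 0 := by
      rw [← map_ofNat (algebraMap F E.R) 2, ha, map_zero]
    rw [hk]
    linear_combination -h2

/-- Two blocks of odd orders `a`, `b` give an element of order `2 * lcm a b` in `PSp`. -/
theorem exists_psp_two_mul (h2 : (2 : F) ≠ 0) (hm : 1 ≤ m) (hm' : 1 ≤ m') (ha : Odd a) (hb : Odd b)
    (h : HasOrd F m a) (h' : HasOrd F m' b) :
    ∃ g : Cfsg.PSp (m + m') F, orderOf g = 2 * Nat.lcm a b := by
  obtain ⟨E, hE⟩ := h.exact
  obtain ⟨E', hE'⟩ := h'.exact
  refine (E.prod E'.neg).exists_psp fun k hk => ?_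
  change ((E.val, -E'.val) : E.R × E'.R) ^ k = 1 ∨ ((E.val, -E'.val) : E.R × E'.R) ^ k = -1 at hk
  rw [Prod.pow_mk] at hk
  have hne : ∀ {l} (D : Elem F l), 1 ≤ l → (1 : D.R) ≠ -1 := by
    intro l D hl h1
    haveI := D.nontrivial hl
    refine h2 ((algebraMap F D.R).injective ?_)
    rw [map_ofNat, map_zero]
    linear_combination h1
  have hodd : ∀ {l} (D : Elem F l), 1 ≤ l → Odd (orderOf D.val) → D.val ^ k ≠ -1 := by
    intro l D hl hD h1
    have h3 := congrArg (· ^ orderOf D.val) h1
    rw [← pow_mul, mul_comm, pow_mul, pow_orderOf_eq_one, one_pow, hD.neg_one_pow] at h3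
    exact hne D hl h3
  rcases hk with hk | hk
  · simp only [Prod.mk_eq_one] at hk
    obtain ⟨hk1, hk2⟩ := hk
    have hke : Even k := by
      by_contra hko
      rw [Nat.not_even_iff_odd] at hko
      rw [hko.neg_pow, neg_eq_iff_eq_neg] at hk2
      exact hodd E' hm' (hE' ▸ hb) hk2
    rw [hke.neg_pow] at hk2
    have hl : Nat.lcm a b ∣ k :=
      Nat.lcm_dvd (hE ▸ orderOf_dvd_of_pow_eq_one hk1) (hE' ▸ orderOf_dvd_of_pow_eq_one hk2)
    refine Nat.Coprime.mul_dvd_of_dvd_of_dvd ?_ hke.two_dvd hl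
    exact Nat.coprime_two_left.2 ((ha.mul hb).of_dvd_nat (Nat.lcm_dvd_mul a b))
  · exact absurd (congrArg Prod.fst hk) (hodd E hm (hE ▸ ha))

section constructions

variable (F)

/-- An extension of degree `d` in the universe of `F`. -/
theorem exists_extension {d : ℕ} (hd : 1 ≤ d) :
    ∃ (K : Type u) (_ : Field K) (_ : Algebra F K),
      finrank F K = d ∧ Finite K ∧ Nat.card K = Nat.card F ^ d := by
  haveI : NeZero d := ⟨by omega⟩
  obtain ⟨p, hcp⟩ := CharP.exists F
  haveI : Fact p.Prime := ⟨CharP.char_is_prime F p⟩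
  refine ⟨ULift.{u} (FiniteField.Extension F p d), inferInstance, inferInstance, ?_, inferInstance, ?_⟩
  · rw [(ULift.moduleEquiv : ULift.{u} (FiniteField.Extension F p d) ≃ₗ[F] _).finrank_eq,
      FiniteField.finrank_extension]
  · rw [Nat.card_ulift, FiniteField.natCard_extension]

/-- A torus of order `q^d - 1` in dimension `2d`. -/
theorem hasOrd_sub_one {d : ℕ} (hd : 1 ≤ d) : HasOrd F d (Nat.card F ^ d - 1) := by
  classical
  obtain ⟨K, _, _, hrk, _, hcard⟩ := exists_extension F hd
  haveI : Module.Finite F K := Module.finite_of_finrank_pos (by omega)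
  let tr : K →ₗ[F] F := Algebra.trace F K
  let A : SympAlg F (K × K) :=
    { σ := (AlgHom.snd F K K).prod (AlgHom.fst F K K)
      lam := tr.coprod (-tr)
      alt := fun x => by simp [mul_comm]
      nondeg := fun x hx => by
        have key : ∀ z : K, (∀ y, tr (z * y) = 0) → z = 0 := fun z hz =>
          (traceForm_nondegenerate F K).1 z fun y => hz y
        refine Prod.ext (key _ fun y => ?_) (key _ fun y => ?_)
        · simpa using hx (0, y)
        · simpa using hx (y, 0) }
  haveI := Fintype.ofFinite K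
  obtain ⟨g, hg⟩ := IsCyclic.exists_ofOrder_eq_natCard (α := Kˣ)
  refine ⟨⟨K × K, A, ⟨MulEquiv.prodUnits.symm (g, g⁻¹), ?_⟩, ?_⟩, ?_⟩
  · rw [SympAlg.mem_U]
    exact Prod.ext (g.mul_inv) (g.inv_mul)
  · rw [finrank_prod, hrk]; ring
  · show _ ∣ orderOf ((g : K), ((g⁻¹ : Kˣ) : K))
    rw [Prod.orderOf, orderOf_units, orderOf_units, hg, Nat.card_units, hcard]
    exact Nat.dvd_lcm_left _ _

/-- A torus of order `q^d + 1` in dimension `2d`. -/
theorem hasOrd_add_one {d : ℕ} (hd : 1 ≤ d) : HasOrd F d (Nat.card F ^ d + 1) := by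
  classical
  haveI : NeZero (d + d) := ⟨by omega⟩
  obtain ⟨p, hcp⟩ := CharP.exists F
  haveI : Fact p.Prime := ⟨CharP.char_is_prime F p⟩
  obtain ⟨K, _, _, hrk, _, hcardK⟩ := exists_extension F (d := d + d) (by omega)
  haveI : Module.Finite F K := Module.finite_of_finrank_pos (by omega)
  haveI := Fintype.ofFinite K
  haveI := Fintype.ofFinite F
  set q := Nat.card F with hq
  let τ : K →ₐ[F] K := ((FiniteField.frobeniusAlgEquivOfAlgebraic F K) ^ d).toAlgHom
  have hτ : ∀ x, τ x = x ^ q ^ d := fun x => by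
    show ((FiniteField.frobeniusAlgEquivOfAlgebraic F K) ^ d) x = _
    rw [AlgEquiv.coe_pow, FiniteField.coe_frobeniusAlgEquivOfAlgebraic_iterate, hq,
      Nat.card_eq_fintype_card]
  have hττ : ∀ x, τ (τ x) = x := fun x => by
    rw [hτ, hτ, ← pow_mul, ← pow_add, ← hcardK, Nat.card_eq_fintype_card, FiniteField.pow_card]
  have hdq : 1 < q ^ d := Nat.one_lt_pow (by omega) (by rw [hq]; exact Finite.one_lt_card)
  obtain ⟨a, ha⟩ : ∃ a : K, τ a ≠ a := by
    by_contra hcon
    push Not at hcon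
    obtain ⟨g, hg⟩ := IsCyclic.exists_ofOrder_eq_natCard (α := Kˣ)
    have h1 : g ^ (q ^ d - 1) = 1 := by
      have h := hcon g
      rw [hτ] at h
      apply Units.ext
      rw [Units.val_pow_eq_pow_val, Units.val_one]
      refine mul_right_cancel₀ g.ne_zero ?_
      rw [← pow_succ, Nat.sub_add_cancel hdq.le, h, one_mul]
    have h2 := Nat.le_of_dvd (by omega) (hg ▸ orderOf_dvd_of_pow_eq_one h1)
    rw [Nat.card_units, hcardK, pow_add] at h2
    have := Nat.mul_le_mul_left (q ^ d) hdq
    omega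
  set c := a - τ a with hc
  have hc0 : c ≠ 0 := sub_ne_zero.2 (Ne.symm ha)
  have hτc : τ c = -c := by rw [hc, map_sub, hττ, neg_sub]
  have htr : ∀ z : K, τ z = -z → Algebra.trace F K z = 0 := by
    intro z hz
    apply (algebraMap F K).injective
    rw [FiniteField.algebraMap_trace_eq_sum_pow, hrk, map_zero,
      Finset.sum_range_add, ← Finset.sum_add_distrib]
    refine Finset.sum_eq_zero fun i _ => ?_
    rw [pow_add q d i, pow_mul, ← hτ z, hz, ← hq]
    have hi : (-z) ^ q ^ i = -(z ^ q ^ i) := by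
      haveI : CharP K p := charP_of_injective_algebraMap' F p
      obtain ⟨e, he⟩ : ∃ e, q ^ i = p ^ e := by
        haveI := Fintype.ofFinite F
        obtain ⟨e, -, he⟩ := FiniteField.card F p
        exact ⟨(e : ℕ) * i, by rw [hq, Nat.card_eq_fintype_card, he, pow_mul]⟩
      have := sub_pow_char_pow (R := K) (p := p) (n := e) 0 z
      rw [he]
      simpa [zero_pow (pow_pos (Fact.out : p.Prime).pos e).ne'] using this
    rw [hi, add_neg_cancel]
  let A : SympAlg F K :=
    { σ := τ
      lam := (Algebra.trace F K) ∘ₗ LinearMap.mulLeft F c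
      alt := fun x => htr _ (by
        rw [LinearMap.mulLeft_apply, map_mul, map_mul, hττ, hτc]; ring)
      nondeg := fun x hx => by
        have h : ∀ y, Algebra.trace F K (c * x * y) = 0 := fun y => by
          have h := hx (τ y)
          rw [hττ] at h
          simpa [mul_assoc] using h
        exact (mul_eq_zero.1 ((traceForm_nondegenerate F K).1 _ h)).resolve_left hc0 }
  obtain ⟨g, hg⟩ := IsCyclic.exists_ofOrder_eq_natCard (α := Kˣ)
  have hNat : (q ^ d - 1) * (q ^ d + 1) = q ^ (d + d) - 1 := by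
    rw [pow_add, mul_comm, ← Nat.sq_sub_sq, one_pow, sq]
  have hgo : orderOf g = q ^ (d + d) - 1 := by rw [hg, Nat.card_units, hcardK]
  refine ⟨⟨K, A, ⟨g ^ (q ^ d - 1), ?_⟩, ?_⟩, ?_⟩
  · rw [SympAlg.mem_U]
    show ((g ^ (q ^ d - 1) : Kˣ) : K) * τ _ = 1
    rw [hτ, ← pow_succ', ← Units.val_pow_eq_pow_val, ← pow_mul, hNat, ← hgo, pow_orderOf_eq_one,
      Units.val_one]
  · rw [hrk]; ring
  · show _ ∣ orderOf ((g ^ (q ^ d - 1) : Kˣ) : K)
    have hne : q ^ d - 1 ≠ 0 := by omega
    rw [orderOf_units, orderOf_pow_of_dvd hne (hgo ▸ Dvd.intro _ hNat), hgo, ← hNat,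
      Nat.mul_div_cancel_left _ (Nat.pos_of_ne_zero hne)]

variable (p : ℕ) [Fact p.Prime] [CharP F p]

/-- A transvection. -/
theorem hasOrd_char : HasOrd F 1 p := by
  let σ : DualNumber F →ₐ[F] DualNumber F :=
    TrivSqZeroExt.map (-LinearMap.id : F →ₗ[F] F)
  let A : SympAlg F (DualNumber F) :=
    { σ := σ
      lam := TrivSqZeroExt.sndHom F F
      alt := fun x => by
        simp [σ, mul_comm]
      nondeg := fun x hx => by
        have h1 := hx (TrivSqZeroExt.inr 1)
        have h2 := hx 1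
        simp [σ] at h1 h2
        exact TrivSqZeroExt.ext h1 h2 }
  let e : DualNumber F := DualNumber.eps
  have he : e * e = 0 := DualNumber.eps_mul_eps
  have hσe : σ e = -e := by ext <;> simp [σ, e]
  haveI : Module.Finite F (DualNumber F) := inferInstanceAs (Module.Finite F (F × F))
  let w : (DualNumber F)ˣ := ⟨1 + e, 1 - e,
    by linear_combination -he, by linear_combination -he⟩
  refine ⟨⟨DualNumber F, A, ⟨w, ?_⟩, ?_⟩, ?_⟩
  · rw [SympAlg.mem_U]
    show (1 + e) * σ (1 + e) = 1
    rw [map_add, map_one, hσe]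
    linear_combination -he
  · show finrank F (F × F) = 2 * 1
    rw [finrank_prod, finrank_self]
  · show p ∣ orderOf (1 + e)
    have hp : (1 + e) ^ p = 1 := by
      have key : ∀ k : ℕ, (1 + e) ^ k = 1 + (k : DualNumber F) * e := by
        intro k
        induction k with
        | zero => simp
        | succ k ih => rw [pow_succ, ih]; push_cast; linear_combination (k : DualNumber F) * he
      rw [key, ← map_natCast (algebraMap F (DualNumber F)), CharP.cast_eq_zero, map_zero]
      simp
    rw [orderOf_eq_prime hp (fun h => ?_)]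
    have := congrArg TrivSqZeroExt.snd h
    simp [e] at this

omit [Finite F] in
/-- Regular unipotent elements (odd characteristic). -/
theorem hasOrd_unipotent [Finite F] (h2 : (2 : F) ≠ 0) {k j : ℕ} (hjk : p ^ j < 2 * k) :
    HasOrd F k (p ^ (j + 1)) := by
  classical
  have hk : 1 ≤ k := by omega
  let P : F[X] := X ^ (2 * k)
  have hP : P ≠ 0 := pow_ne_zero _ X_ne_zero
  have hPd : P.natDegree = 2 * k := natDegree_X_pow _
  let R := AdjoinRoot P
  haveI : Module.Finite F R := (AdjoinRoot.powerBasis hP).finite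
  haveI : Nontrivial R := AdjoinRoot.nontrivial _ (by
    rw [degree_eq_natDegree hP, hPd]; exact_mod_cast (by omega : 2 * k ≠ 0))
  have hrank : finrank F R = 2 * k := by
    rw [(AdjoinRoot.powerBasis hP).finrank, AdjoinRoot.powerBasis_dim, hPd]
  let e : R := AdjoinRoot.root P
  have he : e ^ (2 * k) = 0 := by
    have := AdjoinRoot.eval₂_root P
    simpa [P, e] using this
  obtain ⟨w, hw⟩ : IsUnit (1 + e) := IsNilpotent.isUnit_one_add ⟨2 * k, he⟩
  set v : R := ((w⁻¹ : Rˣ) : R) with hv
  have hwv : (1 + e) * v = 1 := by rw [← hw]; exact w.mul_inv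
  have hv1 : v - 1 = -(e * v) := by linear_combination hwv
  have hve : (v - 1) ^ (2 * k) = 0 := by rw [hv1, neg_pow, mul_pow, he]; simp
  let σ : R →ₐ[F] R := AdjoinRoot.liftAlgHom P (Algebra.ofId F R) (v - 1) (by simp [P, hve])
  have hσe : σ e = v - 1 := AdjoinRoot.liftAlgHom_root _ _ _ _
  have hσv : σ v = 1 + e := by
    have h : σ (1 + e) * σ v = 1 := by rw [← map_mul, hwv, map_one]
    rw [map_add, map_one, hσe, add_sub_cancel] at h
    calc σ v = (1 + e) * v * σ v := by rw [hwv, one_mul]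
      _ = 1 + e := by rw [mul_assoc, h, mul_one]
  have hσσ : ∀ x, σ (σ x) = x := by
    have h : σ.comp σ = AlgHom.id F R := AdjoinRoot.algHom_ext (by
      show σ (σ e) = e
      rw [hσe, map_sub, map_one, hσv, add_sub_cancel_left])
    exact fun x => DFunLike.congr_fun h x
  let top : R →ₗ[F] F := (AdjoinRoot.powerBasis hP).basis.coord
    ⟨2 * k - 1, by rw [AdjoinRoot.powerBasis_dim, hPd]; omega⟩
  have htop : top (e ^ (2 * k - 1)) = 1 := by
    show (AdjoinRoot.powerBasis hP).basis.coord _ ((AdjoinRoot.powerBasis hP).gen ^ (2 * k - 1)) = 1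
    have h := (AdjoinRoot.powerBasis hP).coe_basis
    rw [show (AdjoinRoot.powerBasis hP).gen ^ (2 * k - 1) = (AdjoinRoot.powerBasis hP).basis
      ⟨2 * k - 1, by rw [AdjoinRoot.powerBasis_dim, hPd]; omega⟩ by rw [h], Basis.coord_apply,
      Basis.repr_self, Finsupp.single_eq_same]
  have hsoc : σ (e ^ (2 * k - 1)) = -(e ^ (2 * k - 1)) := by
    obtain ⟨l, hl⟩ : ∃ l, 2 * k - 1 = 2 * l + 1 := ⟨k - 1, by omega⟩
    have hfix : e ^ (2 * k - 1) * v = e ^ (2 * k - 1) := by
      have : e ^ (2 * k - 1) * e = 0 := by rw [← pow_succ, Nat.sub_add_cancel (by omega), he]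
      linear_combination e ^ (2 * k - 1) * hv1 - v * this
    have hiter : ∀ i, e ^ (2 * k - 1) * v ^ i = e ^ (2 * k - 1) := by
      intro i
      induction i with
      | zero => simp
      | succ i ih => rw [pow_succ, ← mul_assoc, ih, hfix]
    rw [map_pow, hσe, hv1, neg_pow, mul_pow, hiter, hl]
    simp [pow_succ, pow_mul]
  let A : SympAlg F R :=
    { σ := σ
      lam := top - top ∘ₗ σ.toLinearMap
      alt := fun x => by simp [hσσ, mul_comm x]
      nondeg := fun x hx => by
        by_contra hx0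
        obtain ⟨Q, rfl⟩ := AdjoinRoot.mk_surjective x
        have hQ0 : Q ≠ 0 := by rintro rfl; exact hx0 (map_zero _)
        obtain ⟨i, Q', hQ', hQ⟩ := WfDvdMonoid.max_power_factor hQ0 irreducible_X
        obtain ⟨a, b, hab⟩ := ((irreducible_X.coprime_iff_not_dvd).2 hQ').pow_left (m := 2 * k)
        have hQu : AdjoinRoot.mk P b * AdjoinRoot.mk P Q' = 1 := by
          have := congrArg (AdjoinRoot.mk P) hab
          rwa [map_add, map_mul, map_mul, map_one, show AdjoinRoot.mk P (X ^ (2 * k)) = 0 from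
            AdjoinRoot.mk_self, mul_zero, zero_add] at this
        have hxe : AdjoinRoot.mk P Q = e ^ i * AdjoinRoot.mk P Q' := by
          rw [hQ, map_mul, map_pow, AdjoinRoot.mk_X]
        have hi : i ≤ 2 * k - 1 := by
          by_contra hi
          apply hx0
          rw [hxe, show i = 2 * k + (i - 2 * k) by omega, pow_add, he, zero_mul, zero_mul]
        have h := hx (σ (AdjoinRoot.mk P b * e ^ (2 * k - 1 - i)))
        rw [hσσ, hxe, show e ^ i * AdjoinRoot.mk P Q' * (AdjoinRoot.mk P b * e ^ (2 * k - 1 - i)) =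
          (AdjoinRoot.mk P b * AdjoinRoot.mk P Q') * (e ^ i * e ^ (2 * k - 1 - i)) by ring, hQu,
          one_mul, ← pow_add, Nat.add_sub_cancel' hi, LinearMap.sub_apply, LinearMap.comp_apply] at h
        rw [show σ.toLinearMap (e ^ (2 * k - 1)) = -(e ^ (2 * k - 1)) from hsoc, map_neg, htop,
          sub_neg_eq_add, one_add_one_eq_two] at h
        exact h2 h }
  let w' : Rˣ := w
  refine ⟨⟨R, A, ⟨w', ?_⟩, hrank⟩, ?_⟩
  · rw [SympAlg.mem_U]
    show (w : R) * σ (w : R) = 1
    rw [hw, map_add, map_one, hσe, add_sub_cancel, hwv]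
  · show p ^ (j + 1) ∣ orderOf (w : R)
    haveI : CharP R p := charP_of_injective_algebraMap' F p
    haveI : Finite R := Module.finite_of_finite F
    have hpow : ∀ i, (w : R) ^ p ^ i = 1 + e ^ p ^ i := fun i => by
      rw [hw, add_pow_char_pow_of_commute (p := p) (n := i) (Commute.all _ _), one_pow]
    have hbig : (w : R) ^ p ^ (2 * k) = 1 := by
      rw [hpow, pow_eq_zero_of_le (Nat.lt_pow_self (Fact.out : p.Prime).one_lt).le he, add_zero]
    obtain ⟨i, -, hi⟩ := (Nat.dvd_prime_pow Fact.out).1 (orderOf_dvd_of_pow_eq_one hbig)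
    rw [hi]
    refine pow_dvd_pow _ ?_
    by_contra hji
    have h : (w : R) ^ p ^ j = 1 := orderOf_dvd_iff_pow_eq_one.1 (hi ▸ pow_dvd_pow p (by omega))
    rw [hpow, add_eq_left] at h
    have h' : AdjoinRoot.mk P (X ^ p ^ j) = 0 := by rwa [map_pow, AdjoinRoot.mk_X]
    rw [AdjoinRoot.mk_eq_zero] at h'
    have := natDegree_le_of_dvd h' (pow_ne_zero _ X_ne_zero)
    rw [hPd, natDegree_X_pow] at this
    omega

end constructions

end Cfsg.Agent.GLOrder
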