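/-
Element orders of `PSp_{2m}(q)`: lifting to `Sp`, elements of prime order, degree bookkeeping.
* `exists_sp_orderOf` : lift of an element of `PSp` of odd order (or in characteristic two)
* `HasOrd.le` : monotonicity in the dimension
* `orderOf_pos_zmod`, `hasOrd_prime`, `dvd_card_pow_sub_one_iff`
* `coprime_of_ne`, `natDegree_mul_le` : degree bounds for products of distinct factors
-/
import Cfsg.Agent.EqLemmas
import Cfsg.Agent.Lib.GLOrder.SympAlg
import Cfsg.Agent.Lib.GLOrder.RootOrder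

set_option autoImplicit false
set_option linter.style.haveILetI false
set_option linter.unusedSectionVars false
set_option linter.unusedSimpArgs false

namespace Cfsg.Agent.GLOrder

open Polynomial Module

universe u

variable {F : Type u} [Field F]

/-- Elements of odd order (any order in characteristic two) of `PSp` lift with the same order. -/
theorem exists_sp_orderOf [Finite F] {m a : ℕ} (ha : Odd a ∨ (2 : F) = 0) {y : Cfsg.PSp m F}
    (hy : orderOf y = a) :
    ∃ x : Matrix.symplecticGroup (Fin m) F,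
      orderOf (x : Matrix (Fin m ⊕ Fin m) (Fin m ⊕ Fin m) F) = a := by
  obtain ⟨g, rfl⟩ := QuotientGroup.mk_surjective y
  have hga : g ^ a ∈ Subgroup.center (Matrix.symplecticGroup (Fin m) F) := by
    rw [← QuotientGroup.eq_one_iff, QuotientGroup.mk_pow, ← hy, pow_orderOf_eq_one]
  have hcase : ∃ h : Matrix.symplecticGroup (Fin m) F,
      (h : Cfsg.PSp m F) = (g : Cfsg.PSp m F) ∧ h ^ a = 1 := by
    rcases ha with ha | ha
    · refine ⟨g * g ^ a, ?_, ?_⟩
      · rw [QuotientGroup.mk_mul, (QuotientGroup.eq_one_iff _).2 hga, mul_one]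
      · have h1 : (g * g ^ a) ^ a = (g ^ a) ^ (a + 1) := by
          rw [← pow_succ', ← pow_mul, ← pow_mul, mul_comm]
        obtain ⟨l, hl⟩ : Even (a + 1) := ha.add_one
        rw [h1, hl, ← two_mul, pow_mul]
        refine (congrArg (· ^ l) (?_ : (g ^ a) ^ 2 = 1)).trans (one_pow _)
        apply Subtype.ext
        rcases center_Sp.1 hga with h | h <;>
          simp only [SubmonoidClass.coe_pow, OneMemClass.coe_one] at h ⊢ <;> rw [h] <;> simp
    · refine ⟨g, rfl, Subtype.ext ?_⟩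
      rcases center_Sp.1 hga with h | h
      · simpa using h
      · refine h.trans ?_
        ext i j
        have h1 : (-1 : F) = 1 := by linear_combination -ha
        simp [Matrix.one_apply]
        split_ifs <;> simp [h1]
  obtain ⟨h, hh, hpow⟩ := hcase
  refine ⟨h, ?_⟩
  refine (orderOf_submonoid h).trans (Nat.dvd_antisymm (orderOf_dvd_of_pow_eq_one hpow) ?_)
  rw [← hy, ← hh]
  exact orderOf_map_dvd (QuotientGroup.mk' _) h

theorem HasOrd.one [Finite F] {m : ℕ} (hm : 1 ≤ m) : HasOrd F m 1 :=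
  (hasOrd_sub_one F hm).mono (one_dvd _)

theorem HasOrd.le [Finite F] {m m' a : ℕ} (h : HasOrd F m a) (hm : m ≤ m') : HasOrd F m' a := by
  rcases Nat.eq_or_lt_of_le hm with rfl | hlt
  · exact h
  · obtain ⟨l, rfl⟩ := Nat.exists_eq_add_of_le hm
    simpa using h.prod (HasOrd.one (F := F) (show 1 ≤ l by omega))

section zmod

variable [Fintype F] (p : ℕ) [Fact p.Prime] [CharP F p]

theorem card_cast_ne_zero {r : ℕ} (hr : r.Prime) (hrp : r ≠ p) :
    ((Fintype.card F : ℕ) : ZMod r) ≠ 0 := by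
  haveI := Fact.mk hr
  obtain ⟨e, -, he⟩ := FiniteField.card F p
  rw [Ne, ZMod.natCast_eq_zero_iff, he]
  exact fun h => hrp ((Nat.prime_dvd_prime_iff_eq hr Fact.out).1 (hr.dvd_of_dvd_pow h))

theorem orderOf_pos_zmod {r : ℕ} (hr : r.Prime) (hrp : r ≠ p) :
    0 < orderOf ((Fintype.card F : ℕ) : ZMod r) := by
  haveI := Fact.mk hr
  rw [orderOf_pos_iff, isOfFinOrder_iff_pow_eq_one]
  exact ⟨r - 1, by have := hr.two_le; omega,
    ZMod.pow_card_sub_one_eq_one (card_cast_ne_zero p hr hrp)⟩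

theorem cast_ne_zero_of_prime {r : ℕ} (hr : r.Prime) (hrp : r ≠ p) : (r : F) ≠ 0 := by
  rw [Ne, CharP.cast_eq_zero_iff F p]
  exact fun h => hrp ((Nat.prime_dvd_prime_iff_eq Fact.out hr).1 h).symm

theorem dvd_pow_sub_one {r k : ℕ} (hk : k = orderOf ((Fintype.card F : ℕ) : ZMod r)) :
    r ∣ Fintype.card F ^ k - 1 := by
  rw [← ZMod.natCast_eq_zero_iff, Nat.cast_sub (Nat.one_le_pow _ _ Fintype.card_pos), Nat.cast_pow,
    hk, pow_orderOf_eq_one, Nat.cast_one, sub_self]

theorem dvd_pow_add_one {r k η : ℕ} (hr : r.Prime) (hrp : r ≠ p)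
    (hk : k = orderOf ((Fintype.card F : ℕ) : ZMod r)) (h2 : 2 * η = k) :
    r ∣ Fintype.card F ^ η + 1 := by
  haveI := Fact.mk hr
  have hk0 : 0 < k := hk ▸ orderOf_pos_zmod p hr hrp
  have hsq : (((Fintype.card F : ℕ) : ZMod r) ^ η) ^ 2 = 1 := by
    rw [← pow_mul, mul_comm, h2, hk, pow_orderOf_eq_one]
  rw [← ZMod.natCast_eq_zero_iff, Nat.cast_add, Nat.cast_pow, Nat.cast_one]
  rcases sq_eq_one_iff.1 hsq with h | h
  · have := Nat.le_of_dvd (by omega) (hk ▸ orderOf_dvd_of_pow_eq_one h)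
    omega
  · rw [h, neg_add_cancel]

/-- A torus element of prime order. -/
theorem hasOrd_prime {r k ηk : ℕ} (hr : r.Prime) (hrp : r ≠ p)
    (hk : k = orderOf ((Fintype.card F : ℕ) : ZMod r))
    (hηk : (Odd k ∧ ηk = k) ∨ (Even k ∧ 2 * ηk = k)) : HasOrd F ηk r := by
  have hk0 : 0 < k := hk ▸ orderOf_pos_zmod p hr hrp
  rcases hηk with ⟨-, rfl⟩ | ⟨-, h2⟩
  · refine (hasOrd_sub_one F (d := ηk) hk0).mono ?_
    rw [Nat.card_eq_fintype_card]
    exact dvd_pow_sub_one hk
  · refine (hasOrd_add_one F (d := ηk) (by omega)).mono ?_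
    rw [Nat.card_eq_fintype_card]
    exact dvd_pow_add_one p hr hrp hk h2

/-- The degree of an irreducible polynomial with roots of order `r`. -/
theorem natDegree_of_prime {r : ℕ} (hr : r.Prime) {f : F[X]} (hf : Irreducible f)
    (h : f ∣ X ^ r - 1) (h1 : ¬ f ∣ X ^ 1 - 1) :
    rootOrder f = r ∧ f.natDegree = orderOf ((Fintype.card F : ℕ) : ZMod r) := by
  have hroot : rootOrder f = r :=
    ((Nat.dvd_prime hr).1 (dvd_X_pow_sub_one_iff.1 h)).resolve_left
      fun h0 => h1 (dvd_X_pow_sub_one_iff.2 (h0 ▸ dvd_rfl))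
  refine ⟨hroot, ?_⟩
  rw [natDegree_eq_orderOf hf hr.pos h, hroot, Nat.card_eq_fintype_card]

/-- For odd `k` the reciprocal factor is different. -/
theorem ne_of_odd_orderOf {r i : ℕ} (hr : 2 < r)
    (hodd : Odd (orderOf ((Fintype.card F : ℕ) : ZMod r))) :
    ((Fintype.card F : ℕ) : ZMod r) ^ i ≠ -1 := by
  intro h
  haveI : Fact (2 < r) := ⟨hr⟩
  have h1 := congrArg (· ^ orderOf ((Fintype.card F : ℕ) : ZMod r)) h
  simp only [← pow_mul, hodd.neg_one_pow] at h1
  rw [mul_comm, pow_mul, pow_orderOf_eq_one, one_pow] at h1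
  exact ZMod.neg_one_ne_one h1.symm

end zmod

theorem coprime_of_ne {f g : F[X]} (hf : Irreducible f) (hg : Irreducible g) (hfm : f.Monic)
    (hgm : g.Monic) (h : f ≠ g) : IsCoprime f g :=
  (hf.coprime_iff_not_dvd).2 fun hd =>
    h (eq_of_monic_of_associated hfm hgm (hf.associated_of_dvd hg hd))

theorem natDegree_add_le_of_coprime {a b χ : F[X]} (hab : IsCoprime a b) (hχ : χ ≠ 0) (ha : a ∣ χ) (hb : b ∣ χ) :
    a.natDegree + b.natDegree ≤ χ.natDegree := by
  have h := hab.mul_dvd ha hb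
  have ha0 : a ≠ 0 := fun h0 => hχ (zero_dvd_iff.1 (h0 ▸ ha))
  have hb0 : b ≠ 0 := fun h0 => hχ (zero_dvd_iff.1 (h0 ▸ hb))
  rw [← natDegree_mul ha0 hb0]
  exact natDegree_le_of_dvd h hχ

/-- If a prime `s` divides `|PSp_{2n}(q)|`, then `η ≤ n`. -/
theorem eta_le_of_dvd_card [Fintype F] (p : ℕ) [Fact p.Prime] [CharP F p] {n s l ηl : ℕ}
    (hs : s.Prime) (hsp : s ≠ p) (hsG : s ∣ Nat.card (Cfsg.PSp n F))
    (hl : l = orderOf ((Fintype.card F : ℕ) : ZMod s))
    (hηl : (Odd l ∧ ηl = l) ∨ (Even l ∧ 2 * ηl = l)) : ηl ≤ n := by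
  have h : s ∣ Nat.card (Matrix.symplecticGroup (Fin n) F) :=
    hsG.trans (Subgroup.card_quotient_dvd_card _)
  rw [card_Sp, hs.dvd_mul] at h
  rcases h with h | h
  · exfalso
    refine card_cast_ne_zero (F := F) p hs hsp ?_
    rw [ZMod.natCast_eq_zero_iff, ← Nat.card_eq_fintype_card]
    exact hs.dvd_of_dvd_pow h
  · obtain ⟨i, hi, hi'⟩ := (Nat.prime_iff.1 hs).exists_mem_finset_dvd h
    rw [Finset.mem_range] at hi
    have h1 : ((Fintype.card F : ℕ) : ZMod s) ^ (2 * (i + 1)) = 1 := by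
      rw [← sub_eq_zero, ← Nat.cast_pow, ← Nat.cast_one (R := ZMod s),
        ← Nat.cast_sub (Nat.one_le_pow _ _ Fintype.card_pos), ZMod.natCast_eq_zero_iff,
        ← Nat.card_eq_fintype_card]
      exact hi'
    have hd : l ∣ 2 * (i + 1) := hl ▸ orderOf_dvd_of_pow_eq_one h1
    rcases hηl with ⟨ho, rfl⟩ | ⟨-, h2⟩
    · have := Nat.le_of_dvd (by omega) ((Nat.coprime_two_right.2 ho).dvd_of_dvd_mul_left hd)
      omega
    · have := Nat.le_of_dvd (by omega) hd
      omega

end Cfsg.Agent.GLOrder
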