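/-
Element orders of `PSL_n(q)`.
* `exists_sl_orderOf` : lift of an element of `PSL` of order prime to the centre
* `exists_psl_orderOf` : an element of `PSL` from a matrix of determinant one on any index type
* `blockMat`, `blockMat_pow`, `blockMat_eq_smul_one`
* `exists_gl_mat_orderOf`, `det_eq_one_of_coprime`, `transvection_pow`
* `le_of_dvd_card_PSL`
-/
import Cfsg.Agent.EqLemmas
import Cfsg.Agent.Lib.LinSpec.Basic
import Cfsg.Agent.Lib.GLOrder.SympOrders

set_option autoImplicit false
set_option linter.style.haveILetI false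
set_option linter.unusedSectionVars false
set_option linter.unusedSimpArgs false

namespace Cfsg.Agent.GLOrder

open Matrix

local notation "SL[" n "," F "]" => Matrix.SpecialLinearGroup (Fin n) F

variable {F : Type*} [Field F]

/-- Elements of order prime to `gcd (n, q - 1)` lift with the same order. -/
theorem exists_sl_orderOf [Finite F] {n a : ℕ} (hn : 1 ≤ n)
    (ha : Nat.Coprime a (Nat.gcd n (Nat.card F - 1)))
    {y : ProjectiveSpecialLinearGroup (Fin n) F} (hy : orderOf y = a) :
    ∃ x : Matrix.SpecialLinearGroup (Fin n) F, orderOf (x : Matrix (Fin n) (Fin n) F) = a := by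
  haveI : NeZero n := ⟨by omega⟩
  obtain ⟨g, rfl⟩ := QuotientGroup.mk'_surjective _ y
  set d := Nat.gcd n (Nat.card F - 1) with hd
  have hga : g ^ a ∈ Subgroup.center (Matrix.SpecialLinearGroup (Fin n) F) := by
    rw [← QuotientGroup.eq_one_iff, ← hy]
    show QuotientGroup.mk' _ (g ^ orderOf _) = 1
    rw [map_pow, pow_orderOf_eq_one]
  have hgad : (g ^ a) ^ d = 1 := by
    have h := pow_card_eq_one' (x := (⟨g ^ a, hga⟩ : Subgroup.center (Matrix.SpecialLinearGroup (Fin n) F)))
    rw [card_center_SL, Fintype.card_fin] at h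
    exact congrArg Subtype.val h
  obtain ⟨b, hb⟩ := exists_pow_eq_self_of_coprime
    (x := QuotientGroup.mk' (Subgroup.center (Matrix.SpecialLinearGroup (Fin n) F)) g) (n := d)
    (by rw [hy]; exact ha.symm)
  refine ⟨(g ^ d) ^ b, ?_⟩
  let φ : Matrix.SpecialLinearGroup (Fin n) F →* Matrix (Fin n) (Fin n) F :=
    { toFun := Subtype.val, map_one' := rfl, map_mul' := fun _ _ => rfl }
  have hφ : orderOf (φ ((g ^ d) ^ b)) = orderOf ((g ^ d) ^ b) :=
    orderOf_injective φ Subtype.val_injective _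
  refine hφ.trans ?_
  refine Nat.dvd_antisymm (orderOf_dvd_of_pow_eq_one ?_) ?_
  · rw [← pow_mul, ← pow_mul, show d * (b * a) = a * d * b by ring, pow_mul, pow_mul, hgad, one_pow]
  · have h := orderOf_map_dvd (QuotientGroup.mk' (Subgroup.center (Matrix.SpecialLinearGroup (Fin n) F)))
      ((g ^ d) ^ b)
    rw [map_pow, map_pow, hb, hy] at h
    exact h

/-- A matrix of determinant one gives an element of `PSL` of order `a` if `a` divides every exponent
sending it to a scalar. -/
theorem exists_psl_orderOf [Finite F] {ι : Type*} [Fintype ι] [DecidableEq ι] {n a : ℕ}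
    (hι : Fintype.card ι = n) {M : Matrix ι ι F} (hM : M.det = 1)
    (h : ∀ (j : ℕ) (c : F), c ^ n = 1 → M ^ j = c • (1 : Matrix ι ι F) → a ∣ j) :
    ∃ y : ProjectiveSpecialLinearGroup (Fin n) F, orderOf y = a := by
  let e : ι ≃ Fin n := Fintype.equivFinOfCardEq hι
  let g : Matrix.SpecialLinearGroup (Fin n) F :=
    ⟨Matrix.reindexAlgEquiv F F e M, by
      rw [Matrix.coe_reindexAlgEquiv, Matrix.det_reindex_self, hM]⟩
  set y := QuotientGroup.mk' (Subgroup.center (Matrix.SpecialLinearGroup (Fin n) F)) g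
  have hd : a ∣ orderOf y := by
    have hc : g ^ orderOf y ∈ Subgroup.center (Matrix.SpecialLinearGroup (Fin n) F) := by
      rw [← QuotientGroup.eq_one_iff]
      show QuotientGroup.mk' _ (g ^ orderOf y) = 1
      rw [map_pow, pow_orderOf_eq_one]
    obtain ⟨c, hc1, hc2⟩ := Matrix.SpecialLinearGroup.mem_center_iff.1 hc
    refine h _ c (by simpa using hc1) ((Matrix.reindexAlgEquiv F F e).injective ?_)
    rw [map_pow, map_smul, map_one]
    have h2 : ((g ^ orderOf y : Matrix.SpecialLinearGroup (Fin n) F) : Matrix (Fin n) (Fin n) F) =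
        c • (1 : Matrix (Fin n) (Fin n) F) := by
      rw [← hc2, Matrix.smul_one_eq_diagonal]; rfl
    rw [Matrix.SpecialLinearGroup.coe_pow] at h2
    exact h2
  exact ⟨y ^ (orderOf y / a), orderOf_pow_orderOf_div (orderOf_pos _).ne' hd⟩

section blocks

variable {α β : Type*} [Fintype α] [DecidableEq α] [Fintype β] [DecidableEq β]

/-- Block diagonal matrices. -/
def blockMat (A : Matrix α α F) (B : Matrix β β F) : Matrix (α ⊕ β) (α ⊕ β) F :=
  fromBlocks A 0 0 B

theorem blockMat_det (A : Matrix α α F) (B : Matrix β β F) :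
    (blockMat A B).det = A.det * B.det := det_fromBlocks_zero₁₂ A 0 B

theorem blockMat_pow (A : Matrix α α F) (B : Matrix β β F) (j : ℕ) :
    blockMat A B ^ j = blockMat (A ^ j) (B ^ j) := by
  induction j with
  | zero => simp [blockMat, fromBlocks_one]
  | succ j ih => rw [pow_succ, pow_succ, pow_succ, ih]; simp [blockMat, fromBlocks_multiply]

theorem blockMat_eq_smul_one {A : Matrix α α F} {B : Matrix β β F} {c : F}
    (h : blockMat A B = c • (1 : Matrix (α ⊕ β) (α ⊕ β) F)) : A = c • 1 ∧ B = c • 1 := by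
  rw [blockMat, ← fromBlocks_one, fromBlocks_smul, fromBlocks_inj] at h
  exact ⟨h.1, h.2.2.2⟩

theorem transvection_pow {i j : α} (hij : i ≠ j) (c : F) (m : ℕ) :
    transvection i j c ^ m = transvection i j ((m : F) * c) := by
  induction m with
  | zero => simp
  | succ m ih => rw [pow_succ, ih, transvection_mul_transvection_same i j hij]; push_cast; ring_nf

end blocks

/-- `GL_n(q)` has a matrix of order `a` when `a ∣ q^d - 1`, `d ≤ n`. -/
theorem exists_gl_mat_orderOf [Finite F] {n d a : ℕ} (h1 : 1 ≤ d) (hd : d ≤ n)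
    (ha : a ∣ Nat.card F ^ d - 1) : ∃ M : Matrix (Fin n) (Fin n) F, orderOf M = a := by
  obtain ⟨g, hg⟩ := LinSpec.exists_gl_orderOf (F := F) h1 hd
  refine ⟨((g ^ (orderOf g / a) : GL (Fin n) F) : Matrix (Fin n) (Fin n) F), ?_⟩
  rw [orderOf_units, orderOf_pow_orderOf_div (orderOf_pos g).ne' (hg ▸ ha)]

theorem det_eq_one_of_coprime [Finite F] {ι : Type*} [Fintype ι] [DecidableEq ι] {a : ℕ}
    {M : Matrix ι ι F} (hM : M ^ a = 1) (ha : 0 < a) (hc : Nat.Coprime a (Nat.card F - 1)) :
    M.det = 1 := by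
  classical
  haveI := Fintype.ofFinite F
  have h : M.det ^ a = 1 := by rw [← det_pow, hM, det_one]
  have h0 : M.det ≠ 0 := fun h0 => by rw [h0, zero_pow ha.ne'] at h; exact zero_ne_one h
  have h1 := FiniteField.pow_card_sub_one_eq_one M.det h0
  rw [← Nat.card_eq_fintype_card] at h1
  have h2 := Nat.dvd_gcd (orderOf_dvd_of_pow_eq_one h) (orderOf_dvd_of_pow_eq_one h1)
  rw [hc.gcd_eq_one, Nat.dvd_one, orderOf_eq_one_iff] at h2
  exact h2

/-- If a prime `s` other than the characteristic divides `|PSL_n(q)|`, the order of `q` mod `s` is at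
most `n`. -/
theorem le_of_dvd_card_PSL [Fintype F] (p : ℕ) [Fact p.Prime] [CharP F p] {n s : ℕ} (hn : 2 ≤ n)
    (hs : s.Prime) (hsp : s ≠ p) (hsG : s ∣ Nat.card (ProjectiveSpecialLinearGroup (Fin n) F)) :
    orderOf ((Fintype.card F : ℕ) : ZMod s) ≤ n := by
  haveI : NeZero n := ⟨by omega⟩
  have h : s ∣ Nat.card (GL (Fin n) F) :=
    hsG.trans ((Subgroup.card_quotient_dvd_card _).trans (card_SL_mul (ι := Fin n) (F := F) ▸
      dvd_mul_left _ _))
  rw [card_GL', hs.dvd_mul] at h
  rcases h with h | h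
  · exfalso
    refine card_cast_ne_zero (F := F) p hs hsp ?_
    rw [ZMod.natCast_eq_zero_iff, ← Nat.card_eq_fintype_card]
    exact hs.dvd_of_dvd_pow h
  · obtain ⟨i, hi, hi'⟩ := (Nat.prime_iff.1 hs).exists_mem_finset_dvd h
    rw [Finset.mem_range] at hi
    have h1 : ((Fintype.card F : ℕ) : ZMod s) ^ (i + 1) = 1 := by
      rw [← sub_eq_zero, ← Nat.cast_pow, ← Nat.cast_one (R := ZMod s),
        ← Nat.cast_sub (Nat.one_le_pow _ _ Fintype.card_pos), ZMod.natCast_eq_zero_iff,
        ← Nat.card_eq_fintype_card]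
      exact hi'
    exact (Nat.le_of_dvd (by omega) (orderOf_dvd_of_pow_eq_one h1)).trans hi

end Cfsg.Agent.GLOrder
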