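/-
Centralisers and normalisers of tori of `SL_2(q)`, `q` odd.

Main results (namespace `Cfsg.Agent.GLOrder`):
* `eq_or_eq_inv_of_commute`, `exists_inverting_conj`, `commute_or_of_normalizes`
* `centralizer_split_torus`, `centralizer_nonsplit_torus`
* `torus_sylow` : centraliser and normaliser of an odd Sylow subgroup in a torus
-/
import Cfsg.Agent.Lib.GLOrder.Torus
import Cfsg.Agent.Lib.GLOrder.TraceCover

set_option autoImplicit false
set_option linter.unusedSectionVars false
set_option linter.style.haveILetI false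

namespace Cfsg.Agent.GLOrder

open Matrix
open scoped MatrixGroups

variable {F : Type*} [Field F]

theorem diagS_apply (u : Fˣ) :
    (diagS F u : Matrix (Fin 2) (Fin 2) F) = !![(u : F), 0; 0, ((u⁻¹ : Fˣ) : F)] := rfl

theorem tr_sq_ne_four (h2 : (2 : F) ≠ 0) {g : SL(2, F)} {n : ℕ} (hn : (n : F) ≠ 0) (he : Even n)
    (hg : g ^ n = 1) (hc : g ∉ Subgroup.center SL(2, F)) : PSL2.tr g ^ 2 ≠ 4 := by
  intro h4
  apply hc
  rw [center_SL2]
  refine eq_one_or_neg_one_of_trace hn he hg (PSL2.tr g / 2) ?_ ?_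
  · field_simp
    linear_combination h4
  · show PSL2.tr g = 2 * (PSL2.tr g / 2)
    field_simp

theorem not_mem_center_of_tr {g : SL(2, F)} (h : PSL2.tr g ^ 2 ≠ 4) :
    g ∉ Subgroup.center SL(2, F) :=
  not_isScalar_iff.1 (not_isScalar_of_tr h)

theorem eq_or_eq_inv_of_commute (h2 : (2 : F) ≠ 0) {t x : SL(2, F)} (ht : PSL2.tr t ^ 2 ≠ 4)
    (hx : Commute x t) (htr : PSL2.tr x = PSL2.tr t) : x = t ∨ x = t⁻¹ := by
  obtain ⟨a, b, hab⟩ := PSL2.exists_lin_of_commute (not_mem_center_of_tr ht)
    (congrArg Subtype.val hx.eq)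
  have hd : a ^ 2 + PSL2.tr t * a * b + b ^ 2 = 1 := by
    rw [← PSL2.det_lin, ← hab]; exact x.2
  have ha : 2 * a + b * PSL2.tr t = PSL2.tr t := by
    have e := htr
    rw [PSL2.tr_eq_trace x, hab, PSL2.lin, Matrix.trace_add, Matrix.trace_smul,
      Matrix.trace_smul, Matrix.trace_one, ← PSL2.tr_eq_trace, Fintype.card_fin, smul_eq_mul,
      smul_eq_mul] at e
    push_cast at e
    linear_combination e
  have h3 : (b - 1) * (b + 1) * (PSL2.tr t ^ 2 - 4) = 0 := by
    linear_combination (-4 : F) * hd + (2 * a + b * PSL2.tr t + PSL2.tr t) * ha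
  rcases mul_eq_zero.1 ((mul_eq_zero.1 h3).resolve_right (sub_ne_zero.2 ht)) with hb | hb
  · left
    have hb1 : b = 1 := sub_eq_zero.1 hb
    subst hb1
    have ha0 : a = 0 := by
      have : (2 : F) * a = 0 := by linear_combination ha
      exact (mul_eq_zero.1 this).resolve_left h2
    apply Subtype.ext
    rw [hab, ha0, PSL2.lin]
    simp
  · right
    have hb1 : b = -1 := eq_neg_of_add_eq_zero_left hb
    subst hb1
    have ha0 : a = PSL2.tr t := by
      have : (2 : F) * (a - PSL2.tr t) = 0 := by linear_combination ha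
      exact sub_eq_zero.1 ((mul_eq_zero.1 this).resolve_left h2)
    refine (eq_inv_of_mul_eq_one_left ?_)
    apply Subtype.ext
    show (x : Matrix (Fin 2) (Fin 2) F) * (t : Matrix (Fin 2) (Fin 2) F) = 1
    rw [hab, ha0, PSL2.lin, add_mul, smul_mul_assoc, smul_mul_assoc, one_mul, PSL2.coe_sq]
    simp

theorem exists_inverting_conj [Finite F] (h2 : (2 : F) ≠ 0) {t : SL(2, F)}
    (ht : PSL2.tr t ^ 2 ≠ 4) : ∃ w : SL(2, F), w * t * w⁻¹ = t⁻¹ :=
  isConj_iff.1 (isConj_of_trace_odd h2 (PSL2.tr_inv t).symm ht)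

/-- An element conjugating `t` into its centraliser centralises `t` or inverts it. -/
theorem commute_or_of_normalizes (h2 : (2 : F) ≠ 0) {t w n : SL(2, F)}
    (ht : PSL2.tr t ^ 2 ≠ 4) (hw : w * t * w⁻¹ = t⁻¹) (hn : Commute (n * t * n⁻¹) t) :
    Commute n t ∨ Commute (w⁻¹ * n) t := by
  rcases eq_or_eq_inv_of_commute h2 ht hn (PSL2.tr_conj t n) with h | h
  · exact Or.inl (mul_inv_eq_iff_eq_mul.1 h)
  · right
    rw [← hw, mul_inv_eq_iff_eq_mul] at h
    show w⁻¹ * n * t = t * (w⁻¹ * n)
    rw [mul_assoc, h]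
    group

theorem mem_centralizer_singleton {G : Type*} [Group G] {g x : G} :
    x ∈ Subgroup.centralizer ({g} : Set G) ↔ Commute x g :=
  Subgroup.mem_centralizer_singleton_iff

theorem centralizer_zpowers {G : Type*} [Group G] (g : G) :
    Subgroup.centralizer ((Subgroup.zpowers g : Subgroup G) : Set G) =
      Subgroup.centralizer ({g} : Set G) := by
  refine le_antisymm (Subgroup.centralizer_le (by simp)) fun x hx => ?_
  rw [Subgroup.mem_centralizer_iff]
  rintro y ⟨k, rfl⟩
  exact (((mem_centralizer_singleton.1 hx).symm).zpow_left k).eq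

theorem map_centralizer_mulEquiv {G : Type*} [Group G] (e : G ≃* G) (H : Subgroup G) :
    (Subgroup.centralizer (H : Set G)).map e.toMonoidHom =
      Subgroup.centralizer ((H.map e.toMonoidHom : Subgroup G) : Set G) := by
  ext x
  rw [Subgroup.mem_map_equiv, Subgroup.mem_centralizer_iff, Subgroup.mem_centralizer_iff]
  constructor
  · rintro h y hy
    rw [SetLike.mem_coe, Subgroup.mem_map_equiv] at hy
    have := congrArg e (h _ hy)
    simpa using this
  · intro h y hy
    have := congrArg e.symm (h (e y) (Subgroup.mem_map_of_mem _ hy))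
    simpa using this

section Finite

variable [Finite F]

theorem pow_sub_one_of_root (h2 : (2 : F) ≠ 0) {t : SL(2, F)} (ht : PSL2.tr t ^ 2 ≠ 4) {c : F}
    (hc : c ^ 2 - PSL2.tr t * c + 1 = 0) : t ^ (Nat.card F - 1) = 1 := by
  have hc0 : c ≠ 0 := by rintro rfl; simp at hc
  have htr : PSL2.tr t = PSL2.tr (diagS F (Units.mk0 c hc0)) := by
    simp [PSL2.tr, diagS_apply]
    field_simp
    unfold PSL2.tr at hc
    linear_combination -hc
  obtain ⟨k, hk⟩ := isConj_iff.1 (isConj_of_trace_odd h2 htr ht)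
  have h1 : (diagS F (Units.mk0 c hc0)) ^ (Nat.card F - 1) = 1 := by
    rw [← map_pow, ← card_units, pow_card_eq_one', map_one]
  rw [← hk, conj_pow, mul_inv_eq_one, mul_eq_left] at h1
  exact h1

theorem exists_split_torus (h3 : 3 ≤ Nat.card F - 1) :
    ∃ t : SL(2, F), orderOf t = Nat.card F - 1 ∧
      Subgroup.centralizer ({t} : Set SL(2, F)) = Subgroup.zpowers t := by
  obtain ⟨u, hu⟩ := IsCyclic.exists_ofOrder_eq_natCard (α := Fˣ)
  refine ⟨diagS F u, by rw [orderOf_injective _ diagS_injective, hu, card_units], ?_⟩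
  have hu' : (u : F) ≠ ((u⁻¹ : Fˣ) : F) := by
    intro h
    have h' : u ^ 2 = 1 := by rw [pow_two]; nth_rw 2 [Units.ext h]; exact mul_inv_cancel u
    have := Nat.le_of_dvd two_pos (orderOf_dvd_of_pow_eq_one h')
    rw [hu, card_units] at this
    omega
  refine le_antisymm (fun x hx => ?_) ?_
  · have h := congrArg Subtype.val (mem_centralizer_singleton.1 hx).eq
    have e01 := congrFun (congrFun h 0) 1
    have e10 := congrFun (congrFun h 1) 0
    simp [diagS_apply, Matrix.mul_apply, Fin.sum_univ_two] at e01 e10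
    rw [Units.val_inv_eq_inv_val] at hu'
    have hx01 : x 0 1 = 0 := by
      have : ((u : F) - (u : F)⁻¹) * x 0 1 = 0 := by linear_combination -e01
      exact (mul_eq_zero.1 this).resolve_left (sub_ne_zero.2 hu')
    have hx10 : x 1 0 = 0 := by
      have : ((u : F) - (u : F)⁻¹) * x 1 0 = 0 := by linear_combination e10
      exact (mul_eq_zero.1 this).resolve_left (sub_ne_zero.2 hu')
    have hd := SL2_det x
    rw [hx01, zero_mul, sub_zero] at hd
    obtain ⟨j, hj⟩ : Units.mk0 _ (left_ne_zero_of_mul_eq_one hd) ∈ Subgroup.zpowers u := by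
      rw [Subgroup.eq_top_of_card_eq (Subgroup.zpowers u) (by rw [Nat.card_zpowers, hu])]
      trivial
    refine ⟨j, ?_⟩
    show (diagS F u) ^ j = x
    rw [← map_zpow, show u ^ j = Units.mk0 _ (left_ne_zero_of_mul_eq_one hd) from hj]
    ext i k
    fin_cases i <;> fin_cases k <;> simp [diagS_apply, hx01, hx10]
    exact (eq_inv_of_mul_eq_one_right hd).symm
  · rintro _ ⟨j, rfl⟩
    exact mem_centralizer_singleton.2 ((Commute.refl _).zpow_left j)

theorem exists_nonsplit_torus (h2 : (2 : F) ≠ 0) :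
    ∃ t : SL(2, F), orderOf t = Nat.card F + 1 ∧
      Subgroup.centralizer ({t} : Set SL(2, F)) = Subgroup.zpowers t := by
  have := Fintype.ofFinite F
  obtain ⟨t, ht⟩ := exists_orderOf_SL_two (F := F) (d := Nat.card F + 1) (Or.inr dvd_rfl)
  refine ⟨t, ht, ?_⟩
  obtain ⟨p, hp⟩ := CharP.exists F
  haveI : Fact p.Prime := ⟨CharP.char_prime_of_ne_zero F (CharP.char_ne_zero_of_finite F p)⟩
  obtain ⟨f, hf, hq⟩ := exists_card_eq_pow (F := F) p
  have hq1 := one_lt_card_field (F := F)
  have hp2 : p ≠ 2 := fun h => h2 (by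
    haveI : CharP F 2 := h ▸ hp
    exact CharTwo.two_eq_zero)
  have hodd : Odd (Nat.card F) := hq ▸ ((Fact.out : p.Prime).odd_of_ne_two hp2).pow
  have htc : t ∉ Subgroup.center SL(2, F) := by
    intro hc
    have h1 : t ^ 2 = 1 := by rcases center_SL2.1 hc with rfl | rfl <;> simp
    have := Nat.le_of_dvd two_pos (orderOf_dvd_of_pow_eq_one h1)
    omega
  have h4 : PSL2.tr t ^ 2 ≠ 4 := by
    refine tr_sq_ne_four h2 ?_ (Nat.even_add_one.2 (Nat.not_even_iff_odd.2 hodd))
      (ht ▸ pow_orderOf_eq_one t) htc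
    push_cast
    rw [Nat.card_eq_fintype_card, FiniteField.cast_card_eq_zero]
    simp
  have hroot : ∀ c : F, c ^ 2 - PSL2.tr t * c + 1 ≠ 0 := by
    intro c hc
    have := Nat.le_of_dvd (by omega) (orderOf_dvd_of_pow_eq_one (pow_sub_one_of_root h2 h4 hc))
    omega
  -- a root in the quadratic extension
  let L := FiniteField.Extension F p 2
  have := Fintype.ofFinite L
  haveI : CharP L p := charP_of_injective_algebraMap (algebraMap F L).injective p
  have hL : Fintype.card L = Nat.card F ^ 2 := by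
    rw [← Nat.card_eq_fintype_card]; exact FiniteField.natCard_extension F p 2
  have hL2 : (2 : L) ≠ 0 := by
    intro h
    apply h2
    apply (algebraMap F L).injective
    rw [map_ofNat, map_zero]; exact h
  obtain ⟨r, hr⟩ : IsSquare (algebraMap F L (PSL2.tr t ^ 2 - 4)) := by
    have hne : algebraMap F L (PSL2.tr t ^ 2 - 4) ≠ 0 := by
      rw [map_ne_zero]; exact sub_ne_zero.2 h4
    rw [FiniteField.isSquare_iff (by rw [ringChar.eq L p]; exact hp2) hne, hL, ← map_pow]
    have hdiv : Nat.card F - 1 ∣ Nat.card F ^ 2 / 2 := by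
      obtain ⟨m, hm⟩ := hodd
      refine ⟨m + 1, ?_⟩
      rw [hm, Nat.add_sub_cancel,
        show (2 * m + 1) ^ 2 = 2 * (2 * m * (m + 1)) + 1 by ring]
      omega
    obtain ⟨j, hj⟩ := hdiv
    have hF1 : (PSL2.tr t ^ 2 - 4) ^ (Nat.card F - 1) = 1 := by
      rw [Nat.card_eq_fintype_card]
      exact FiniteField.pow_card_sub_one_eq_one _ (sub_ne_zero.2 h4)
    rw [hj, pow_mul, hF1, one_pow, map_one]
  let θ : L := (algebraMap F L (PSL2.tr t) + r) / 2
  have hθ : θ * θ - algebraMap F L (PSL2.tr t) * θ + 1 = 0 := by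
    have h2θ : (2 : L) * θ = algebraMap F L (PSL2.tr t) + r := mul_div_cancel₀ _ hL2
    rw [map_sub, map_pow, map_ofNat] at hr
    apply mul_left_cancel₀ (mul_ne_zero hL2 hL2)
    linear_combination (2 * θ + r - algebraMap F L (PSL2.tr t)) * h2θ - hr
  have hθF : ∀ c : F, algebraMap F L c ≠ θ := by
    intro c hc
    apply hroot c
    apply (algebraMap F L).injective
    rw [map_add, map_sub, map_pow, map_mul, map_one, map_zero, hc, pow_two, hθ]
  -- the embedding of the centraliser
  let C := Subgroup.centralizer ({t} : Set SL(2, F))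
  have hlin : ∀ x : C, ∃ ab : F × F, (x : SL(2, F)).1 = PSL2.lin t ab.1 ab.2 := fun x => by
    obtain ⟨a, b, h⟩ := PSL2.exists_lin_of_commute htc
      (congrArg Subtype.val (mem_centralizer_singleton.1 x.2).eq)
    exact ⟨(a, b), h⟩
  choose ab hab using hlin
  have huniq : ∀ a b c d : F, PSL2.lin t a b = PSL2.lin t c d → a = c ∧ b = d := by
    intro a b c d h
    by_cases hbd : b = d
    · subst hbd
      rw [PSL2.lin, PSL2.lin, add_left_inj] at h
      exact ⟨by simpa using congrFun (congrFun h 0) 0, rfl⟩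
    · exfalso
      apply htc
      rw [← not_not (a := t ∈ Subgroup.center SL(2, F)), ← not_isScalar_iff, not_not]
      have e01 := congrFun (congrFun h 0) 1
      have e10 := congrFun (congrFun h 1) 0
      have e00 := congrFun (congrFun h 0) 0
      have e11 := congrFun (congrFun h 1) 1
      simp [PSL2.lin] at e01 e10 e00 e11
      have hne : b - d ≠ 0 := sub_ne_zero.2 hbd
      refine ⟨?_, ?_, ?_⟩
      · exact (e01.resolve_left hbd)
      · exact (e10.resolve_left hbd)
      · apply mul_left_cancel₀ hne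
        linear_combination e00 - e11
  let ev : C → L := fun x => algebraMap F L (ab x).1 + algebraMap F L (ab x).2 * θ
  have hev_mul : ∀ x y, ev (x * y) = ev x * ev y := by
    intro x y
    have h : (x * y : C).1.1 = PSL2.lin t (ab x).1 (ab x).2 * PSL2.lin t (ab y).1 (ab y).2 := by
      rw [← hab x, ← hab y]; rfl
    rw [hab, PSL2.lin_mul_lin] at h
    obtain ⟨ha, hb⟩ := huniq _ _ _ _ h
    simp only [ev, ha, hb, map_add, map_sub, map_mul]
    linear_combination (-(algebraMap F L (ab x).2) * algebraMap F L (ab y).2) * hθ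
  have hev_one : ev 1 = 1 := by
    have h : ((1 : C) : SL(2, F)).1 = PSL2.lin t 1 0 := by simp [PSL2.lin]
    rw [hab] at h
    obtain ⟨ha, hb⟩ := huniq _ _ _ _ h
    simp [ev, ha, hb]
  let φ : C →* L := { toFun := ev, map_one' := hev_one, map_mul' := hev_mul }
  have hφ : Function.Injective φ := by
    intro x y h
    by_cases hb : (ab x).2 = (ab y).2
    · have h' : ev x = ev y := h
      simp only [ev, hb, add_left_inj] at h'
      apply Subtype.ext; apply Subtype.ext
      rw [hab x, hab y, (algebraMap F L).injective h', hb]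
    · exfalso
      have hne : algebraMap F L ((ab x).2 - (ab y).2) ≠ 0 := by
        rw [map_ne_zero]; exact sub_ne_zero.2 hb
      refine hθF (((ab y).1 - (ab x).1) / ((ab x).2 - (ab y).2)) ?_
      have h' : ev x = ev y := h
      simp only [ev] at h'
      rw [map_div₀, div_eq_iff hne, map_sub, map_sub]
      linear_combination -h'
  haveI : IsCyclic C := isCyclic_of_injective_ringHom φ hφ
  obtain ⟨x, hx⟩ := IsCyclic.exists_ofOrder_eq_natCard (α := C)
  have hle : Subgroup.zpowers t ≤ C := by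
    rintro _ ⟨j, rfl⟩
    exact mem_centralizer_singleton.2 ((Commute.refl _).zpow_left j)
  have hdvd : Nat.card F + 1 ∣ orderOf (x : SL(2, F)) := by
    rw [Subgroup.orderOf_coe, hx, ← ht, ← Nat.card_zpowers]
    exact Subgroup.card_dvd_of_le hle
  have hxle : orderOf (x : SL(2, F)) ∣ Nat.card F + 1 := by
    rcases PSL2.pow_card_cases p (x : SL(2, F)) with h | h | h
    · exfalso
      have := Nat.le_of_dvd (by omega) (hdvd.trans (orderOf_dvd_of_pow_eq_one h))
      omega
    · exact orderOf_dvd_of_pow_eq_one h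
    · exfalso
      have h2p : (x : SL(2, F)) ^ (2 * p) = 1 := by
        rcases h with h | h <;> simp [mul_comm 2 p, pow_mul, h]
      have hd2 := hdvd.trans (orderOf_dvd_of_pow_eq_one h2p)
      have hcop : Nat.Coprime (Nat.card F + 1) p := by
        rw [Nat.coprime_comm, (Fact.out : p.Prime).coprime_iff_not_dvd]
        intro hd
        have hpq : p ∣ Nat.card F := hq ▸ dvd_pow_self p hf.ne'
        exact (Fact.out : p.Prime).not_dvd_one ((Nat.dvd_add_right hpq).1 hd)
      have := Nat.le_of_dvd two_pos (hcop.dvd_of_dvd_mul_right hd2)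
      omega
  refine (Subgroup.eq_of_le_of_card_ge hle ?_).symm
  rw [Nat.card_zpowers, ← hx, ← Subgroup.orderOf_coe x, ht]
  exact Nat.le_of_dvd (by omega) hxle

/-- Centraliser and normaliser of an odd Sylow subgroup inside a self-centralising torus. -/
theorem torus_sylow (h2 : (2 : F) ≠ 0) (ℓ : ℕ) [hℓ : Fact ℓ.Prime] (hℓ2 : ℓ ≠ 2)
    {t : SL(2, F)} {d : ℕ} (hd0 : (d : F) ≠ 0) (he : Even d) (ht : orderOf t = d)
    (hC : Subgroup.centralizer ({t} : Set SL(2, F)) = Subgroup.zpowers t)
    (hℓd : ℓ ∣ d) (hv : ℓ ^ (Nat.card SL(2, F)).factorization ℓ ∣ d)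
    (P : Sylow ℓ SL(2, F)) :
    Nat.card (Subgroup.centralizer ((P : Subgroup SL(2, F)) : Set SL(2, F))) = d ∧
      IsCyclic (Subgroup.centralizer ((P : Subgroup SL(2, F)) : Set SL(2, F))) ∧
      Nat.card (Subgroup.normalizer ((P : Subgroup SL(2, F)) : Set SL(2, F))) = 2 * d := by
  set k := (Nat.card SL(2, F)).factorization ℓ with hk
  have hk0 : k ≠ 0 := by
    rw [hk]
    refine (Nat.Prime.factorization_pos_of_dvd hℓ.out Nat.card_pos.ne' ?_).ne'
    exact (hℓd.trans (ht ▸ orderOf_dvd_natCard t))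
  obtain ⟨⟨y, hymem⟩, hy⟩ := exists_orderOf_of_dvd (G := Subgroup.zpowers t) (d := ℓ ^ k)
    (by rw [Nat.card_zpowers, ht]; exact hv)
  have hy' : orderOf y = ℓ ^ k := by rw [← hy, ← Subgroup.orderOf_coe]
  have hyd : y ^ d = 1 := orderOf_dvd_iff_pow_eq_one.1 (hy' ▸ hv)
  have hyc : y ∉ Subgroup.center SL(2, F) := by
    intro hc
    have h1 : y ^ 2 = 1 := by
      rcases center_SL2.1 hc with h | h <;> simp [h]
    have h3 := orderOf_dvd_of_pow_eq_one h1
    rw [hy'] at h3
    exact hℓ2 ((Nat.prime_dvd_prime_iff_eq hℓ.out Nat.prime_two).1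
      ((dvd_pow_self ℓ hk0).trans h3))
  have h4 := tr_sq_ne_four h2 hd0 he hyd hyc
  have hyt : Commute y t := mem_centralizer_singleton.1 (hC.symm ▸ hymem)
  have hCy : Subgroup.centralizer ({y} : Set SL(2, F)) = Subgroup.zpowers t := by
    refine le_antisymm (fun x hx => ?_) fun x hx => ?_
    · rw [← hC, mem_centralizer_singleton]
      exact PSL2.commute_of_commute hyc (mem_centralizer_singleton.1 hx) hyt.symm
    · obtain ⟨j, rfl⟩ := hx
      exact mem_centralizer_singleton.2 (hyt.symm.zpow_left j)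
  let Q : Sylow ℓ SL(2, F) := Sylow.ofCard (Subgroup.zpowers y)
    (by rw [Nat.card_zpowers, hy'])
  obtain ⟨g, hg⟩ := MulAction.exists_smul_eq SL(2, F) Q P
  have hP : (P : Subgroup SL(2, F)) =
      (Subgroup.zpowers y).map (MulAut.conj g).toMonoidHom := by rw [← hg]; rfl
  have hcent : Subgroup.centralizer ((P : Subgroup SL(2, F)) : Set SL(2, F)) =
      (Subgroup.zpowers t).map (MulAut.conj g).toMonoidHom := by
    rw [hP, ← hCy, ← centralizer_zpowers, map_centralizer_mulEquiv]
  refine ⟨?_, ?_, ?_⟩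
  · rw [hcent, ← Nat.card_congr (Subgroup.equivMapOfInjective _ _ (MulAut.conj g).injective).toEquiv,
      Nat.card_zpowers, ht]
  · rw [hcent]
    exact isCyclic_of_surjective (Subgroup.equivMapOfInjective _ _ (MulAut.conj g).injective)
      (MulEquiv.surjective _)
  · rw [hP, ← Subgroup.map_normalizer_eq_of_bijective _ (MulAut.conj g).bijective,
      ← Nat.card_congr (Subgroup.equivMapOfInjective _ _ (MulAut.conj g).injective).toEquiv]
    obtain ⟨w, hw⟩ := exists_inverting_conj h2 h4
    have hwt : ¬ Commute w y := by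
      intro hc
      rw [hc.eq, mul_inv_cancel_right] at hw
      have h1 : y ^ 2 = 1 := by
        rw [pow_two]; nth_rw 1 [hw]; exact inv_mul_cancel _
      have h3 := orderOf_dvd_of_pow_eq_one h1
      rw [hy'] at h3
      exact hℓ2 ((Nat.prime_dvd_prime_iff_eq hℓ.out Nat.prime_two).1
        ((dvd_pow_self ℓ hk0).trans h3))
    set N := Subgroup.normalizer
      ((Subgroup.zpowers y : Subgroup SL(2, F)) : Set SL(2, F)) with hN
    have hTN : Subgroup.zpowers t ≤ N := by
      rw [← hCy, ← centralizer_zpowers]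
      exact Subgroup.centralizer_le_normalizer _
    have hwN : w ∈ N := by
      rw [hN, Subgroup.mem_normalizer_iff_map_conj_eq]
      show (Subgroup.zpowers y).map (MulAut.conj w).toMonoidHom = _
      rw [MonoidHom.map_zpowers]
      show Subgroup.zpowers (w * y * w⁻¹) = _
      rw [hw, Subgroup.zpowers_inv]
    have hidx : (Subgroup.zpowers t).relIndex N = 2 := by
      rw [Subgroup.relIndex_eq_two_iff]
      refine ⟨w⁻¹, inv_mem hwN, fun n hn => ?_⟩
      have hny : Commute (n * y * n⁻¹) y := by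
        obtain ⟨j, hj⟩ := (Subgroup.mem_normalizer_iff.1 hn _).1 (Subgroup.mem_zpowers _)
        rw [← hj]
        exact (Commute.refl _).zpow_left j
      have hiff : ∀ x, x ∈ Subgroup.zpowers t ↔ Commute x y := fun x => by
        rw [← hCy, mem_centralizer_singleton]
      rw [hiff, hiff]
      rcases commute_or_of_normalizes h2 h4 hw hny with h | h
      · refine Or.inr ⟨h, fun h' => hwt ?_⟩
        have hnw : Commute (n * w⁻¹) y := h'
        have := h.inv_left.mul_left hnw
        rw [inv_mul_cancel_left] at this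
        simpa using this.inv_left
      · have hw' : w * y⁻¹ * w⁻¹ = y := by
          have := congrArg (·⁻¹) hw
          simpa [mul_assoc] using this
        refine Or.inl ⟨?_, fun h' => hwt ?_⟩
        · -- `n w⁻¹ = w (w⁻¹ n) w⁻¹`
          show n * w⁻¹ * y = y * (n * w⁻¹)
          have e1 : w⁻¹ * y = y⁻¹ * w⁻¹ := by
            rw [← hw']
            have := hw
            calc w⁻¹ * (w * y⁻¹ * w⁻¹) = y⁻¹ * w⁻¹ := by group
              _ = (w * y⁻¹ * w⁻¹)⁻¹ * w⁻¹ := by rw [hw']
          calc n * w⁻¹ * y = w * (w⁻¹ * n * y⁻¹) * w⁻¹ := by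
                rw [mul_assoc n, e1]; group
            _ = w * (y⁻¹ * (w⁻¹ * n)) * w⁻¹ := by rw [h.inv_right.eq]
            _ = (w * y⁻¹ * w⁻¹) * (n * w⁻¹) := by group
            _ = _ := by rw [hw']
        · have := h.mul_left h'.inv_left
          rw [mul_inv_cancel_right] at this
          simpa using this.inv_left
    rw [← ((Subgroup.zpowers t).subgroupOf N).index_mul_card,
      Nat.card_congr (Subgroup.subgroupOfEquivOfLe hTN).toEquiv]
    rw [Subgroup.relIndex] at hidx
    rw [hidx, Nat.card_zpowers, ht]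

end Finite

end Cfsg.Agent.GLOrder
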