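import Cfsg.Agent.EqLemmas
import Cfsg.Prelude.Def_Classical
import Mathlib.LinearAlgebra.SymplecticGroup

/-!
# Roots and root elements of `Sp_{2m}` as matrices

* `wt`, `wf` : weights of the standard basis and the height;
* `wt_sub_eq`, `wt_sub_ne_two` : the combinatorics of roots;
* `rootX a b t` : root elements;
* `rootU r` : root subgroups, `eq_rootX`;
* `Lev w d` : the filtration of the unipotent subgroup; `peel`;
* `Mono π` : monomial elements, `mono_rootN`.
-/

set_option autoImplicit false

open Matrix

namespace Cfsg.Agent.GLOrder.SpRoot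

variable {m : ℕ}

/-- The index set of `Sp_{2m}`. -/
abbrev Ix (m : ℕ) := Fin m ⊕ Fin m

theorem swap_inj {x y : Ix m} (h : x.swap = y.swap) : x = y := by
  simpa using congrArg Sum.swap h

theorem swap_ne_self (x : Ix m) : x.swap ≠ x := by cases x <;> simp

theorem self_ne_swap (x : Ix m) : x ≠ x.swap := (swap_ne_self x).symm

/-! ### Weights -/

/-- The weight of a standard basis vector. -/
def wt : Ix m → Fin m → ℤ := Sum.elim (fun i => Pi.single i 1) (fun i => Pi.single i (-1))

/-- Evaluation of a vector of `ℤ^m` at an index. -/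
def evw : (Fin m → ℤ) →+ (Ix m → ℤ) where
  toFun v := Sum.elim v fun i => -v i
  map_zero' := by funext x; cases x <;> simp
  map_add' v w := by funext x; cases x <;> simp [add_comm]

theorem wt_swap (x : Ix m) : wt x.swap = -wt x := by
  cases x <;> simp [wt, ← Pi.single_neg]

theorem evw_wt (x y : Ix m) :
    evw (wt x) y = (if x = y then 1 else 0) - (if x = y.swap then 1 else 0) := by
  rcases x with i | i <;> rcases y with j | j <;> simp [evw, wt, Pi.single_apply, eq_comm] <;>
    split_ifs <;> simp

theorem evw_wt_sub (x y z : Ix m) :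
    evw (wt x - wt y) z = (if x = z then 1 else 0) - (if x = z.swap then 1 else 0)
      - ((if y = z then 1 else 0) - (if y = z.swap then 1 else 0)) := by
  rw [map_sub, Pi.sub_apply, evw_wt, evw_wt]

theorem evw_wt_self (x : Ix m) : evw (wt x) x = 1 := by
  simp [evw_wt, self_ne_swap]

theorem wt_injective : Function.Injective (wt : Ix m → Fin m → ℤ) := by
  intro x y h
  have h1 := evw_wt_self x
  rw [h, evw_wt] at h1
  by_contra hne
  rw [if_neg (Ne.symm hne)] at h1
  split_ifs at h1 <;> omega

theorem wt_ne_zero (x : Ix m) : wt x ≠ 0 := fun h => by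
  simpa [h] using evw_wt_self x

/-- The weight differences determine the positions up to symmetry. -/
theorem wt_sub_eq {a b c d : Ix m} (hab : a ≠ b) (h : wt a - wt b = wt c - wt d) :
    (c = a ∧ d = b) ∨ (c = b.swap ∧ d = a.swap) := by
  by_cases hca : c = a
  · subst hca
    exact Or.inl ⟨rfl, wt_injective (sub_right_injective h).symm⟩
  by_cases hda : d = a.swap
  · refine Or.inr ⟨wt_injective ?_, hda⟩
    rw [hda, wt_swap, sub_neg_eq_add, add_comm] at h
    rw [wt_swap]
    have h' : wt a + -wt b = wt a + wt c := by rw [← sub_eq_add_neg]; exact h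
    exact (add_left_cancel h').symm
  exfalso
  have h1 := congrArg (fun v => evw v a) h
  simp only [evw_wt_sub, if_neg hca, if_neg hda, if_neg (self_ne_swap a),
    if_neg (Ne.symm hab)] at h1
  split_ifs at h1 <;> omega

/-- Twice a root is not a weight difference. -/
theorem wt_sub_ne_two (a b : Ix m) {c d : Ix m} (hcd : c ≠ d) :
    wt a - wt b ≠ (wt c - wt d) + (wt c - wt d) := by
  intro h
  have h1 := congrArg (fun v => evw v c) h
  simp only [map_add, Pi.add_apply, evw_wt_sub, if_neg (self_ne_swap c),
    if_neg (Ne.symm hcd)] at h1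
  by_cases hdc : d = c.swap
  · simp only [if_pos hdc] at h1
    split_ifs at h1 <;> omega
  · simp only [if_neg hdc] at h1
    by_cases hac : a = c
    · by_cases hbc : b = c.swap
      · subst hac hbc
        rw [wt_swap, sub_neg_eq_add] at h
        have h2 : wt d = 0 := by
          funext i
          have := congrFun h i
          simp only [Pi.add_apply, Pi.sub_apply] at this
          simp only [Pi.zero_apply]
          omega
        exact wt_ne_zero d h2
      · simp only [if_neg hbc, hac, if_neg (self_ne_swap c)] at h1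
        split_ifs at h1 <;> omega
    · simp only [if_neg hac] at h1
      split_ifs at h1 <;> omega

/-- The height of a vector. -/
def htw : (Fin m → ℤ) →+ ℤ where
  toFun v := ∑ i : Fin m, (2 * ((m : ℤ) - i.1) - 1) * v i
  map_zero' := by simp
  map_add' v w := by simp [mul_add, Finset.sum_add_distrib]

/-- The height of a basis vector. -/
def wf (x : Ix m) : ℤ := htw (wt x)

theorem wf_inl (i : Fin m) : wf (.inl i : Ix m) = 2 * ((m : ℤ) - i.1) - 1 := by
  simp [wf, wt, htw, Pi.single_apply]

theorem wf_swap (x : Ix m) : wf x.swap = -wf x := by rw [wf, wt_swap, map_neg, wf]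

theorem wf_inr (i : Fin m) : wf (.inr i : Ix m) = -(2 * ((m : ℤ) - i.1) - 1) := by
  rw [← wf_inl, ← wf_swap]; rfl

theorem wf_injective : Function.Injective (wf : Ix m → ℤ) := by
  rintro (i | i) (j | j) h <;> simp only [wf_inl, wf_inr] at h <;>
    have hi := i.isLt <;> have hj := j.isLt
  · exact congrArg Sum.inl (Fin.ext (by omega))
  · omega
  · omega
  · exact congrArg Sum.inr (Fin.ext (by omega))

theorem wf_odd (x : Ix m) : wf x % 2 = 1 := by
  cases x <;> simp only [wf_inl, wf_inr] <;> omega

theorem wf_bound (x : Ix m) : -(2 * (m : ℤ)) < wf x ∧ wf x < 2 * m := by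
  rcases x with i | i <;> simp only [wf_inl, wf_inr] <;> have := i.isLt <;> omega

/-! ### The reflections -/

/-- The permutation exchanging `a` with `b` and their opposites. -/
def pairFun (a b x : Ix m) : Ix m :=
  if x = a then b else if x = b then a else if x = a.swap then b.swap
  else if x = b.swap then a.swap else x

theorem pairFun_left (a b : Ix m) : pairFun a b a = b := if_pos rfl

theorem pairFun_right (a b : Ix m) : pairFun a b b = a := by
  by_cases h : b = a <;> simp [pairFun, h]

theorem pairFun_of_ne {a b x : Ix m} (h1 : x ≠ a) (h2 : x ≠ b) (h3 : x ≠ a.swap)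
    (h4 : x ≠ b.swap) : pairFun a b x = x := by
  simp [pairFun, h1, h2, h3, h4]

theorem pairFun_swap (a b x : Ix m) : pairFun a b x.swap = (pairFun a b x).swap := by
  have hs : ∀ {y z : Ix m}, y.swap = z → y = z.swap := fun {y z} h => by
    rw [← h, Sum.swap_swap]
  by_cases h1 : x = a
  · subst h1
    rw [pairFun_left]
    by_cases h : x.swap = b
    · rw [h, pairFun_right, ← h, Sum.swap_swap]
    · simp [pairFun, h, swap_ne_self]
  by_cases h2 : x = b
  · subst h2
    rw [pairFun_right]
    by_cases h : x.swap = a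
    · rw [h, pairFun_left, ← h, Sum.swap_swap]
    · have h' : x.swap ≠ a.swap := fun e => h1 (swap_inj e)
      simp [pairFun, h, h', swap_ne_self]
  by_cases h3 : x = a.swap
  · subst h3
    simp [pairFun, h2, swap_ne_self]
  by_cases h4 : x = b.swap
  · subst h4
    rw [Sum.swap_swap, pairFun_right]
    simp [pairFun, h1, h3, swap_ne_self]
  have k1 : x.swap ≠ a := fun e => h3 (hs e)
  have k2 : x.swap ≠ b := fun e => h4 (hs e)
  have k3 : x.swap ≠ a.swap := fun e => h1 (swap_inj e)
  have k4 : x.swap ≠ b.swap := fun e => h2 (swap_inj e)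
  rw [pairFun_of_ne h1 h2 h3 h4, pairFun_of_ne k1 k2 k3 k4]

theorem pairFun_invol (a b : Ix m) : Function.Involutive (pairFun a b) := by
  intro x
  by_cases h1 : x = a
  · subst h1; rw [pairFun_left, pairFun_right]
  by_cases h2 : x = b
  · subst h2; rw [pairFun_right, pairFun_left]
  by_cases h3 : x = a.swap
  · subst h3; rw [pairFun_swap, pairFun_left, pairFun_swap, pairFun_right]
  by_cases h4 : x = b.swap
  · subst h4; rw [pairFun_swap, pairFun_right, pairFun_swap, pairFun_left]
  rw [pairFun_of_ne h1 h2 h3 h4, pairFun_of_ne h1 h2 h3 h4]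

/-- The action of a permutation of the basis on weights. -/
def wact (π : Equiv.Perm (Ix m)) : (Fin m → ℤ) →+ (Fin m → ℤ) where
  toFun v k := evw v (π.symm (.inl k))
  map_zero' := by funext k; simp
  map_add' v w := by funext k; simp

theorem wact_wt {π : Equiv.Perm (Ix m)} (hπ : ∀ x, π x.swap = (π x).swap) (x : Ix m) :
    wact π (wt x) = wt (π x) := by
  funext k
  show evw (wt x) (π.symm (.inl k)) = wt (π x) k
  have e : wt (π x) k = evw (wt (π x)) (.inl k) := rfl
  have h1 : x = π.symm (.inl k) ↔ π x = .inl k := Equiv.eq_symm_apply π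
  have h2 : x = (π.symm (.inl k)).swap ↔ π x = (Sum.inl k : Ix m).swap := by
    constructor
    · intro h; rw [h, hπ, Equiv.apply_symm_apply]
    · intro h
      refine π.injective ?_
      rw [hπ, Equiv.apply_symm_apply, h]
  rw [e, evw_wt, evw_wt]
  simp only [h1, h2]

theorem wact_wt_sub {π : Equiv.Perm (Ix m)} (hπ : ∀ x, π x.swap = (π x).swap) (x y : Ix m) :
    wact π (wt x - wt y) = wt (π x) - wt (π y) := by
  rw [map_sub, wact_wt hπ, wact_wt hπ]

/-! ### Signs -/

variable {F : Type*} [Field F]

/-- The signs of the form. -/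
def cf : Ix m → F := Sum.elim (fun _ => -1) (fun _ => 1)

theorem cf_swap (x : Ix m) : (cf x.swap : F) = -cf x := by cases x <;> simp [cf]

theorem cf_mul_self (x : Ix m) : (cf x : F) * cf x = 1 := by cases x <;> simp [cf]

theorem J_eq (x y : Ix m) :
    Matrix.J (Fin m) F x y = if y = x.swap then cf x else 0 := by
  rcases x with i | i <;> rcases y with j | j <;>
    simp [Matrix.J, cf, Matrix.one_apply, eq_comm] <;> split_ifs <;> simp

theorem J_mul_apply (M : Matrix (Ix m) (Ix m) F) (x y : Ix m) :
    (Matrix.J (Fin m) F * M) x y = cf x * M x.swap y := by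
  rw [Matrix.mul_apply, Finset.sum_eq_single x.swap]
  · rw [J_eq, if_pos rfl]
  · intro z _ hz; rw [J_eq, if_neg hz, zero_mul]
  · exact fun h => absurd (Finset.mem_univ _) h

theorem transpose_mul_J_apply (M : Matrix (Ix m) (Ix m) F) (x y : Ix m) :
    (Mᵀ * Matrix.J (Fin m) F) x y = M y.swap x * cf y.swap := by
  rw [Matrix.mul_apply, Finset.sum_eq_single y.swap]
  · rw [J_eq, if_pos (Sum.swap_swap y).symm, Matrix.transpose_apply]
  · intro z _ hz
    rw [J_eq, if_neg, mul_zero]
    intro h
    exact hz (by rw [h, Sum.swap_swap])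
  · exact fun h => absurd (Finset.mem_univ _) h

/-- `g - 1`. -/
abbrev dev (g : Matrix.symplecticGroup (Fin m) F) : Matrix (Ix m) (Ix m) F := g.1 - 1

/-- The linearised relation at a position where the quadratic term vanishes. -/
theorem sp_rel (g : Matrix.symplecticGroup (Fin m) F) {a b : Ix m}
    (h : ∀ z, dev g z a.swap * dev g z.swap b = 0) :
    dev g b.swap a.swap = -(cf a * cf b * dev g a b) := by
  have hg := (SymplecticGroup.mem_iff' (A := g.1)).1 g.2
  have hq : (dev g)ᵀ * Matrix.J (Fin m) F + Matrix.J (Fin m) F * dev g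
      + (dev g)ᵀ * (Matrix.J (Fin m) F * dev g) = 0 := by
    have e : g.1 = 1 + dev g := by simp [dev]
    rw [e] at hg
    rw [Matrix.transpose_add, Matrix.transpose_one] at hg
    linear_combination (norm := noncomm_ring) hg
  have h1 := congrFun (congrFun hq a.swap) b
  have h2 : ((dev g)ᵀ * (Matrix.J (Fin m) F * dev g)) a.swap b = 0 := by
    rw [Matrix.mul_apply]
    refine Finset.sum_eq_zero fun z _ => ?_
    rw [Matrix.transpose_apply, J_mul_apply, mul_left_comm, h z, mul_zero]
  rw [Matrix.add_apply, Matrix.add_apply, h2, transpose_mul_J_apply, J_mul_apply,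
    Sum.swap_swap, cf_swap, cf_swap, Matrix.zero_apply, add_zero] at h1
  linear_combination (-(cf b : F)) * h1 - dev g b.swap a.swap * cf_mul_self (F := F) b

/-- A skew square-zero perturbation of the identity is symplectic. -/
theorem one_add_mem {E : Matrix (Ix m) (Ix m) F}
    (hs : ∀ a b, E b.swap a.swap = -(cf a * cf b * E a b)) (h0 : E * E = 0) :
    1 + E ∈ Matrix.symplecticGroup (Fin m) F := by
  have key : Eᵀ * Matrix.J (Fin m) F = -(Matrix.J (Fin m) F * E) := by
    ext x y
    rw [Matrix.neg_apply, transpose_mul_J_apply, J_mul_apply, cf_swap]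
    have := hs x.swap y
    rw [Sum.swap_swap, cf_swap] at this
    rw [this]
    linear_combination (-(cf x : F) * E x.swap y) * cf_mul_self (F := F) y
  rw [SymplecticGroup.mem_iff', Matrix.transpose_add, Matrix.transpose_one]
  have h2 : Eᵀ * Matrix.J (Fin m) F * E = 0 := by
    rw [key, Matrix.neg_mul, Matrix.mul_assoc, h0, Matrix.mul_zero, neg_zero]
  calc (1 + Eᵀ) * Matrix.J (Fin m) F * (1 + E)
      = Matrix.J (Fin m) F + (Eᵀ * Matrix.J (Fin m) F + Matrix.J (Fin m) F * E)
        + Eᵀ * Matrix.J (Fin m) F * E := by noncomm_ring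
    _ = Matrix.J (Fin m) F := by rw [h2, key]; abel

/-! ### Supports -/

/-- Nonzero entries only at positions with weight difference `d`. -/
def Supp (M : Matrix (Ix m) (Ix m) F) (d : Fin m → ℤ) : Prop :=
  ∀ x y, M x y ≠ 0 → wt x - wt y = d

theorem supp_zero (d : Fin m → ℤ) : Supp (0 : Matrix (Ix m) (Ix m) F) d := fun _ _ h =>
  absurd rfl h

theorem Supp.add {M N : Matrix (Ix m) (Ix m) F} {d : Fin m → ℤ} (hM : Supp M d) (hN : Supp N d) :
    Supp (M + N) d := fun x y h => by
  by_cases h1 : M x y = 0
  · exact hN x y (by simpa [h1] using h)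
  · exact hM x y h1

theorem Supp.neg {M : Matrix (Ix m) (Ix m) F} {d : Fin m → ℤ} (hM : Supp M d) : Supp (-M) d :=
  fun x y h => hM x y (by simpa using h)

theorem Supp.mul {M N : Matrix (Ix m) (Ix m) F} {d e : Fin m → ℤ} (hM : Supp M d)
    (hN : Supp N e) : Supp (M * N) (d + e) := fun x y h => by
  rw [Matrix.mul_apply] at h
  obtain ⟨z, -, hz⟩ := Finset.exists_ne_zero_of_sum_ne_zero h
  rw [← hM x z (left_ne_zero_of_mul hz), ← hN z y (right_ne_zero_of_mul hz)]
  abel

theorem Supp.eq_zero_of_ne {M : Matrix (Ix m) (Ix m) F} {d : Fin m → ℤ} (hM : Supp M d)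
    (h : ∀ x y, wt x - wt y ≠ d) : M = 0 := by
  ext x y
  by_contra hne
  exact h x y (hM x y hne)

theorem Supp.mul_self {M : Matrix (Ix m) (Ix m) F} {a b : Ix m} (hab : a ≠ b)
    {N : Matrix (Ix m) (Ix m) F}
    (hM : Supp M (wt a - wt b)) (hN : Supp N (wt a - wt b)) : M * N = 0 :=
  (hM.mul hN).eq_zero_of_ne fun x y => wt_sub_ne_two x y hab

/-! ### Roots and root subgroups -/

/-- The roots: nonzero weight differences. -/
def Root (m : ℕ) := {v : Fin m → ℤ // ∃ a b : Ix m, a ≠ b ∧ wt a - wt b = v}

/-- The root of a position. -/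
def root (a b : Ix m) (h : a ≠ b) : Root m := ⟨wt a - wt b, a, b, h, rfl⟩

theorem Root.exists_rep (r : Root m) : ∃ (a b : Ix m) (h : a ≠ b), r = root a b h :=
  let ⟨a, b, h, e⟩ := r.2
  ⟨a, b, h, Subtype.ext e.symm⟩

instance : Finite (Root m) :=
  Finite.of_surjective (fun p : {p : Ix m × Ix m // p.1 ≠ p.2} => root p.1.1 p.1.2 p.2) fun r => by
    obtain ⟨a, b, h, rfl⟩ := r.exists_rep
    exact ⟨⟨(a, b), h⟩, rfl⟩

/-- The negative of a root. -/
def Root.neg (r : Root m) : Root m :=
  ⟨-r.1, by
    obtain ⟨a, b, h, e⟩ := r.2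
    exact ⟨b, a, h.symm, by rw [← e, neg_sub]⟩⟩

theorem root_neg (a b : Ix m) (h : a ≠ b) : (root a b h).neg = root b a h.symm :=
  Subtype.ext (neg_sub _ _)

theorem root_swap (a b : Ix m) (h : a ≠ b) :
    root b.swap a.swap (fun e => h (swap_inj e).symm) = root a b h := by
  refine Subtype.ext ?_
  show wt b.swap - wt a.swap = wt a - wt b
  rw [wt_swap, wt_swap]; abel

/-- The root subgroup of a root. -/
def rootU (r : Root m) : Subgroup (Matrix.symplecticGroup (Fin m) F) where
  carrier := {g | Supp (dev g) r.1}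
  one_mem' := by
    show Supp (dev 1) r.1
    simpa [dev] using supp_zero r.1
  mul_mem' := by
    intro g h hg hh
    obtain ⟨a, b, hab, e⟩ := r.2
    have h0 : dev g * dev h = 0 := (e ▸ hg : Supp (dev g) _).mul_self hab (e ▸ hh)
    have h1 : dev (g * h) = dev g + dev h + dev g * dev h := by
      simp only [dev, Submonoid.coe_mul]; noncomm_ring
    show Supp (dev (g * h)) r.1
    rw [h1, h0, add_zero]
    exact hg.add hh
  inv_mem' := by
    intro g hg
    obtain ⟨a, b, hab, e⟩ := r.2
    have h0 : dev g * dev g = 0 := (e ▸ hg : Supp (dev g) _).mul_self hab (e ▸ hg)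
    have h1 : g.1 * (1 - dev g) = 1 := by
      have e : g.1 = 1 + dev g := by simp [dev]
      rw [e]
      calc (1 + dev g) * (1 - dev g) = 1 - dev g * dev g := by noncomm_ring
        _ = 1 := by rw [h0, sub_zero]
    have h2 : (g⁻¹).1 = 1 - dev g := by
      have h3 : (g⁻¹).1 * g.1 = 1 := by rw [← Submonoid.coe_mul, inv_mul_cancel]; rfl
      calc (g⁻¹).1 = (g⁻¹).1 * (g.1 * (1 - dev g)) := by rw [h1, mul_one]
        _ = 1 - dev g := by rw [← mul_assoc, h3, one_mul]
    show Supp (dev g⁻¹) r.1
    have h4 : dev g⁻¹ = -dev g := by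
      show (g⁻¹).1 - 1 = -dev g
      rw [h2]; abel
    rw [h4]
    exact hg.neg

theorem mem_rootU {r : Root m} {g : Matrix.symplecticGroup (Fin m) F} :
    g ∈ rootU r ↔ Supp (dev g) r.1 := Iff.rfl

/-- The matrix of a root element. -/
def rootMat (a b : Ix m) (t : F) : Matrix (Ix m) (Ix m) F :=
  Matrix.of fun x y => if x = a ∧ y = b then t
    else if x = b.swap ∧ y = a.swap then -(cf a * cf b * t) else 0

theorem rootMat_apply (a b : Ix m) (t : F) : rootMat a b t a b = t := by simp [rootMat]

theorem rootMat_supp (a b : Ix m) (t : F) : Supp (rootMat a b t) (wt a - wt b) := by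
  intro x y h
  simp only [rootMat, Matrix.of_apply] at h
  split_ifs at h with h1 h2
  · rw [h1.1, h1.2]
  · rw [h2.1, h2.2, wt_swap, wt_swap]; abel
  · exact absurd rfl h

theorem rootMat_skew (a b : Ix m) (t : F) (x y : Ix m) :
    rootMat a b t y.swap x.swap = -(cf x * cf y * rootMat a b t x y) := by
  by_cases h1 : x = a ∧ y = b
  · obtain ⟨rfl, rfl⟩ := h1
    rw [rootMat_apply]
    simp only [rootMat, Matrix.of_apply]
    split_ifs with h h'
    · rw [← h.1, cf_swap]
      linear_combination (-t) * cf_mul_self (F := F) y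
    · rfl
    · exact absurd ⟨trivial, trivial⟩ h'
  by_cases h2 : x = b.swap ∧ y = a.swap
  · obtain ⟨rfl, rfl⟩ := h2
    rw [Sum.swap_swap, Sum.swap_swap, rootMat_apply]
    simp only [rootMat, Matrix.of_apply, if_neg h1, if_pos (And.intro trivial trivial)]
    rw [cf_swap, cf_swap]
    linear_combination (-t) * cf_mul_self (F := F) a - t * cf a * cf a * cf_mul_self (F := F) b
  have h3 : ¬ (y.swap = a ∧ x.swap = b) := fun h => h2 ⟨by rw [← h.2, Sum.swap_swap],
    by rw [← h.1, Sum.swap_swap]⟩
  have h4 : ¬ (y.swap = b.swap ∧ x.swap = a.swap) := fun h => h1 ⟨swap_inj h.2, swap_inj h.1⟩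
  simp only [rootMat, Matrix.of_apply, if_neg h1, if_neg h2, if_neg h3, if_neg h4, mul_zero,
    neg_zero]

/-- The root element. -/
def rootX (a b : Ix m) (h : a ≠ b) (t : F) : Matrix.symplecticGroup (Fin m) F :=
  ⟨1 + rootMat a b t, one_add_mem (rootMat_skew a b t)
    ((rootMat_supp a b t).mul_self h (rootMat_supp a b t))⟩

theorem dev_rootX (a b : Ix m) (h : a ≠ b) (t : F) : dev (rootX a b h t) = rootMat a b t :=
  add_sub_cancel_left _ _

theorem rootX_mem (a b : Ix m) (h : a ≠ b) (t : F) : rootX a b h t ∈ rootU (root a b h) := by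
  rw [mem_rootU, dev_rootX]; exact rootMat_supp a b t

theorem rootX_ne_one (a b : Ix m) (h : a ≠ b) {t : F} (ht : t ≠ 0) : rootX a b h t ≠ 1 := by
  intro e
  refine ht ?_
  have := congrFun (congrFun (congrArg dev e) a) b
  rw [dev_rootX, rootMat_apply] at this
  simpa [dev] using this

/-- Every element of a root subgroup is a root element. -/
theorem eq_rootX {a b : Ix m} (h : a ≠ b) {g : Matrix.symplecticGroup (Fin m) F}
    (hg : g ∈ rootU (root a b h)) : g = rootX a b h (dev g a b) := by
  have hS : Supp (dev g) (wt a - wt b) := hg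
  have hrel : dev g b.swap a.swap = -(cf a * cf b * dev g a b) := by
    refine sp_rel g fun z => ?_
    by_contra hne
    have h1 := hS _ _ (left_ne_zero_of_mul hne)
    have h2 := hS _ _ (right_ne_zero_of_mul hne)
    refine wt_sub_ne_two a b h ?_
    rw [wt_swap] at h1 h2
    calc wt a - wt b = (wt z - -wt a) + (-wt z - wt b) := by abel
      _ = _ := by rw [h1, h2]
  have key : dev g = rootMat a b (dev g a b) := by
    ext x y
    by_cases hxy : x = a ∧ y = b
    · rw [hxy.1, hxy.2, rootMat_apply]
    simp only [rootMat, Matrix.of_apply, if_neg hxy]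
    by_cases hxy' : x = b.swap ∧ y = a.swap
    · rw [if_pos hxy', hxy'.1, hxy'.2, hrel]
    rw [if_neg hxy']
    by_contra hne
    rcases wt_sub_eq h (hS x y hne).symm with h' | h'
    · exact hxy h'
    · exact hxy' h'
  refine Subtype.ext ?_
  show g.1 = 1 + rootMat a b (dev g a b)
  rw [← key, dev, add_sub_cancel]

/-! ### The filtration -/

section Fin

variable [Finite F]

/-- Elements congruent to `1` below level `d + 1` of a grading `w`. -/
def levM (w : Ix m → ℤ) (d : ℕ) : Submonoid (Matrix.symplecticGroup (Fin m) F) where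
  carrier := {g | ∀ x y, dev g x y ≠ 0 → (d : ℤ) < w x - w y}
  one_mem' := fun x y h => absurd (by simp [dev]) h
  mul_mem' := by
    intro g h hg hh x y hne
    have h1 : dev (g * h) = dev g + dev h + dev g * dev h := by
      simp only [dev, Submonoid.coe_mul]; noncomm_ring
    by_contra hlt
    refine hne ?_
    have e1 : dev g x y = 0 := by by_contra hc; exact hlt (hg x y hc)
    have e2 : dev h x y = 0 := by by_contra hc; exact hlt (hh x y hc)
    rw [h1, Matrix.add_apply, Matrix.add_apply, e1, e2, Matrix.mul_apply]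
    simp only [zero_add]
    refine Finset.sum_eq_zero fun z _ => ?_
    by_contra hc
    have a1 := hg x z (left_ne_zero_of_mul hc)
    have a2 := hh z y (right_ne_zero_of_mul hc)
    omega

/-- The level subgroup. -/
def Lev (w : Ix m → ℤ) (d : ℕ) : Subgroup (Matrix.symplecticGroup (Fin m) F) where
  toSubmonoid := levM w d
  inv_mem' := by
    intro g hg
    have : Finite (Matrix.symplecticGroup (Fin m) F) := inferInstance
    obtain ⟨k, hk⟩ : ∃ k : ℕ, g⁻¹ = g ^ k :=
      ⟨orderOf g - 1, inv_eq_of_mul_eq_one_right (by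
        rw [← pow_succ', Nat.sub_add_cancel (orderOf_pos g), pow_orderOf_eq_one])⟩
    show g⁻¹ ∈ levM w d
    rw [hk]
    exact pow_mem hg k

theorem mem_Lev {w : Ix m → ℤ} {d : ℕ} {g : Matrix.symplecticGroup (Fin m) F} :
    g ∈ Lev w d ↔ ∀ x y, dev g x y ≠ 0 → (d : ℤ) < w x - w y := Iff.rfl

theorem Lev_mono {w : Ix m → ℤ} {d e : ℕ} (h : d ≤ e) :
    (Lev w e : Subgroup (Matrix.symplecticGroup (Fin m) F)) ≤ Lev w d := fun g hg x y hne => by
  have := hg x y hne
  omega

/-- At a position that cannot be reached in two steps the entries add up. -/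
theorem dev_mul_apply {w : Ix m → ℤ} {d : ℕ} {g h : Matrix.symplecticGroup (Fin m) F}
    (hg : g ∈ Lev w d) (hh : h ∈ Lev w d) {x y : Ix m}
    (hz : ∀ z, ¬ ((d : ℤ) < w x - w z ∧ (d : ℤ) < w z - w y)) :
    dev (g * h) x y = dev g x y + dev h x y := by
  have h1 : dev (g * h) = dev g + dev h + dev g * dev h := by
    simp only [dev, Submonoid.coe_mul]; noncomm_ring
  rw [h1, Matrix.add_apply, Matrix.add_apply, Matrix.mul_apply,
    Finset.sum_eq_zero, add_zero]
  intro z _
  by_contra hc
  exact hz z ⟨hg x z (left_ne_zero_of_mul hc), hh z y (right_ne_zero_of_mul hc)⟩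

theorem rootX_mem_Lev {a b : Ix m} (h : a ≠ b) (t : F) {d : ℕ} (hd : (d : ℤ) < wf a - wf b) :
    rootX a b h t ∈ Lev wf d := by
  intro x y hne
  rw [dev_rootX] at hne
  have := congrArg htw (rootMat_supp a b t x y hne)
  rw [map_sub, map_sub] at this
  simp only [wf] at hd ⊢
  omega

theorem rootU_le_Lev {r : Root m} (h : 0 < htw r.1) :
    (rootU r : Subgroup (Matrix.symplecticGroup (Fin m) F)) ≤ Lev wf 0 := fun g hg x y hne => by
  have := congrArg htw (hg x y hne)
  rw [map_sub] at this
  simp only [wf]
  omega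

theorem rootU_le_Lev_neg {r : Root m} (h : htw r.1 < 0) :
    (rootU r : Subgroup (Matrix.symplecticGroup (Fin m) F)) ≤ Lev (fun x => -wf x) 0 :=
  fun g hg x y hne => by
    have := congrArg htw (hg x y hne)
    rw [map_sub] at this
    simp only [wf]
    omega

/-- An element of level `d` is a product of root elements, provided the roots occurring in it are
allowed. -/
theorem peel {K : Subgroup (Matrix.symplecticGroup (Fin m) F)} :
    ∀ (k d : ℕ), 4 * m ≤ d + k → ∀ g ∈ Lev wf d,
      (∀ x y (h : x ≠ y), dev g x y ≠ 0 → wf x - wf y = d + 1 → rootU (root x y h) ≤ K) →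
      (∀ x y (h : x ≠ y), (d : ℤ) + 1 < wf x - wf y →
        (rootU (root x y h) : Subgroup (Matrix.symplecticGroup (Fin m) F)) ≤ K) → g ∈ K := by
  classical
  intro k
  induction k with
  | zero =>
    intro d hd g hg _ _
    have : g = 1 := by
      refine Subtype.ext (sub_eq_zero.1 ?_)
      ext x y
      by_contra hne
      have := hg x y hne
      have := wf_bound x
      have := wf_bound y
      omega
    rw [this]; exact one_mem _
  | succ k ih =>
    intro d hd g hg h1 h2
    suffices ∀ (n : ℕ) (g : Matrix.symplecticGroup (Fin m) F), g ∈ Lev wf d →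
        (Finset.univ.filter fun p : Ix m × Ix m =>
          dev g p.1 p.2 ≠ 0 ∧ wf p.1 - wf p.2 = d + 1).card = n →
        (∀ x y (h : x ≠ y), dev g x y ≠ 0 → wf x - wf y = d + 1 → rootU (root x y h) ≤ K) →
        g ∈ K from this _ g hg rfl h1
    intro n
    induction n using Nat.strong_induction_on with
    | _ n ihn =>
      intro g hg hn h1
      by_cases hex : ∃ a b, dev g a b ≠ 0 ∧ wf a - wf b = d + 1
      · obtain ⟨a, b, hne, hlev⟩ := hex
        have hab : a ≠ b := by rintro rfl; simp only [sub_self] at hlev; omega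
        set t := dev g a b with ht
        set h := rootX a b hab t with hh
        have hhK : h ∈ K := h1 a b hab hne hlev (rootX_mem a b hab t)
        have hhL : h ∈ Lev wf d := rootX_mem_Lev hab t (by omega)
        set g' := h⁻¹ * g with hg'
        have hg'L : g' ∈ Lev wf d := mul_mem (inv_mem hhL) hg
        have hsum : ∀ x y, wf x - wf y = (d : ℤ) + 1 →
            dev g x y = rootMat a b t x y + dev g' x y := by
          intro x y hxy
          have : dev (h * g') x y = dev h x y + dev g' x y :=
            dev_mul_apply hhL hg'L fun z ⟨u1, u2⟩ => by omega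
          rwa [hg', mul_inv_cancel_left, hh, dev_rootX] at this
        have hrel : dev g b.swap a.swap = -(cf a * cf b * t) := by
          refine sp_rel g fun z => ?_
          by_contra hc
          have a1 := hg z a.swap (left_ne_zero_of_mul hc)
          have a2 := hg z.swap b (right_ne_zero_of_mul hc)
          rw [wf_swap] at a1 a2
          omega
        have hsub : ∀ x y, dev g' x y ≠ 0 → wf x - wf y = (d : ℤ) + 1 →
            dev g x y ≠ 0 ∧ ¬ (x = a ∧ y = b) := by
          intro x y hne' hxy
          have e := hsum x y hxy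
          by_cases hm : rootMat a b t x y = 0
          · rw [hm, zero_add] at e
            refine ⟨e ▸ hne', ?_⟩
            rintro ⟨rfl, rfl⟩
            exact hne (by rwa [rootMat_apply] at hm)
          exfalso
          refine hne' ?_
          have e' : dev g x y = rootMat a b t x y := by
            rcases wt_sub_eq hab (rootMat_supp a b t x y hm).symm with ⟨rfl, rfl⟩ | ⟨rfl, rfl⟩
            · rw [rootMat_apply]
            · rw [hrel, rootMat_skew a b t a b, rootMat_apply]
          rw [e'] at e
          exact add_eq_left.1 e.symm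
        have hlt : (Finset.univ.filter fun p : Ix m × Ix m =>
            dev g' p.1 p.2 ≠ 0 ∧ wf p.1 - wf p.2 = d + 1).card < n := by
          rw [← hn]
          refine Finset.card_lt_card ?_
          rw [Finset.ssubset_iff_of_subset]
          · refine ⟨(a, b), Finset.mem_filter.2 ⟨Finset.mem_univ _, hne, hlev⟩, fun hmem => ?_⟩
            simp only [Finset.mem_filter, Finset.mem_univ, true_and] at hmem
            exact (hsub a b hmem.1 hlev).2 ⟨rfl, rfl⟩
          · intro p hp
            simp only [Finset.mem_filter, Finset.mem_univ, true_and] at hp ⊢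
            exact ⟨(hsub p.1 p.2 hp.1 hp.2).1, hp.2⟩
        have hg'K : g' ∈ K := ihn _ hlt g' hg'L rfl fun x y hxy hne' hlv =>
          h1 x y hxy (hsub x y hne' hlv).1 hlv
        have : g = h * g' := by rw [hg', mul_inv_cancel_left]
        rw [this]
        exact mul_mem hhK hg'K
      · push Not at hex
        refine ih (d + 1) (by omega) g ?_ (fun x y hxy _ hlv => ?_) (fun x y hxy hlv => ?_)
        · intro x y hne
          have a1 := hg x y hne
          have a2 := hex x y hne
          push_cast
          omega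
        · exact h2 x y hxy (by push_cast at hlv; omega)
        · exact h2 x y hxy (by push_cast at hlv; omega)

end Fin

/-! ### Monomial elements -/

/-- Monomial with permutation `π`. -/
def Mono (π : Equiv.Perm (Ix m)) (g : Matrix.symplecticGroup (Fin m) F) : Prop :=
  ∀ x y, g.1 x y ≠ 0 → x = π y

theorem mono_one : Mono 1 (1 : Matrix.symplecticGroup (Fin m) F) := fun x y h => by
  by_contra hne
  exact h (Matrix.one_apply_ne hne)

theorem Mono.mul {π σ : Equiv.Perm (Ix m)} {g h : Matrix.symplecticGroup (Fin m) F}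
    (hg : Mono π g) (hh : Mono σ h) : Mono (π * σ) (g * h) := fun x y hne => by
  rw [Submonoid.coe_mul, Matrix.mul_apply] at hne
  obtain ⟨z, -, hz⟩ := Finset.exists_ne_zero_of_sum_ne_zero hne
  rw [hg x z (left_ne_zero_of_mul hz), hh z y (right_ne_zero_of_mul hz)]
  rfl

theorem Mono.inv {π : Equiv.Perm (Ix m)} {g : Matrix.symplecticGroup (Fin m) F}
    (hg : Mono π g) : Mono π⁻¹ g⁻¹ := by
  intro x y hne
  have key : ∀ w, g.1 (π x) x * (g⁻¹).1 x w = (1 : Matrix (Ix m) (Ix m) F) (π x) w := by
    intro w
    have h1 : g.1 * (g⁻¹).1 = 1 := by rw [← Submonoid.coe_mul, mul_inv_cancel]; rfl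
    rw [← h1, Matrix.mul_apply, Finset.sum_eq_single x]
    · intro z _ hz
      by_contra hc
      exact hz (π.injective (hg _ _ (left_ne_zero_of_mul hc))).symm
    · exact fun h => absurd (Finset.mem_univ _) h
  have h1 : g.1 (π x) x ≠ 0 := fun h => by
    have := key (π x)
    rw [h, zero_mul, Matrix.one_apply_eq] at this
    exact zero_ne_one this
  by_contra hxy
  have h2 := key y
  rw [Matrix.one_apply_ne, mul_eq_zero] at h2
  · exact hne (h2.resolve_left h1)
  · intro e; exact hxy (by rw [← e]; simp)

/-- Conjugation by monomial elements moves supports. -/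
theorem Mono.conj_supp {π : Equiv.Perm (Ix m)} (hπ : ∀ x, π x.swap = (π x).swap)
    {n g : Matrix.symplecticGroup (Fin m) F} (hn : Mono π n) {d : Fin m → ℤ}
    (hg : Supp (dev g) d) : Supp (dev (n * g * n⁻¹)) (wact π d) := by
  have h1 : dev (n * g * n⁻¹) = n.1 * dev g * (n⁻¹).1 := by
    have : n.1 * (n⁻¹).1 = 1 := by rw [← Submonoid.coe_mul, mul_inv_cancel]; rfl
    simp only [dev, Submonoid.coe_mul, Matrix.mul_sub, Matrix.sub_mul, mul_one, this]
  intro x y hne
  rw [h1, Matrix.mul_apply] at hne
  obtain ⟨v, -, hv⟩ := Finset.exists_ne_zero_of_sum_ne_zero hne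
  have hv1 := left_ne_zero_of_mul hv
  rw [Matrix.mul_apply] at hv1
  obtain ⟨u, -, hu⟩ := Finset.exists_ne_zero_of_sum_ne_zero hv1
  have e1 := hn x u (left_ne_zero_of_mul hu)
  have e2 := hn.inv v y (right_ne_zero_of_mul hv)
  rw [← hg u v (right_ne_zero_of_mul hu), wact_wt_sub hπ, e1, e2]
  simp

/-- The Weyl element `x(u) y(-1/u) x(u)`. -/
def rootN (a b : Ix m) (h : a ≠ b) (u : F) : Matrix.symplecticGroup (Fin m) F :=
  rootX a b h u * rootX b a h.symm (-u⁻¹) * rootX a b h u

theorem rootN_diag (a b : Ix m) (h : a ≠ b) {u : F} (hu : u ≠ 0) {a' b' : Ix m} (h' : a' ≠ b')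
    (hr : wt a' - wt b' = wt a - wt b) :
    (rootN a b h u).1 a' a' = 0 ∧ (rootN a b h u).1 b' b' = 0 := by
  set E := rootMat a b u with hE
  set Y := rootMat b a (-u⁻¹) with hY
  have sE : Supp E (wt a' - wt b') := hr ▸ rootMat_supp a b u
  have sY : Supp Y (wt b' - wt a') := by
    rw [← neg_sub (wt a') (wt b'), hr, neg_sub]; exact rootMat_supp b a _
  have hprod : E a' b' * Y b' a' = -1 := by
    rcases wt_sub_eq h hr.symm with ⟨rfl, rfl⟩ | ⟨rfl, rfl⟩
    · rw [hE, hY, rootMat_apply, rootMat_apply, mul_neg, mul_inv_cancel₀ hu]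
    · rw [hE, hY, rootMat_skew a b u, rootMat_skew b a (-u⁻¹), rootMat_apply, rootMat_apply]
      linear_combination (-(cf a * cf a * cf b * cf b : F)) * mul_inv_cancel₀ hu
        - cf b * cf b * cf_mul_self (F := F) a - cf_mul_self (F := F) b
  have hexp : (rootN a b h u).1 = 1 + (E + E) + Y + E * Y + Y * E + E * Y * E := by
    have e0 : E * E = 0 := (rootMat_supp a b u).mul_self h (rootMat_supp a b u)
    show (1 + E) * (1 + Y) * (1 + E) = _
    calc (1 + E) * (1 + Y) * (1 + E)
        = 1 + (E + E) + Y + E * Y + Y * E + E * E + E * Y * E := by noncomm_ring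
      _ = _ := by rw [e0, add_zero]
  have hd : ∀ {M : Matrix (Ix m) (Ix m) F} {p q : Ix m}, p ≠ q → Supp M (wt p - wt q) →
      ∀ x, M x x = 0 := fun {M p q} hpq hM x => by
    by_contra hne
    have := hM x x hne
    rw [sub_self] at this
    exact hpq (wt_injective (sub_eq_zero.1 this.symm))
  have sEYE : Supp (E * Y * E) (wt a' - wt b') := by
    have := (sE.mul sY).mul sE
    rwa [show wt a' - wt b' + (wt b' - wt a') + (wt a' - wt b') = wt a' - wt b' by abel] at this
  have eval : ∀ x, (rootN a b h u).1 x x = 1 + (E * Y) x x + (Y * E) x x := fun x => by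
    rw [hexp]
    simp only [Matrix.add_apply, Matrix.one_apply_eq, hd h' sE x, hd h'.symm sY x, hd h' sEYE x,
      add_zero]
  constructor
  · have e1 : (E * Y) a' a' = -1 := by
      rw [Matrix.mul_apply, Finset.sum_eq_single b', hprod]
      · intro z _ hz
        by_contra hc
        exact hz (wt_injective (sub_right_injective (sE a' z (left_ne_zero_of_mul hc))))
      · exact fun h => absurd (Finset.mem_univ _) h
    have e2 : (Y * E) a' a' = 0 := by
      rw [Matrix.mul_apply]
      refine Finset.sum_eq_zero fun z _ => ?_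
      by_contra hc
      refine wt_sub_ne_two z b' h' ?_
      have := sE z a' (right_ne_zero_of_mul hc)
      calc wt z - wt b' = (wt z - wt a') + (wt a' - wt b') := by abel
        _ = _ := by rw [this]
    rw [eval, e1, e2]; ring
  · have e1 : (Y * E) b' b' = -1 := by
      rw [Matrix.mul_apply, Finset.sum_eq_single a', mul_comm, hprod]
      · intro z _ hz
        by_contra hc
        exact hz (wt_injective (sub_left_injective (sE z b' (right_ne_zero_of_mul hc))))
      · exact fun h => absurd (Finset.mem_univ _) h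
    have e2 : (E * Y) b' b' = 0 := by
      rw [Matrix.mul_apply]
      refine Finset.sum_eq_zero fun z _ => ?_
      by_contra hc
      refine wt_sub_ne_two a' z h' ?_
      have := sE b' z (left_ne_zero_of_mul hc)
      calc wt a' - wt z = (wt a' - wt b') + (wt b' - wt z) := by abel
        _ = _ := by rw [this]
    rw [eval, e1, e2]; ring

/-- The Weyl element is monomial. -/
theorem mono_rootN (a b : Ix m) (h : a ≠ b) {u : F} (hu : u ≠ 0) :
    Mono (pairFun_invol a b).toPerm (rootN a b h u) := by
  intro x y hne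
  show x = pairFun a b y
  by_cases hxy : x = y
  · subst hxy
    refine (pairFun_of_ne ?_ ?_ ?_ ?_).symm
    · rintro rfl; exact hne (rootN_diag x b h hu h rfl).1
    · rintro rfl; exact hne (rootN_diag a x h hu h rfl).2
    all_goals
      rintro rfl
      have hh : b.swap ≠ a.swap := fun e => h (swap_inj e).symm
      have hr : wt b.swap - wt a.swap = wt a - wt b := by rw [wt_swap, wt_swap]; abel
      first
        | exact hne (rootN_diag a b h hu hh hr).2
        | exact hne (rootN_diag a b h hu hh hr).1
  set E := rootMat a b u with hE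
  set Y := rootMat b a (-u⁻¹) with hY
  have sE : Supp E (wt a - wt b) := rootMat_supp a b u
  have sY : Supp Y (wt b - wt a) := rootMat_supp b a _
  have hexp : (rootN a b h u).1 = 1 + (E + E) + Y + (E * Y + Y * E) + E * Y * E := by
    have e0 : E * E = 0 := sE.mul_self h sE
    show (1 + E) * (1 + Y) * (1 + E) = _
    calc (1 + E) * (1 + Y) * (1 + E)
        = 1 + (E + E) + Y + (E * Y + Y * E) + E * E + E * Y * E := by noncomm_ring
      _ = _ := by rw [e0, add_zero]
  have s0 : Supp (E * Y + Y * E) 0 := by
    have := (sE.mul sY).add (N := Y * E) (by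
      have := sY.mul sE
      rwa [show wt b - wt a + (wt a - wt b) = wt a - wt b + (wt b - wt a) by abel] at this)
    rwa [show wt a - wt b + (wt b - wt a) = (0 : Fin m → ℤ) by abel] at this
  have sEYE : Supp (E * Y * E) (wt a - wt b) := by
    have := (sE.mul sY).mul sE
    rwa [show wt a - wt b + (wt b - wt a) + (wt a - wt b) = wt a - wt b by abel] at this
  have hz : (E * Y + Y * E) x y = 0 := by
    by_contra hc
    exact hxy (wt_injective (sub_eq_zero.1 (s0 x y hc)))
  have hcases : wt x - wt y = wt a - wt b ∨ wt x - wt y = wt b - wt a := by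
    by_contra hc
    push Not at hc
    refine hne ?_
    have z1 : E x y = 0 := by by_contra q; exact hc.1 (sE x y q)
    have z2 : Y x y = 0 := by by_contra q; exact hc.2 (sY x y q)
    have z3 : (E * Y * E) x y = 0 := by by_contra q; exact hc.1 (sEYE x y q)
    rw [hexp, Matrix.add_apply, Matrix.add_apply, Matrix.add_apply, Matrix.add_apply,
      Matrix.add_apply, Matrix.one_apply_ne hxy, z1, z2, z3, hz]
    simp
  rcases hcases with e | e
  · rcases wt_sub_eq h e.symm with ⟨rfl, rfl⟩ | ⟨rfl, rfl⟩
    · rw [pairFun_right]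
    · rw [pairFun_swap, pairFun_left]
  · rcases wt_sub_eq h.symm e.symm with ⟨rfl, rfl⟩ | ⟨rfl, rfl⟩
    · rw [pairFun_left]
    · rw [pairFun_swap, pairFun_right]

end Cfsg.Agent.GLOrder.SpRoot
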