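import Cfsg.Agent.EqLemmas
import Cfsg.Agent.Lib.GLOrder.SympRoots
import Cfsg.Agent.Lib.GLOrder.Symplectic
import Cfsg.Agent.Lib.RGD.Steinberg
import Cfsg.Agent.Lib.Linear.SpUnipotent
import Cfsg.Agent.Lib.CentralChar.Twist

/-!
# The root group data of `Sp_{2m}(F)` and its Steinberg character

* `spRD m F` : the root group data in `Matrix.symplecticGroup (Fin m) F`;
* `spRD_Upos`, `spRD_G`, `exists_longWord`;
* `lev_maximal` : `Upos` is a Sylow `p`-subgroup;
* `exists_steinberg_PSp` : the Steinberg character of `PSp_{2m}(F)`.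
-/

set_option autoImplicit false

open Matrix
open scoped Pointwise

namespace Cfsg.Agent.GLOrder.SpRoot

variable {m : ℕ} {F : Type*} [Field F]

/-- First index of a fundamental root. -/
def sa (i : Fin m) : Ix m := .inl i

/-- Second index of a fundamental root. -/
def sb (i : Fin m) : Ix m := if h : i.1 + 1 < m then .inl ⟨i.1 + 1, h⟩ else .inr i

theorem wf_sa_sub_sb (i : Fin m) : wf (sa i) - wf (sb i) = 2 := by
  have hi := i.isLt
  unfold sa sb
  split_ifs with h <;> simp only [wf_inl, wf_inr] <;> push_cast <;> omega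

theorem sa_ne_sb (i : Fin m) : sa i ≠ sb i := fun e => by
  have := wf_sa_sub_sb i
  rw [← e, sub_self] at this
  omega

/-- A fundamental root. -/
def simpleRoot (i : Fin m) : Root m := root (sa i) (sb i) (sa_ne_sb i)

/-- The permutation of a fundamental reflection. -/
def wperm (i : Fin m) : Equiv.Perm (Ix m) := (pairFun_invol (sa i) (sb i)).toPerm

theorem wperm_apply (i : Fin m) (x : Ix m) : wperm i x = pairFun (sa i) (sb i) x := rfl

theorem wperm_swap (i : Fin m) (x : Ix m) : wperm i x.swap = (wperm i x).swap := pairFun_swap _ _ x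

theorem wperm_wperm (i : Fin m) (x : Ix m) : wperm i (wperm i x) = x := pairFun_invol _ _ x

theorem wperm_mul_self (i : Fin m) : wperm i * wperm i = 1 := Equiv.ext (wperm_wperm i)

theorem wperm_inv (i : Fin m) : (wperm i)⁻¹ = wperm i :=
  inv_eq_of_mul_eq_one_right (wperm_mul_self i)

theorem wact_one (r : Root m) : wact (1 : Equiv.Perm (Ix m)) r.1 = r.1 := by
  obtain ⟨a, b, hab, rfl⟩ := r.exists_rep
  exact wact_wt_sub (π := 1) (fun _ => rfl) a b

/-- A fundamental reflection. -/
def wRoot (i : Fin m) (r : Root m) : Root m :=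
  ⟨wact (wperm i) r.1, by
    obtain ⟨a, b, hab, e⟩ := r.2
    exact ⟨wperm i a, wperm i b, fun h => hab ((wperm i).injective h),
      by rw [← e, wact_wt_sub (wperm_swap i)]⟩⟩

theorem wRoot_root (i : Fin m) (a b : Ix m) (h : a ≠ b) :
    wRoot i (root a b h) = root (wperm i a) (wperm i b) (fun e => h ((wperm i).injective e)) :=
  Subtype.ext (wact_wt_sub (wperm_swap i) a b)

theorem root_val (a b : Ix m) (h : a ≠ b) : htw (root a b h).1 = wf a - wf b := map_sub _ _ _

theorem htw_ne_zero (r : Root m) : htw r.1 ≠ 0 := by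
  obtain ⟨a, b, hab, rfl⟩ := r.exists_rep
  rw [root_val, sub_ne_zero]
  exact fun e => hab (wf_injective e)

theorem simpleRoot_injective : Function.Injective (simpleRoot : Fin m → Root m) := by
  intro i j h
  rcases wt_sub_eq (sa_ne_sb i) (congrArg Subtype.val h) with ⟨e, -⟩ | ⟨e, -⟩
  · exact (Sum.inl.inj e).symm
  · unfold sa sb at e
    split_ifs at e with hh
    · simp at e
    · exact (Sum.inl.inj e).symm

theorem wRoot_pos (i : Fin m) (r : Root m) (hr : 0 < htw r.1) (hne : r ≠ simpleRoot i) :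
    0 < htw (wRoot i r).1 := by
  obtain ⟨x, y, hxy, rfl⟩ := r.exists_rep
  rw [wRoot_root, root_val]
  rw [root_val] at hr
  have hab := wf_sa_sub_sb i
  have n1 : ¬ (wf x = wf (sa i) ∧ wf y = wf (sb i)) := fun ⟨e1, e2⟩ => hne (by
    obtain rfl := wf_injective e1
    obtain rfl := wf_injective e2
    rfl)
  have n2 : ¬ (wf x = -wf (sb i) ∧ wf y = -wf (sa i)) := fun ⟨e1, e2⟩ => hne (by
    rw [← wf_swap] at e1 e2
    obtain rfl := wf_injective e1
    obtain rfl := wf_injective e2
    exact root_swap _ _ (sa_ne_sb i))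
  have hinj : wf (wperm i x) ≠ wf (wperm i y) := fun e =>
    hxy ((wperm i).injective (wf_injective e))
  have cases5 : ∀ z, (wf z = wf (sa i) ∧ wf (wperm i z) = wf (sb i)) ∨
      (wf z = wf (sb i) ∧ wf (wperm i z) = wf (sa i)) ∨
      (wf z = -wf (sa i) ∧ wf (wperm i z) = -wf (sb i)) ∨
      (wf z = -wf (sb i) ∧ wf (wperm i z) = -wf (sa i)) ∨
      (wf (wperm i z) = wf z ∧ wf z ≠ wf (sa i) ∧ wf z ≠ wf (sb i) ∧ wf z ≠ -wf (sa i) ∧
        wf z ≠ -wf (sb i)) := by
    intro z
    by_cases h1 : z = sa i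
    · exact Or.inl ⟨by rw [h1], by rw [h1, wperm_apply, pairFun_left]⟩
    by_cases h2 : z = sb i
    · exact Or.inr (Or.inl ⟨by rw [h2], by rw [h2, wperm_apply, pairFun_right]⟩)
    by_cases h3 : z = (sa i).swap
    · exact Or.inr (Or.inr (Or.inl ⟨by rw [h3, wf_swap],
        by rw [h3, wperm_swap, wf_swap, wperm_apply, pairFun_left]⟩))
    by_cases h4 : z = (sb i).swap
    · exact Or.inr (Or.inr (Or.inr (Or.inl ⟨by rw [h4, wf_swap],
        by rw [h4, wperm_swap, wf_swap, wperm_apply, pairFun_right]⟩)))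
    refine Or.inr (Or.inr (Or.inr (Or.inr ⟨by rw [wperm_apply, pairFun_of_ne h1 h2 h3 h4],
      fun e => h1 (wf_injective e), fun e => h2 (wf_injective e),
      fun e => h3 (wf_injective (by rw [e, wf_swap])),
      fun e => h4 (wf_injective (by rw [e, wf_swap]))⟩)))
  have := wf_odd x
  have := wf_odd y
  have := wf_odd (sa i)
  rcases cases5 x with cx | cx | cx | cx | cx <;> rcases cases5 y with cy | cy | cy | cy | cy <;>
    omega

/-- The Weyl representative of a fundamental reflection. -/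
def spN (i : Fin m) : Matrix.symplecticGroup (Fin m) F := rootN (sa i) (sb i) (sa_ne_sb i) 1

theorem mono_spN (i : Fin m) : Mono (wperm i) (spN i : Matrix.symplecticGroup (Fin m) F) :=
  mono_rootN _ _ _ one_ne_zero

variable (m F) in
/-- The diagonal torus. -/
def spT : Subgroup (Matrix.symplecticGroup (Fin m) F) where
  carrier := {g | Mono 1 g}
  one_mem' := mono_one
  mul_mem' hg hh := by simpa using hg.mul hh
  inv_mem' hg := by simpa using hg.inv

theorem mem_spT {g : Matrix.symplecticGroup (Fin m) F} : g ∈ spT m F ↔ Mono 1 g := Iff.rfl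

section Fin

variable [Finite F]

theorem Lev_le_span :
    (Lev wf 0 : Subgroup (Matrix.symplecticGroup (Fin m) F)) ≤
      ⨆ s ∈ {s : Root m | 0 < htw s.1}, rootU s := fun g hg =>
  peel (4 * m) 0 (by omega) g hg
    (fun x y h _ hl => le_biSup (fun s => (rootU s : Subgroup (Matrix.symplecticGroup (Fin m) F)))
      (show root x y h ∈ {s : Root m | 0 < htw s.1} from by
        show 0 < htw (root x y h).1
        rw [root_val]; omega))
    (fun x y h hl => le_biSup (fun s => (rootU s : Subgroup (Matrix.symplecticGroup (Fin m) F)))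
      (show root x y h ∈ {s : Root m | 0 < htw s.1} from by
        show 0 < htw (root x y h).1
        rw [root_val]; omega))

theorem span_le_Lev :
    (⨆ s ∈ {s : Root m | 0 < htw s.1}, rootU s) ≤
      (Lev wf 0 : Subgroup (Matrix.symplecticGroup (Fin m) F)) :=
  iSup₂_le fun _ hs => rootU_le_Lev hs

theorem span_neg_le_Lev :
    (⨆ s ∈ {s : Root m | ¬ 0 < htw s.1}, rootU s) ≤
      (Lev (fun x => -wf x) 0 : Subgroup (Matrix.symplecticGroup (Fin m) F)) :=
  iSup₂_le fun s hs => rootU_le_Lev_neg (lt_of_le_of_ne (not_lt.1 hs) (htw_ne_zero s))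

theorem diag_apply_Lev {w : Ix m → ℤ} {g : Matrix.symplecticGroup (Fin m) F} (hg : g ∈ Lev w 0)
    {x y : Ix m} (h : ¬ 0 < w x - w y) : dev g x y = 0 := by
  by_contra hne
  exact h (hg x y hne)

theorem tri_mem_sup {g : Matrix.symplecticGroup (Fin m) F}
    (hg : g ∈ (Lev wf 0 : Subgroup (Matrix.symplecticGroup (Fin m) F)) ⊔ spT m F) :
    ∀ x y, wf x < wf y → g.1 x y = 0 := by
  let M : Submonoid (Matrix.symplecticGroup (Fin m) F) :=
    { carrier := {g | ∀ x y, wf x < wf y → g.1 x y = 0}
      one_mem' := fun x y h => Matrix.one_apply_ne fun e => h.ne (congrArg wf e)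
      mul_mem' := fun {g h} hg hh x y hxy => by
        rw [Submonoid.coe_mul, Matrix.mul_apply]
        refine Finset.sum_eq_zero fun z _ => ?_
        rcases lt_or_ge (wf x) (wf z) with hz | hz
        · rw [hg x z hz, zero_mul]
        · rw [hh z y (lt_of_le_of_lt hz hxy), mul_zero] }
  have hle : (Lev wf 0 : Subgroup (Matrix.symplecticGroup (Fin m) F)) ⊔ spT m F ≤
      Cfsg.Agent.Linear.subgroupOfSubmonoidFinite M := by
    refine sup_le (fun u hu x y hxy => ?_) (fun u hu x y hxy => ?_)
    · have h1 := diag_apply_Lev hu (x := x) (y := y) (by omega)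
      rwa [dev, Matrix.sub_apply, Matrix.one_apply_ne (fun e => hxy.ne (congrArg wf e)),
        sub_zero] at h1
    · by_contra hne
      exact hxy.ne (congrArg wf (hu x y hne))
  exact hle hg

theorem eq_one_of_tri_lev {g : Matrix.symplecticGroup (Fin m) F}
    (h1 : ∀ x y, wf x < wf y → g.1 x y = 0) (h2 : g ∈ Lev (fun x => -wf x) 0) : g = 1 := by
  refine Subtype.ext (sub_eq_zero.1 ?_)
  ext x y
  by_contra hne
  have hlt := h2 x y hne
  have hxy : x ≠ y := fun e => by rw [e] at hlt; simp at hlt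
  refine hne ?_
  rw [Matrix.sub_apply, h1 x y (by simp only at hlt; omega), OneMemClass.coe_one,
    Matrix.one_apply_ne hxy, sub_zero]
  rfl

theorem Lev_inf_spT :
    (Lev wf 0 : Subgroup (Matrix.symplecticGroup (Fin m) F)) ⊓ spT m F = ⊥ := by
  rw [eq_bot_iff]
  rintro g ⟨hg, hT⟩
  refine Subgroup.mem_bot.2 (Subtype.ext (sub_eq_zero.1 ?_))
  ext x y
  by_contra hne
  have hlt := hg x y hne
  have hxy : x ≠ y := fun e => by rw [e] at hlt; simp at hlt
  refine hne ?_
  have : g.1 x y = 0 := by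
    by_contra h
    exact hxy (hT x y h)
  rw [Matrix.sub_apply, this, OneMemClass.coe_one, Matrix.one_apply_ne hxy, sub_zero]
  rfl

theorem conj_mem_Udel (i : Fin m) {x : Matrix.symplecticGroup (Fin m) F}
    (hx : x ∈ rootU (simpleRoot i)) (r : Root m) (hr : 0 < htw r.1) (hne : r ≠ simpleRoot i)
    {y : Matrix.symplecticGroup (Fin m) F} (hy : y ∈ rootU r) :
    x * y * x⁻¹ ∈ ⨆ s ∈ {s : Root m | 0 < htw s.1 ∧ s ≠ simpleRoot i}, rootU s := by
  have hab := wf_sa_sub_sb i
  have hxL : x ∈ Lev wf 0 := rootU_le_Lev (by rw [simpleRoot, root_val, hab]; norm_num) hx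
  have hyL : y ∈ Lev wf 0 := rootU_le_Lev hr hy
  set g := x * y * x⁻¹ with hg
  have hgL : g ∈ Lev wf 0 := mul_mem (mul_mem hxL hyL) (inv_mem hxL)
  have hadd : ∀ u ∈ Lev wf 0, ∀ v ∈ Lev wf 0,
      dev (u * v : Matrix.symplecticGroup (Fin m) F) (sa i) (sb i) =
        dev u (sa i) (sb i) + dev v (sa i) (sb i) := fun u hu v hv =>
    dev_mul_apply hu hv fun z ⟨h1, h2⟩ => by
      have := wf_odd z
      have := wf_odd (sa i)
      omega
  have hg0 : dev g (sa i) (sb i) = 0 := by
    have h0 : dev y (sa i) (sb i) = 0 := by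
      by_contra h
      exact hne (Subtype.ext (hy _ _ h).symm)
    have h1 := hadd x hxL x⁻¹ (inv_mem hxL)
    rw [mul_inv_cancel, show dev (1 : Matrix.symplecticGroup (Fin m) F) = 0 by simp [dev],
      Matrix.zero_apply] at h1
    rw [hg, hadd _ (mul_mem hxL hyL) _ (inv_mem hxL), hadd x hxL y hyL, h0, add_zero, ← h1]
  have hg1 : g ∈ Lev wf 1 := fun u v h => by
    have := hgL u v h
    have := wf_odd u
    have := wf_odd v
    omega
  refine peel (4 * m) 1 (by omega) g hg1 (fun u v huv hne' hl => ?_) (fun u v huv hl => ?_)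
  · refine le_biSup (fun s => (rootU s : Subgroup (Matrix.symplecticGroup (Fin m) F)))
      (show root u v huv ∈ _ from ⟨by rw [root_val]; omega, fun e => hne' ?_⟩)
    rcases wt_sub_eq (sa_ne_sb i) (congrArg Subtype.val e).symm with ⟨rfl, rfl⟩ | ⟨rfl, rfl⟩
    · exact hg0
    · have hrel : dev g (sb i).swap (sa i).swap =
          -(cf (sa i) * cf (sb i) * dev g (sa i) (sb i)) := by
        refine sp_rel g fun z => ?_
        by_contra hc
        have a1 := hg1 z _ (left_ne_zero_of_mul hc)
        have a2 := hg1 z.swap _ (right_ne_zero_of_mul hc)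
        rw [wf_swap] at a1 a2
        omega
      rw [hrel, hg0, mul_zero, neg_zero]
  · refine le_biSup (fun s => (rootU s : Subgroup (Matrix.symplecticGroup (Fin m) F)))
      (show root u v huv ∈ _ from ⟨by rw [root_val]; omega, fun e => ?_⟩)
    have := congrArg (fun s : Root m => htw s.1) e
    simp only [simpleRoot, root_val] at this
    omega

omit [Finite F] in
theorem spN_mem (i : Fin m) :
    (spN i : Matrix.symplecticGroup (Fin m) F) ∈
      rootU (simpleRoot i) ⊔ rootU (simpleRoot i).neg ⊔ spT m F := by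
  have h1 : rootX (sa i) (sb i) (sa_ne_sb i) (1 : F) ∈ rootU (simpleRoot i) := rootX_mem _ _ _ _
  have h2 : rootX (sb i) (sa i) (sa_ne_sb i).symm (-(1 : F)⁻¹) ∈ rootU (simpleRoot i).neg := by
    rw [simpleRoot, root_neg]
    exact rootX_mem _ _ _ _
  exact mul_mem (mul_mem (Subgroup.mem_sup_left (Subgroup.mem_sup_left h1))
    (Subgroup.mem_sup_left (Subgroup.mem_sup_right h2)))
    (Subgroup.mem_sup_left (Subgroup.mem_sup_left h1))

variable (m F) in
/-- The root group data of `Sp_{2m}(F)`. -/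
def spRD : RGD.RootData (Matrix.symplecticGroup (Fin m) F) (Root m) (Fin m) where
  U := rootU
  H := spT m F
  n := spN
  simple := simpleRoot
  pos r := 0 < htw r.1
  neg := Root.neg
  w := wRoot
  neg_neg r := Subtype.ext (neg_neg r.1)
  pos_neg r := by
    show 0 < htw (-r.1) ↔ ¬ 0 < htw r.1
    have := htw_ne_zero r
    rw [map_neg]
    omega
  pos_simple i := by
    show 0 < htw (simpleRoot i).1
    rw [simpleRoot, root_val, wf_sa_sub_sb]
    norm_num
  simple_inj := simpleRoot_injective
  w_simple i := by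
    rw [simpleRoot, wRoot_root, root_neg]
    refine Subtype.ext ?_
    show wt (wperm i (sa i)) - wt (wperm i (sb i)) = wt (sb i) - wt (sa i)
    rw [wperm_apply, wperm_apply, pairFun_left, pairFun_right]
  w_pos := wRoot_pos
  w_neg i r := Subtype.ext (map_neg _ _)
  w_w i r := by
    obtain ⟨a, b, hab, rfl⟩ := r.exists_rep
    rw [wRoot_root, wRoot_root]
    exact Subtype.ext (by simp only [root, wperm_wperm])
  H_conj_U h hh r x hx := by
    have := Mono.conj_supp (π := 1) (fun _ => rfl) hh hx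
    rwa [wact_one] at this
  n_conj_U i r x hx := Mono.conj_supp (wperm_swap i) (mono_spN i) hx
  n_conj_H i h hh := by
    have := ((mono_spN (F := F) i).mul hh).mul (mono_spN i).inv
    rwa [mul_one, mul_inv_cancel] at this
  n_sq i := by
    have := (mono_spN (F := F) i).mul (mono_spN i)
    rwa [wperm_mul_self] at this
  n_mem := spN_mem
  U_conj i x hx r hr hne y hy := conj_mem_Udel i hx r hr hne hy
  rank_one i y hy hy1 := by
    rw [simpleRoot, root_neg] at hy
    have hy' := eq_rootX _ hy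
    set t := dev y (sb i) (sa i) with ht
    have ht0 : t ≠ 0 := fun e => hy1 (by
      rw [hy', e]
      refine Subtype.ext ?_
      show 1 + rootMat (sb i) (sa i) 0 = 1
      rw [add_eq_left]
      ext a b
      simp [rootMat])
    set u := -t⁻¹ with hu
    have hu0 : u ≠ 0 := by rw [hu]; simp [ht0]
    set X := rootX (sa i) (sb i) (sa_ne_sb i) u with hX
    have hXU : X ∈ rootU (simpleRoot i) := rootX_mem _ _ _ _
    have hh : rootN (sa i) (sb i) (sa_ne_sb i) u * (spN i)⁻¹ ∈ spT m F := by
      have := (mono_rootN (sa i) (sb i) (sa_ne_sb i) hu0).mul (mono_spN (F := F) i).inv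
      rwa [show (pairFun_invol (sa i) (sb i)).toPerm = wperm i from rfl, mul_inv_cancel] at this
    refine ⟨X⁻¹, inv_mem hXU, _, hh, X⁻¹, inv_mem hXU, ?_⟩
    have hrootN : rootN (sa i) (sb i) (sa_ne_sb i) u = X * y * X := by
      rw [hy', rootN, hX, hu, inv_neg, inv_inv, neg_neg]
    rw [hrootN]
    group
  U_ne_bot r := by
    obtain ⟨a, b, hab, rfl⟩ := r.exists_rep
    exact fun h => rootX_ne_one a b hab one_ne_zero
      (Subgroup.mem_bot.1 (h ▸ rootX_mem a b hab (1 : F)))
  B_inf_V := by
    rw [eq_bot_iff]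
    rintro g ⟨hB, hV⟩
    exact Subgroup.mem_bot.2
      (eq_one_of_tri_lev (tri_mem_sup (sup_le_sup_right span_le_Lev _ hB)) (span_neg_le_Lev hV))
  U_inf_H := by
    rw [eq_bot_iff, ← Lev_inf_spT]
    exact inf_le_inf_right _ span_le_Lev

theorem spRD_Upos : (spRD m F).Upos = Lev wf 0 := le_antisymm span_le_Lev Lev_le_span

/-! ### The longest word -/

/-- The linear action of a word. -/
def wordAct : List (Fin m) → ((Fin m → ℤ) →+ (Fin m → ℤ))
  | [] => AddMonoidHom.id _
  | i :: l => (wact (wperm i)).comp (wordAct l)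

theorem ww_val (l : List (Fin m)) (r : Root m) :
    ((spRD m F).ww l r).1 = wordAct l r.1 := by
  induction l with
  | nil => rfl
  | cons i l ih =>
    rw [RGD.RootData.ww_cons]
    show wact (wperm i) ((spRD m F).ww l r).1 = wact (wperm i) (wordAct l r.1)
    rw [ih]

theorem exists_longWord :
    ∃ l : List (Fin m), ∀ r, (spRD m F).pos r → ¬ (spRD m F).pos ((spRD m F).ww l r) := by
  obtain ⟨l, hl⟩ := (spRD m F).exists_long
  refine ⟨l, ?_⟩
  set W : Ix m → ℤ := fun x => htw (wordAct l (wt x)) with hW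
  have hroot : ∀ a b (h : a ≠ b), htw ((spRD m F).ww l (root a b h)).1 = W a - W b := by
    intro a b h
    rw [ww_val]
    show htw (wordAct l (wt a - wt b)) = _
    rw [map_sub, map_sub]
  have hstep : ∀ i, W (sa i) < W (sb i) := by
    intro i
    have h1 : ¬ 0 < htw ((spRD m F).ww l (root (sa i) (sb i) (sa_ne_sb i))).1 := hl i
    have h2 := htw_ne_zero ((spRD m F).ww l (root (sa i) (sb i) (sa_ne_sb i)))
    rw [hroot] at h1 h2
    omega
  have hswap : ∀ x, W x.swap = -W x := fun x => by
    show htw (wordAct l (wt x.swap)) = -htw (wordAct l (wt x))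
    rw [wt_swap, map_neg, map_neg]
  have hinl : ∀ (k : ℕ) (i j : Fin m), i.1 + k = j.1 → k ≠ 0 → W (.inl i) < W (.inl j) := by
    intro k
    induction k with
    | zero => intro _ _ _ h; exact absurd rfl h
    | succ k ih =>
      intro i j hij _
      have h1 := hstep i
      rw [sa, sb, dif_pos (by have := j.isLt; omega)] at h1
      rcases Nat.eq_zero_or_pos k with rfl | hk
      · convert h1 using 3
        exact Fin.ext (by simpa using hij.symm)
      · exact h1.trans (ih _ j (by simp only; omega) hk.ne')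
  have hneg : ∀ i : Fin m, W (.inl i) < 0 := by
    intro i
    have hi := i.isLt
    set last : Fin m := ⟨m - 1, by omega⟩ with hlast
    have h1 := hstep last
    rw [sa, sb, dif_neg (by simp [hlast]; omega), show (Sum.inr last : Ix m) = (Sum.inl last).swap
      from rfl, hswap] at h1
    rcases eq_or_ne i last with heq | hne
    · rw [heq]; omega
    · have := hinl (m - 1 - i.1) i last (by simp [hlast]; omega)
        (fun e => hne (Fin.ext (by simp [hlast]; omega)))
      omega
  intro r
  obtain ⟨a, b, hab, rfl⟩ := r.exists_rep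
  intro hr
  have hr' : 0 < htw (root a b hab).1 := hr
  rw [root_val] at hr'
  show ¬ 0 < htw ((spRD m F).ww l (root a b hab)).1
  rw [hroot]
  rcases a with i | i <;> rcases b with j | j <;> simp only [wf_inl, wf_inr] at hr'
  · have := hinl (j.1 - i.1) i j (by omega) (by omega)
    omega
  · have := hneg i
    have := hneg j
    have := hswap (.inl j)
    simp only [Sum.swap_inl] at this
    omega
  · have := i.isLt
    have := j.isLt
    omega
  · have := hinl (i.1 - j.1) j i (by omega) (by omega)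
    have e1 := hswap (.inl i)
    have e2 := hswap (.inl j)
    simp only [Sum.swap_inl] at e1 e2
    omega

/-! ### Generation -/

theorem rootU_le_G (r : Root m) : rootU r ≤ (spRD m F).G := by
  obtain ⟨l, hl⟩ := exists_longWord (m := m) (F := F)
  have hUG : (spRD m F).Upos ≤ (spRD m F).G :=
    (spRD m F).Upos_le_B.trans (spRD m F).B_le_G
  by_cases h : (spRD m F).pos r
  · exact ((spRD m F).U_le_Upos h).trans hUG
  · intro x hx
    have hx' : x ∈ (spRD m F).Vneg := (spRD m F).U_le_Vneg h hx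
    rw [← (spRD m F).map_conj_long hl] at hx'
    obtain ⟨u, hu, rfl⟩ := hx'
    have hn : (spRD m F).nw l ∈ (spRD m F).G := (spRD m F).N_le_G ((spRD m F).nw_mem_N l)
    exact mul_mem (mul_mem hn (hUG hu)) (inv_mem hn)

omit [Finite F] in
theorem rootX_mulVec_apply {a b : Ix m} (h : a ≠ b) (t : F) (v : Ix m → F) (x : Ix m) :
    (x = a → ((rootX a b h t).1 *ᵥ v) x = v x + t * v b) ∧
      (x ≠ a → x ≠ b.swap → ((rootX a b h t).1 *ᵥ v) x = v x) := by
  have e : (rootX a b h t).1 *ᵥ v = v + rootMat a b t *ᵥ v := by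
    show (1 + rootMat a b t) *ᵥ v = _
    rw [Matrix.add_mulVec, Matrix.one_mulVec]
  constructor
  · rintro rfl
    rw [e, Pi.add_apply, Matrix.mulVec, dotProduct, Finset.sum_eq_single b, rootMat_apply]
    · intro z _ hz
      have : rootMat x b t x z = 0 := by
        simp only [rootMat, Matrix.of_apply, hz, and_false, if_false]
        rw [if_neg]
        rintro ⟨h1, h2⟩
        exact hz (by rw [h2, h1, Sum.swap_swap])
      rw [this, zero_mul]
    · exact fun h => absurd (Finset.mem_univ _) h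
  · intro h1 h2
    rw [e, Pi.add_apply, Matrix.mulVec, dotProduct, Finset.sum_eq_zero, add_zero]
    intro z _
    simp [rootMat, h1, h2]

omit [Finite F] in
theorem exists_smul_eq_single [NeZero m] {K : Subgroup (Matrix.symplecticGroup (Fin m) F)}
    (hmem : ∀ a b (h : a ≠ b) (t : F), rootX a b h t ∈ K) {v : Ix m → F} (hv : v ≠ 0) :
    ∃ g ∈ K, ∃ c : F, g.1 *ᵥ v = Pi.single (Sum.inl (0 : Fin m)) c := by
  classical
  set a₀ : Ix m := Sum.inl (0 : Fin m) with ha₀
  have hmv : ∀ (g h : Matrix.symplecticGroup (Fin m) F) (w : Ix m → F),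
      (g * h).1 *ᵥ w = g.1 *ᵥ (h.1 *ᵥ w) := fun g h w => by
    rw [Submonoid.coe_mul, Matrix.mulVec_mulVec]
  obtain ⟨g₁, hg₁, hg₁v⟩ : ∃ g ∈ K, (g.1 *ᵥ v) a₀ ≠ 0 := by
    by_cases h0 : v a₀ = 0
    · obtain ⟨x, hx⟩ := Function.ne_iff.1 hv
      have hne : a₀ ≠ x := fun e => hx (by rw [← e, h0]; rfl)
      refine ⟨rootX a₀ x hne (v x)⁻¹, hmem _ _ _ _, ?_⟩
      rw [(rootX_mulVec_apply hne _ v a₀).1 rfl, h0, zero_add,
        inv_mul_cancel₀ (by simpa using hx)]
      exact one_ne_zero
    · exact ⟨1, one_mem _, by simpa using h0⟩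
  have key : ∀ s : Finset (Ix m), a₀ ∉ s → a₀.swap ∉ s → ∃ g ∈ K,
      (g.1 *ᵥ v) a₀ ≠ 0 ∧ ∀ z ∈ s, (g.1 *ᵥ v) z = 0 := by
    intro s
    induction s using Finset.induction_on with
    | empty => exact fun _ _ => ⟨g₁, hg₁, hg₁v, by simp⟩
    | @insert z s hzs ih =>
      intro h1 h2
      obtain ⟨g, hg, hga, hgs⟩ := ih (fun h => h1 (Finset.mem_insert_of_mem h))
        (fun h => h2 (Finset.mem_insert_of_mem h))
      have hz1 : z ≠ a₀ := fun e => h1 (e ▸ Finset.mem_insert_self _ _)
      have hz2 : z ≠ a₀.swap := fun e => h2 (e ▸ Finset.mem_insert_self _ _)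
      set w := g.1 *ᵥ v with hw
      set t := -w z / w a₀ with ht
      refine ⟨rootX z a₀ hz1 t * g, mul_mem (hmem _ _ _ _) hg, ?_, ?_⟩
      · rw [hmv, ← hw, (rootX_mulVec_apply hz1 t w a₀).2 hz1.symm (self_ne_swap a₀)]
        exact hga
      · intro y hy
        rw [hmv, ← hw]
        rcases Finset.mem_insert.1 hy with rfl | hy'
        · rw [(rootX_mulVec_apply hz1 t w y).1 rfl, ht, div_mul_cancel₀ _ hga, add_neg_cancel]
        · rw [(rootX_mulVec_apply hz1 t w y).2 (fun e => hzs (e ▸ hy'))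
            (fun e => h2 (Finset.mem_insert_of_mem (e ▸ hy')))]
          exact hgs y hy'
  obtain ⟨g, hg, hga, hgz⟩ := key ((Finset.univ.erase a₀).erase a₀.swap) (by simp) (by simp)
  set w := g.1 *ᵥ v with hw
  have hne : a₀.swap ≠ a₀ := swap_ne_self a₀
  set t := -w a₀.swap / w a₀ with ht
  refine ⟨rootX a₀.swap a₀ hne t * g, mul_mem (hmem _ _ _ _) hg, w a₀, ?_⟩
  funext y
  rw [hmv, ← hw]
  by_cases h1 : y = a₀.swap
  · rw [(rootX_mulVec_apply hne t w y).1 h1, h1, ht, div_mul_cancel₀ _ hga, add_neg_cancel,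
      Pi.single_eq_of_ne hne]
  rw [(rootX_mulVec_apply hne t w y).2 h1 h1]
  by_cases h2 : y = a₀
  · rw [h2, Pi.single_eq_same]
  · rw [Pi.single_eq_of_ne h2]
    exact hgz y (by simp [h1, h2])

/-- A group containing all root elements is everything. -/
theorem eq_top_of_rootX_mem [NeZero m] {K : Subgroup (Matrix.symplecticGroup (Fin m) F)}
    (hmem : ∀ a b (h : a ≠ b) (t : F), rootX a b h t ∈ K) : K = ⊤ := by
  set e := Linear.spEquiv m F with he
  suffices h : ∀ (v : Ix m → F) (c : F), e.symm (Linear.spTv v c) ∈ K by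
    rw [eq_top_iff]
    intro x _
    have hx : e x ∈ Subgroup.closure (Linear.spTvSet (⊤ : Submodule F (Ix m → F))) := by
      rw [Linear.closure_spTvSet]; trivial
    have hle : Subgroup.closure (Linear.spTvSet (⊤ : Submodule F (Ix m → F))) ≤
        K.comap e.symm.toMonoidHom := by
      rw [Subgroup.closure_le]
      rintro _ ⟨v, -, c, rfl⟩
      exact h v c
    simpa using hle hx
  have hbase : ∀ (c : F),
      e.symm (Linear.spTv (Pi.single (Sum.inl (0 : Fin m)) 1) c) ∈ K := by
    intro c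
    suffices hU : e.symm (Linear.spTv (Pi.single (Sum.inl (0 : Fin m)) 1) c) ∈
        rootU (root (Sum.inl 0) (Sum.inr 0) (by simp)) by
      rw [eq_rootX (by simp) hU]
      exact hmem _ _ _ _
    rw [Linear.spTv, MulEquiv.symm_apply_apply, mem_rootU]
    intro x y hne
    show wt x - wt y = wt (Sum.inl 0) - wt (Sum.inr 0)
    simp only [dev, Cfsg.sympTransvection, add_sub_cancel_left, Matrix.smul_apply,
      Matrix.vecMulVec_apply, smul_eq_mul] at hne
    have h1 := left_ne_zero_of_mul (right_ne_zero_of_mul hne)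
    have h2 := right_ne_zero_of_mul (right_ne_zero_of_mul hne)
    obtain rfl : x = Sum.inl 0 := by
      by_contra h
      exact h1 (Pi.single_eq_of_ne h _)
    rw [Matrix.mulVec_single_one, Matrix.col_apply, J_eq] at h2
    obtain rfl : y = Sum.inr 0 := by
      by_contra h
      refine h2 (if_neg fun e => h ?_)
      rw [← Sum.swap_swap y, ← e]; rfl
    rfl
  intro v c
  by_cases hv : v = 0
  · rw [hv, Linear.spTv_zero_vec, map_one]; exact one_mem _
  obtain ⟨g, hg, lam, hgv⟩ := exists_smul_eq_single hmem hv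
  have h1 : e g * Linear.spTv v c * (e g)⁻¹ =
      Linear.spTv (Pi.single (Sum.inl (0 : Fin m)) 1) (lam ^ 2 * c) := by
    rw [Linear.spTv_conj, Linear.spEquiv_smul, hgv, ← Linear.spTv_smul_vec, ← Pi.single_smul,
      smul_eq_mul, mul_one]
  have h2 : e.symm (Linear.spTv v c) =
      g⁻¹ * e.symm (Linear.spTv (Pi.single (Sum.inl (0 : Fin m)) 1) (lam ^ 2 * c)) * g := by
    rw [← h1, map_mul, map_mul, map_inv, MulEquiv.symm_apply_apply]
    group
  rw [h2]
  exact mul_mem (mul_mem (inv_mem hg) (hbase _)) hg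

theorem spRD_G [NeZero m] : (spRD m F).G = ⊤ :=
  eq_top_of_rootX_mem fun a b h t => rootU_le_G _ (rootX_mem a b h t)

/-! ### `Upos` is a Sylow subgroup -/

theorem isPGroup_Lev (p : ℕ) [Fact p.Prime] [CharP F p] [NeZero m] :
    IsPGroup p (Lev wf 0 : Subgroup (Matrix.symplecticGroup (Fin m) F)) := by
  rintro ⟨g, hg⟩
  have key : ∀ (n : ℕ) (x y : Ix m), ((dev g) ^ n) x y ≠ 0 → (n : ℤ) ≤ wf x - wf y := by
    intro n
    induction n with
    | zero =>
      intro x y h
      rw [pow_zero] at h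
      obtain rfl : x = y := by
        by_contra hne
        exact h (Matrix.one_apply_ne hne)
      simp
    | succ n ih =>
      intro x y h
      rw [pow_succ, Matrix.mul_apply] at h
      obtain ⟨z, -, hz⟩ := Finset.exists_ne_zero_of_sum_ne_zero h
      have := ih x z (left_ne_zero_of_mul hz)
      have := hg z y (right_ne_zero_of_mul hz)
      push_cast
      omega
  refine ⟨4 * m, Subtype.ext (Subtype.ext ?_)⟩
  have hp : (4 * m : ℕ) < p ^ (4 * m) := Nat.lt_pow_self (Fact.out : p.Prime).one_lt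
  have h0 : (dev g) ^ (p ^ (4 * m)) = 0 := by
    ext x y
    by_contra hne
    have := key _ x y hne
    have := wf_bound x
    have := wf_bound y
    omega
  show (g ^ (p ^ (4 * m))).1 = 1
  rw [SubmonoidClass.coe_pow, show g.1 = 1 + dev g by simp [dev],
    add_pow_char_pow_of_commute _ _ (Commute.one_left _), one_pow, h0, add_zero]

theorem mem_Lev_of_mem_spBorelU {g : Matrix.symplecticGroup (Fin m) F}
    (hg : Linear.spEquiv m F g ∈ Linear.spBorelU m F) : g ∈ Lev wf 0 := by
  set G := Linear.spEquiv m F g with hG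
  obtain ⟨hC, hA⟩ := Linear.mem_spBorelU.1 hg
  obtain ⟨-, -, h3⟩ := Linear.spGL_blk_rel G
  rw [hC, Matrix.transpose_zero, Matrix.zero_mul, sub_zero] at h3
  have hD : ∀ (n : ℕ) (i j : Fin m), i.1 = n → i ≤ j →
      Linear.blkD G i j = (1 : Matrix (Fin m) (Fin m) F) i j := by
    intro n
    induction n using Nat.strong_induction_on with
    | _ n ih =>
      intro i j hin hij
      have h := congrFun (congrFun h3 i) j
      rw [Matrix.mul_apply, Finset.sum_eq_single i] at h
      · rwa [Matrix.transpose_apply, hA i i le_rfl, if_pos rfl, one_mul] at h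
      · intro k _ hk
        rcases lt_or_gt_of_ne hk with hlt | hgt
        · rw [ih k.1 (hin ▸ hlt) k j rfl (hlt.le.trans hij), Matrix.one_apply_ne
            (hlt.trans_le hij).ne, mul_zero]
        · rw [Matrix.transpose_apply, hA k i hgt.le, if_neg hgt.ne', zero_mul]
      · exact fun h => absurd (Finset.mem_univ _) h
  intro x y hne
  rcases x with i | i <;> rcases y with j | j <;> simp only [wf_inl, wf_inr] <;>
    have hi := i.isLt <;> have hj := j.isLt
  · by_contra hlt
    refine hne ?_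
    have h := hA i j (by rw [Fin.le_def]; omega)
    change g.1 (.inl i) (.inl j) = _ at h
    rw [dev, Matrix.sub_apply, h, Matrix.one_apply]
    simp
  · omega
  · exfalso
    refine hne ?_
    have h := congrFun (congrFun hC i) j
    change g.1 (.inr i) (.inl j) = _ at h
    rw [dev, Matrix.sub_apply, h, Matrix.one_apply_ne (by simp)]
    simp
  · by_contra hlt
    refine hne ?_
    have h := hD i.1 i j rfl (by rw [Fin.le_def]; omega)
    change g.1 (.inr i) (.inr j) = _ at h
    rw [dev, Matrix.sub_apply, h, Matrix.one_apply, Matrix.one_apply]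
    simp

theorem lev_maximal (p : ℕ) [Fact p.Prime] [CharP F p]
    {P : Subgroup (Matrix.symplecticGroup (Fin m) F)} (hP : IsPGroup p P) (hle : Lev wf 0 ≤ P) :
    P = Lev wf 0 := by
  refine le_antisymm (fun x hx => ?_) hle
  set e := Linear.spEquiv m F with he
  have h1 : P.map e.toMonoidHom = Linear.spBorelU m F := by
    refine Linear.spBorelU_maximal_pGroup p (hP.map _) fun y hy => ?_
    exact ⟨e.symm y, hle (mem_Lev_of_mem_spBorelU (by rw [e.apply_symm_apply]; exact hy)),
      e.apply_symm_apply y⟩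
  refine mem_Lev_of_mem_spBorelU ?_
  rw [← h1]
  exact ⟨x, hx, rfl⟩

/-! ### The Steinberg character -/

omit [Finite F] in
theorem center_le_spT :
    Subgroup.center (Matrix.symplecticGroup (Fin m) F) ≤ spT m F := by
  intro z hz x y hne
  by_contra hxy
  rcases center_Sp.1 hz with h | h <;> rw [h] at hne
  · exact hne (Matrix.one_apply_ne hxy)
  · exact hne (by rw [Matrix.neg_apply, Matrix.one_apply_ne (show x ≠ y from hxy), neg_zero])

theorem exists_steinberg_PSp (p : ℕ) [Fact p.Prime] [CharP F p] [NeZero m] :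
    ∃ χ : Cfsg.PSp m F → ℂ, Cfsg.IsIrrCharacter (Cfsg.PSp m F) χ ∧
      ∀ P : Sylow p (Cfsg.PSp m F), χ 1 = Nat.card P ∧
        ∀ x : Cfsg.PSp m F, x ∈ P → x ≠ 1 → χ x = 0 := by
  classical
  set R := spRD m F with hR
  obtain ⟨l, hl⟩ := exists_longWord (m := m) (F := F)
  obtain ⟨hdeg, hvan⟩ := R.St_one_eq hl
  let e : Matrix.symplecticGroup (Fin m) F ≃* R.G :=
    ((MulEquiv.subgroupCongr (spRD_G (m := m) (F := F))).trans Subgroup.topEquiv).symm
  have hev : ∀ x, ((e x : R.G) : Matrix.symplecticGroup (Fin m) F) = x := fun x => rfl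
  set χ : Matrix.symplecticGroup (Fin m) F → ℂ := fun x => BN.St R.bnPair (e x) with hχ
  have hirr : Cfsg.IsIrrCharacter _ χ :=
    Char.IsIrrCharacter.comp_equiv (BN.isIrrCharacter_St R.bnPair) e
  have hcen : ∀ z ∈ Subgroup.center (Matrix.symplecticGroup (Fin m) F), χ z = χ 1 := by
    intro z hz
    simp only [hχ, BN.St, Cfsg.fixedPointCharacter]
    refine Finset.sum_congr rfl fun A _ => ?_
    congr 2
    refine Nat.card_congr (Equiv.subtypeEquivRight fun q => ?_)
    rw [map_one, MulAction.mem_fixedBy, MulAction.mem_fixedBy, one_smul]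
    refine iff_of_true ?_ rfl
    induction q using QuotientGroup.induction_on with
    | H g =>
      rw [MulAction.Quotient.smul_coe, smul_eq_mul, QuotientGroup.eq]
      have hzB : e z ∈ R.bnPair.B := R.H_le_B (center_le_spT hz)
      have : (e z * g)⁻¹ * g = (e z)⁻¹ := by
        have hc : e z * g = g * e z := by
          refine Subtype.ext ?_
          simp only [Subgroup.coe_mul, hev]
          exact (Subgroup.mem_center_iff.1 hz _).symm
        rw [hc]; group
      rw [this]
      exact Subgroup.mem_sup_left (inv_mem hzB)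
  obtain ⟨ψ, hψ⟩ := CentralChar.exists_deflation
    (Subgroup.center (Matrix.symplecticGroup (Fin m) F)) ⟨χ, hirr⟩ hcen
  refine ⟨ψ.1, ψ.2, fun P => ?_⟩
  let S₀ : Sylow p (Matrix.symplecticGroup (Fin m) F) :=
    { toSubgroup := Lev wf 0
      isPGroup' := isPGroup_Lev p
      is_maximal' := fun hP hle => lev_maximal p hP hle }
  set q : Matrix.symplecticGroup (Fin m) F →* Cfsg.PSp m F :=
    QuotientGroup.mk' (Subgroup.center (Matrix.symplecticGroup (Fin m) F)) with hq
  have hqs : Function.Surjective q := QuotientGroup.mk'_surjective _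
  obtain ⟨g, hg⟩ := MulAction.exists_smul_eq (Cfsg.PSp m F) (S₀.mapSurjective hqs) P
  subst hg
  have hP₀ : (MulAut.conj g • (S₀.mapSurjective hqs : Subgroup (Cfsg.PSp m F))) =
      ((g • S₀.mapSurjective hqs : Sylow p (Cfsg.PSp m F)) : Subgroup (Cfsg.PSp m F)) := rfl
  have hU : R.Upos = Lev wf 0 := spRD_Upos
  have hinj : Set.InjOn q (Lev wf 0 : Subgroup (Matrix.symplecticGroup (Fin m) F)) := by
    intro x hx y hy hxy
    have h1 : x⁻¹ * y ∈ (Lev wf 0 : Subgroup (Matrix.symplecticGroup (Fin m) F)) ⊓ spT m F :=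
      Subgroup.mem_inf.2 ⟨mul_mem (inv_mem (show x ∈ Lev wf 0 from hx)) (show y ∈ Lev wf 0 from hy), center_le_spT (QuotientGroup.eq.1 hxy)⟩
    rw [Lev_inf_spT, Subgroup.mem_bot] at h1
    exact inv_mul_eq_one.1 h1
  constructor
  · have h1 : ψ.1 1 = χ 1 := (hψ 1).symm
    rw [h1, hχ]
    simp only [map_one, hdeg, hU]
    congr 1
    rw [← hP₀, Nat.card_congr (Subgroup.equivSMul (MulAut.conj g) _).symm.toEquiv]
    exact (Nat.card_image_of_injOn hinj).symm
  · intro x hx hx1
    have hx' : (MulAut.conj g)⁻¹ • x ∈ (S₀.mapSurjective hqs : Subgroup (Cfsg.PSp m F)) :=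
      Subgroup.mem_pointwise_smul_iff_inv_smul_mem.1 hx
    rw [Sylow.coe_mapSurjective] at hx'
    obtain ⟨u, hu, hqu⟩ := hx'
    obtain ⟨g₀, rfl⟩ := hqs g
    have hxe : x = q (g₀ * u * g₀⁻¹) := by
      rw [map_mul, map_mul, map_inv, hqu]
      simp [MulAut.smul_def, mul_assoc]
    rw [hxe]
    show ψ.1 ((g₀ * u * g₀⁻¹ : Matrix.symplecticGroup (Fin m) F) : Cfsg.PSp m F) = 0
    rw [← hψ]
    show χ (g₀ * u * g₀⁻¹) = 0
    have hu1 : u ≠ 1 := by
      rintro rfl
      exact hx1 (by rw [hxe]; simp)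
    rw [hχ]
    simp only [map_mul, map_inv]
    obtain ⟨n, ρ, -, hρ⟩ := BN.isIrrCharacter_St R.bnPair
    rw [← hρ, Representation.char_conj, hρ]
    refine hvan _ (by rw [hev, hU]; exact hu) ?_
    intro h
    exact hu1 (e.injective (h.trans (map_one e).symm))

end Fin

end Cfsg.Agent.GLOrder.SpRoot
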