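import Cfsg.Agent.EqLemmas
import Cfsg.Agent.Lib.Linear.SpBlocks
import Cfsg.Agent.Lib.GLOrder.Symplectic
import Mathlib.FieldTheory.Finite.Basic

/-!
# A class `C` of `PSp₄(F)` with `C C` containing every nontrivial element

`x = diag(l, l⁻ᵀ)` for `l` the companion matrix of an irreducible `X² - s X + d`, `d ≠ 1`, `s ≠ 0`.
Every noncentral `g` is, up to sign, conjugate to an element whose upper left block `A'` is a product
of two conjugates of `l`; then `g ∼ (v L₁) (L₂ u)` with `v L₁ ∼ L₁` and `L₂ u ∼ L₂`.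

* `exists_irreducible_coeffs`, `gl2_conj_companion`, `exists_two_factors`;
* `exists_good_conj` : the lower left block can be made invertible unless `g` is a signed transvection;
* `exists_thompson_PSp_four`.
-/

set_option autoImplicit false

open Matrix

namespace Cfsg.Agent.GLOrder.PSpFour

open Cfsg.Agent.Linear

variable {F : Type*} [Field F]

/-! ### `GL₂` -/

/-- An irreducible quadratic with nonzero linear term and constant term different from one. -/
theorem exists_irreducible_coeffs [Fintype F] (h3 : 3 ≤ Fintype.card F) :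
    ∃ s d : F, s ≠ 0 ∧ d ≠ 0 ∧ d ≠ 1 ∧ ∀ r, r * r - s * r + d ≠ 0 := by
  classical
  obtain ⟨d, hd⟩ : ∃ d : F, d ∉ ({0, 1} : Finset F) := by
    by_contra hc
    push Not at hc
    have : Fintype.card F ≤ 2 := by
      rw [← Finset.card_univ]
      exact (Finset.card_le_card fun x _ => hc x).trans Finset.card_le_two
    omega
  simp only [Finset.mem_insert, Finset.mem_singleton, not_or] at hd
  obtain ⟨hd0, hd1⟩ := hd
  by_contra hcon
  push Not at hcon
  set S : Finset F := Finset.univ.filter fun x => x ≠ 0 with hS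
  let φ : F → F := fun r => if r + d / r = 0 then 1 else r + d / r
  have hmaps : ∀ r ∈ S, φ r ∈ S := by
    intro r _
    simp only [hS, Finset.mem_filter, Finset.mem_univ, true_and, φ]
    split_ifs with h
    · exact one_ne_zero
    · exact h
  have hsurj : ∀ y ∈ S, ∃ r ∈ S, φ r = y := by
    intro y hy
    simp only [hS, Finset.mem_filter, Finset.mem_univ, true_and] at hy ⊢
    obtain ⟨r, hr⟩ := hcon y d hy hd0 hd1
    have hr0 : r ≠ 0 := fun e => hd0 (by rw [e] at hr; linear_combination hr)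
    have e : r + d / r = y := by field_simp; linear_combination hr
    exact ⟨r, hr0, by simp only [φ, e, if_neg hy]⟩
  have hinj := Finset.inj_on_of_surj_on_of_card_le (s := S) (t := S) (fun r _ => φ r) hmaps
    (fun y hy => by obtain ⟨r, hr, e⟩ := hsurj y hy; exact ⟨r, hr, e⟩) le_rfl
  have h1 : (1 : F) ∈ S := by simp [hS]
  have h2 : d ∈ S := by simp [hS, hd0]
  refine hd1 (hinj h2 h1 ?_)
  simp only [φ, div_self hd0, div_one, add_comm]

/-- The companion matrix. -/
def comp2 (s d : F) : Matrix (Fin 2) (Fin 2) F := !![0, -d; 1, s]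

theorem det_comp2 (s d : F) : (comp2 s d).det = d := by simp [comp2, Matrix.det_fin_two]

theorem trace_comp2 (s d : F) : (comp2 s d).trace = s := by simp [comp2, Matrix.trace_fin_two]

/-- A matrix with a cyclic first basis vector is similar to its companion matrix. -/
theorem gl2_conj_of_ne {A : Matrix (Fin 2) (Fin 2) F} (h : A 1 0 ≠ 0) :
    ∃ P : GL (Fin 2) F, A * P.1 = P.1 * comp2 A.trace A.det := by
  refine ⟨GeneralLinearGroup.mkOfDetNeZero !![1, A 0 0; 0, A 1 0] (by simp [Matrix.det_fin_two, h]),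
    ?_⟩
  show A * !![1, A 0 0; 0, A 1 0] = !![1, A 0 0; 0, A 1 0] * comp2 A.trace A.det
  ext i j
  fin_cases i <;> fin_cases j <;>
    simp [comp2, Matrix.mul_apply, Fin.sum_univ_two, Matrix.trace_fin_two, Matrix.det_fin_two] <;>
    ring

/-- A matrix with irreducible characteristic polynomial is similar to the companion matrix. -/
theorem gl2_conj_companion {s d : F} (hirr : ∀ r, r * r - s * r + d ≠ 0)
    {A : Matrix (Fin 2) (Fin 2) F} (ht : A.trace = s) (hd : A.det = d) :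
    ∃ P : GL (Fin 2) F, A * P.1 = P.1 * comp2 s d := by
  have h : A 1 0 ≠ 0 := by
    intro h
    refine hirr (A 0 0) ?_
    rw [← ht, ← hd, Matrix.trace_fin_two, Matrix.det_fin_two, h]
    ring
  obtain ⟨P, hP⟩ := gl2_conj_of_ne h
  exact ⟨P, by rwa [ht, hd] at hP⟩

/-- A nonscalar matrix is similar to its companion matrix. -/
theorem gl2_conj_nonscalar {A : Matrix (Fin 2) (Fin 2) F}
    (h : A 1 0 ≠ 0 ∨ A 0 1 ≠ 0 ∨ A 0 0 ≠ A 1 1) :
    ∃ P : GL (Fin 2) F, A * P.1 = P.1 * comp2 A.trace A.det := by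
  by_cases h10 : A 1 0 = 0
  swap
  · exact gl2_conj_of_ne h10
  obtain ⟨Q, hQ⟩ : ∃ Q : GL (Fin 2) F, ((Q⁻¹).1 * A * Q.1) 1 0 ≠ 0 := by
    by_cases h01 : A 0 1 = 0
    · refine ⟨GeneralLinearGroup.mkOfDetNeZero !![1, 0; 1, 1] (by simp [Matrix.det_fin_two]), ?_⟩
      have hne : A 0 0 ≠ A 1 1 := by tauto
      rw [Matrix.coe_units_inv]
      show ((!![1, 0; 1, 1] : Matrix (Fin 2) (Fin 2) F)⁻¹ * A *
        (!![1, 0; 1, 1] : Matrix (Fin 2) (Fin 2) F)) 1 0 ≠ 0
      rw [Matrix.inv_def, Matrix.adjugate_fin_two]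
      simp [Matrix.det_fin_two, Matrix.vecMul, Matrix.mul_apply, dotProduct, Fin.sum_univ_two, h10, h01]
      intro h'
      exact hne (by linear_combination -h')
    · refine ⟨GeneralLinearGroup.mkOfDetNeZero !![0, 1; 1, 0] (by simp [Matrix.det_fin_two]), ?_⟩
      rw [Matrix.coe_units_inv]
      show ((!![0, 1; 1, 0] : Matrix (Fin 2) (Fin 2) F)⁻¹ * A *
        (!![0, 1; 1, 0] : Matrix (Fin 2) (Fin 2) F)) 1 0 ≠ 0
      rw [Matrix.inv_def, Matrix.adjugate_fin_two]
      simp [Matrix.det_fin_two, Matrix.vecMul, Matrix.mul_apply, dotProduct, Fin.sum_univ_two, h01]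
  obtain ⟨P, hP⟩ := gl2_conj_of_ne hQ
  have e1 : ((Q⁻¹).1 * A * Q.1).trace = A.trace := by
    rw [Matrix.trace_mul_cycle, Units.mul_inv, one_mul]
  have e2 : ((Q⁻¹).1 * A * Q.1).det = A.det := by
    rw [Matrix.det_mul, Matrix.det_mul, mul_comm, ← mul_assoc, ← Matrix.det_mul, Units.mul_inv,
      Matrix.det_one, one_mul]
  rw [e1, e2] at hP
  refine ⟨Q * P, ?_⟩
  rw [Units.val_mul, mul_assoc, ← hP]
  simp only [← mul_assoc, Units.mul_inv, one_mul]

/-- A point on the conic of factorisations. -/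
theorem exists_conic_point [Fintype F] (s d τ : F) (hs : s ≠ 0) (hτ : τ ≠ 2) :
    ∃ x u : F, u * u + x * x + τ * x * u - s * (u + x) + d = 0 := by
  classical
  by_cases h2 : (2 : F) = 0
  · have hτ0 : τ ≠ 0 := fun e => hτ (e.trans h2.symm)
    obtain ⟨x, hx⟩ := FiniteField.isSquare_of_char_two
      (CharP.ringChar_of_prime_eq_zero Nat.prime_two (by exact_mod_cast h2)) (d / τ)
    refine ⟨x, x, ?_⟩
    rw [div_eq_iff hτ0] at hx
    linear_combination hx + (x * x - s * x + x * x * τ) * h2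
  · by_cases hτ2 : τ = -2
    · refine ⟨d / (2 * s), d / (2 * s), ?_⟩
      rw [hτ2]
      field_simp
      ring
    · have h4 : 1 - τ * τ / 4 ≠ 0 := by
        have h4' : (4 : F) ≠ 0 := by
          intro e; exact h2 (mul_self_eq_zero.1 (by linear_combination e))
        intro e
        field_simp at e
        have h : (τ - 2) * (τ + 2) = 0 := by linear_combination -e
        rcases mul_eq_zero.1 h with h | h
        · exact hτ (sub_eq_zero.1 h)
        · exact hτ2 (eq_neg_of_add_eq_zero_left h)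
      set c : F := s / (2 + τ) with hc
      have hc0 : 2 + τ ≠ 0 := fun e => hτ2 (eq_neg_of_add_eq_zero_right e)
      set K : F := (2 + τ) * c * c - 2 * s * c + d with hK
      -- `Y² + (1 - τ²/4) X² + K = 0`
      let f : Polynomial F := Polynomial.C (1 : F) * Polynomial.X ^ 2
      let g : Polynomial F :=
        Polynomial.C (1 - τ * τ / 4) * Polynomial.X ^ 2 + Polynomial.C K
      have hf : f.degree = 2 := Polynomial.degree_C_mul_X_pow 2 one_ne_zero
      have hg : g.degree = 2 := by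
        rw [Polynomial.degree_add_eq_left_of_degree_lt] <;>
          rw [Polynomial.degree_C_mul_X_pow 2 h4]
        · rfl
        · exact lt_of_le_of_lt Polynomial.degree_C_le (by norm_num)
      obtain ⟨Y, X, hXY⟩ := FiniteField.exists_root_sum_quadratic hf hg
        (FiniteField.odd_card_of_char_ne_two fun e => h2 (by
          haveI := ringChar.charP F
          rw [e] at *
          exact_mod_cast CharP.cast_eq_zero F 2))
      simp only [f, g, Polynomial.eval_add, Polynomial.eval_mul, Polynomial.eval_C,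
        Polynomial.eval_pow, Polynomial.eval_X, one_mul] at hXY
      refine ⟨X + c, Y - τ / 2 * X + c, ?_⟩
      have hc' : (2 + τ) * c = s := by rw [hc]; field_simp
      rw [hK] at hXY
      have e4 : τ * τ / 4 = (τ / 2) * (τ / 2) := by rw [div_mul_div_comm]; norm_num
      rw [e4] at hXY
      have e2 : τ / 2 * 2 = τ := by field_simp
      have e3 : (2 : F) * 2⁻¹ = 1 := mul_inv_cancel₀ h2
      linear_combination hXY + ((X + (Y - τ / 2 * X)) * 1) * hc' -
        (τ / 2 * X * X - X * Y) * e2 + (-2 * τ * X * Y + 2 * τ ^ 2 * 2⁻¹ * X ^ 2) * e3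

/-- `A = l₁ l₂` with both factors of trace `s` and determinant `d`, for companion `A`. -/
theorem exists_two_factors_comp [Fintype F] {s d : F} (hs : s ≠ 0) (hd : d ≠ 0)
    (hirr : ∀ r, r * r - s * r + d ≠ 0) {t : F} (ht : t ≠ 2 * d) :
    ∃ l₁ l₂ : Matrix (Fin 2) (Fin 2) F, l₁.trace = s ∧ l₁.det = d ∧ l₂.trace = s ∧ l₂.det = d ∧
      comp2 t (d * d) = l₁ * l₂ := by
  obtain ⟨x, u, hxu⟩ := exists_conic_point s d (t / d) hs
    (fun e => ht (by rw [div_eq_iff hd] at e; exact e))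
  have hu : u ≠ 0 := by
    rintro rfl
    exact hirr x (by linear_combination hxu)
  set z := u / d with hz
  have hz0 : z ≠ 0 := div_ne_zero hu hd
  set y := (x * (s - x) - d) / z with hy
  have hyz : y * z = x * (s - x) - d := by rw [hy, div_mul_cancel₀ _ hz0]
  have htr : -y + z * (d * d) + x * t = s * d := by
    have e1 : z * d = u := by rw [hz, div_mul_cancel₀ _ hd]
    have e2 : t / d * d = t := div_mul_cancel₀ _ hd
    refine mul_left_cancel₀ hz0 ?_
    linear_combination hxu - hyz + (z * d + u - s + t / d * x) * e1 - z * x * e2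
  refine ⟨!![x, y; z, s - x], d⁻¹ • (!![s - x, -y; -z, x] * comp2 t (d * d)), ?_, ?_, ?_, ?_, ?_⟩
  · simp [Matrix.trace_fin_two]
  · simp [Matrix.det_fin_two]; linear_combination -hyz
  · simp [Matrix.trace_fin_two, comp2, Matrix.mul_apply, Fin.sum_univ_two]
    field_simp
    linear_combination htr
  · rw [Matrix.det_smul, Matrix.det_mul, det_comp2, Matrix.det_fin_two_of, Fintype.card_fin]
    field_simp
    linear_combination -hyz
  · rw [Matrix.mul_smul, ← Matrix.mul_assoc,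
      show (!![x, y; z, s - x] * !![s - x, -y; -z, x] : Matrix (Fin 2) (Fin 2) F) = d • 1 by
        ext i j
        fin_cases i <;> fin_cases j <;> simp [Matrix.mul_apply, Fin.sum_univ_two] <;>
          first | linear_combination -hyz | ring,
      Matrix.smul_mul, one_mul, smul_smul, inv_mul_cancel₀ hd, one_smul]

/-- Nonscalar matrices of determinant `d²` and trace not `2d` are products of two conjugates. -/
theorem exists_two_factors [Fintype F] {s d : F} (hs : s ≠ 0) (hd : d ≠ 0)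
    (hirr : ∀ r, r * r - s * r + d ≠ 0) {A : Matrix (Fin 2) (Fin 2) F}
    (hA : A 1 0 ≠ 0 ∨ A 0 1 ≠ 0 ∨ A 0 0 ≠ A 1 1) (hdet : A.det = d * d)
    (ht : A.trace ≠ 2 * d) :
    ∃ l₁ l₂ : Matrix (Fin 2) (Fin 2) F, l₁.trace = s ∧ l₁.det = d ∧ l₂.trace = s ∧ l₂.det = d ∧
      A = l₁ * l₂ := by
  obtain ⟨P, hP⟩ := gl2_conj_nonscalar hA
  obtain ⟨l₁, l₂, h1, h2, h3, h4, e⟩ := exists_two_factors_comp hs hd hirr ht
  rw [hdet, e] at hP
  refine ⟨P.1 * l₁ * (P⁻¹).1, P.1 * l₂ * (P⁻¹).1, ?_, ?_, ?_, ?_, ?_⟩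
  · rw [Matrix.trace_mul_cycle, Units.inv_mul, one_mul, h1]
  · rw [Matrix.det_mul, Matrix.det_mul, mul_comm, ← mul_assoc, ← Matrix.det_mul, Units.inv_mul,
      Matrix.det_one, one_mul, h2]
  · rw [Matrix.trace_mul_cycle, Units.inv_mul, one_mul, h3]
  · rw [Matrix.det_mul, Matrix.det_mul, mul_comm, ← mul_assoc, ← Matrix.det_mul, Units.inv_mul,
      Matrix.det_one, one_mul, h4]
  · have : A = P.1 * (l₁ * l₂) * (P⁻¹).1 := by rw [← hP, mul_assoc, Units.mul_inv, mul_one]
    rw [this]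
    simp only [mul_assoc]
    rw [← mul_assoc (P⁻¹).1 P.1, Units.inv_mul, one_mul]

/-- For invertible `C` some symmetric `S` makes `S C` a product of two conjugates. -/
theorem exists_sym_factor [Fintype F] (h3 : 3 ≤ Fintype.card F) {s d : F} (hs : s ≠ 0) (hd : d ≠ 0)
    (hirr : ∀ r, r * r - s * r + d ≠ 0) {C : Matrix (Fin 2) (Fin 2) F} (hC : C.det ≠ 0)
    (hshape : C 0 0 ≠ 0 ∨ C 1 1 = 0) :
    ∃ S : Matrix (Fin 2) (Fin 2) F, S.IsSymm ∧
      ∃ l₁ l₂ : Matrix (Fin 2) (Fin 2) F, l₁.trace = s ∧ l₁.det = d ∧ l₂.trace = s ∧ l₂.det = d ∧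
        S * C = l₁ * l₂ := by
  classical
  set D := d * d / C.det with hD
  have hsymm : ∀ p q r : F, (!![p, q; q, r] : Matrix (Fin 2) (Fin 2) F).IsSymm := fun p q r => by
    ext i j; fin_cases i <;> fin_cases j <;> simp
  have hdetS : ∀ S : Matrix (Fin 2) (Fin 2) F, S.det = D → (S * C).det = d * d := fun S h => by
    rw [Matrix.det_mul, h, hD, div_mul_cancel₀ _ hC]
  by_cases h00 : C 0 0 = 0
  · have h11 : C 1 1 = 0 := hshape.resolve_left (not_not.2 h00)
    have hdC : C.det = -(C 0 1 * C 1 0) := by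
      rw [Matrix.det_fin_two, h00, h11]; ring
    have hx : C 0 1 ≠ 0 := fun e => hC (by rw [hdC, e]; ring)
    have hy : C 1 0 ≠ 0 := fun e => hC (by rw [hdC, e]; ring)
    by_cases hσ : C 0 1 + C 1 0 = 0
    · -- `C` alternating
      have hC10 : C 1 0 = -(C 0 1) := eq_neg_of_add_eq_zero_right hσ
      by_cases h2 : (2 : F) = 0
      · -- scalar product
        refine ⟨!![0, d / C 0 1; d / C 0 1, 0], hsymm _ _ _, comp2 s d,
          !![s, d; -1, 0], trace_comp2 s d, det_comp2 s d, by simp [Matrix.trace_fin_two],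
          by simp [Matrix.det_fin_two], ?_⟩
        have hneg : ∀ a : F, -a = a := fun a => by linear_combination (-a) * h2
        ext i j
        fin_cases i <;> fin_cases j <;>
          simp [comp2, Matrix.mul_apply, Fin.sum_univ_two, h00, h11, hC10, hneg, hx] <;>
          linear_combination (-s) * h2
      · refine ⟨!![d / C 0 1, 0; 0, d / C 0 1], hsymm _ _ _, ?_⟩
        refine exists_two_factors hs hd hirr (Or.inr (Or.inl ?_)) (hdetS _ ?_) ?_
        · simp [Matrix.mul_apply, Fin.sum_univ_two, h11, hx, hd]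
        · rw [hD, hdC, hC10, Matrix.det_fin_two_of]; field_simp; ring
        · simp [Matrix.trace_fin_two, Matrix.vecMul, dotProduct, Fin.sum_univ_two, h00, h11, h2, hd]
    · obtain ⟨b, hb⟩ : ∃ b : F, b * (C 0 1 + C 1 0) ≠ 2 * d := by
        by_contra hc
        push Not at hc
        have h0 := hc 0
        have h1 := hc 1
        exact hσ (by linear_combination h1 - h0)
      refine ⟨!![D + b * b, b; b, 1], hsymm _ _ _, ?_⟩
      refine exists_two_factors hs hd hirr (Or.inl ?_) (hdetS _ ?_) ?_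
      · simp [Matrix.mul_apply, Fin.sum_univ_two, h00, hy]
      · rw [Matrix.det_fin_two_of]; ring
      · intro e
        refine hb ?_
        simp [Matrix.trace_fin_two, Matrix.vecMul, dotProduct, Fin.sum_univ_two, h00, h11] at e
        linear_combination e
  · set a := C 0 0 with ha
    set σ := C 0 1 + C 1 0 with hσ
    have key : ∀ e : F, e ≠ 0 → ∃ b : F,
        a * (b * b) + σ * e * b + (a * D + C 1 1 * (e * e) - 2 * d * e) ≠ 0 := by
      intro e he
      by_contra hc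
      push Not at hc
      -- a quadratic with at least three roots
      set P : Polynomial F := Polynomial.C a * Polynomial.X ^ 2 + Polynomial.C (σ * e) *
        Polynomial.X + Polynomial.C (a * D + C 1 1 * (e * e) - 2 * d * e) with hP
      have hPdeg : P.degree = 2 := Polynomial.degree_quadratic h00
      have hP0 : P ≠ 0 := by intro e0; rw [e0] at hPdeg; simp at hPdeg
      have hsub : (Finset.univ : Finset F) ⊆ P.roots.toFinset := fun x _ => by
        rw [Multiset.mem_toFinset, Polynomial.mem_roots hP0, Polynomial.IsRoot.def, hP]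
        simp only [Polynomial.eval_add, Polynomial.eval_mul, Polynomial.eval_C,
          Polynomial.eval_pow, Polynomial.eval_X]
        linear_combination hc x
      have := (Finset.card_le_card hsub).trans (Multiset.toFinset_card_le _)
      have h' := Polynomial.card_roots hP0
      rw [hPdeg] at h'
      have h'' : P.roots.card ≤ 2 := by exact_mod_cast h'
      rw [Finset.card_univ] at this
      omega
    let S : F → F → Matrix (Fin 2) (Fin 2) F := fun e b => !![(D + b * b) / e, b; b, e]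
    have hS : ∀ e : F, e ≠ 0 → ∀ b, (S e b).det = D := fun e he b => by
      simp only [S, Matrix.det_fin_two_of]; field_simp; ring
    have htr : ∀ e : F, e ≠ 0 → ∀ b : F,
        a * (b * b) + σ * e * b + (a * D + C 1 1 * (e * e) - 2 * d * e) ≠ 0 →
        (S e b * C).trace ≠ 2 * d := by
      intro e he b hb ht
      refine hb ?_
      simp only [S, Matrix.trace_fin_two, Matrix.mul_apply, Fin.sum_univ_two, Matrix.of_apply,
        Matrix.cons_val_zero, Matrix.cons_val_one, Matrix.cons_val_fin_one, ← ha] at ht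
      field_simp at ht
      rw [hσ]
      linear_combination ht
    -- at most one of the two candidates gives a scalar
    obtain ⟨e₂, he₂⟩ : ∃ e : F, e ∉ ({0, 1} : Finset F) := by
      by_contra hc
      push Not at hc
      have : Fintype.card F ≤ 2 := by
        rw [← Finset.card_univ]
        exact (Finset.card_le_card fun x _ => hc x).trans Finset.card_le_two
      omega
    simp only [Finset.mem_insert, Finset.mem_singleton, not_or] at he₂
    obtain ⟨b₁, hb₁⟩ := key 1 one_ne_zero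
    obtain ⟨b₂, hb₂⟩ := key e₂ he₂.1
    by_cases hsc : (S 1 b₁ * C) 1 0 ≠ 0 ∨ (S 1 b₁ * C) 0 1 ≠ 0 ∨
        (S 1 b₁ * C) 0 0 ≠ (S 1 b₁ * C) 1 1
    · exact ⟨_, hsymm _ _ _, exists_two_factors hs hd hirr hsc (hdetS _ (hS 1 one_ne_zero b₁))
        (htr 1 one_ne_zero b₁ hb₁)⟩
    by_cases hsc2 : (S e₂ b₂ * C) 1 0 ≠ 0 ∨ (S e₂ b₂ * C) 0 1 ≠ 0 ∨
        (S e₂ b₂ * C) 0 0 ≠ (S e₂ b₂ * C) 1 1
    · exact ⟨_, hsymm _ _ _, exists_two_factors hs hd hirr hsc2 (hdetS _ (hS e₂ he₂.1 b₂))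
        (htr e₂ he₂.1 b₂ hb₂)⟩
    exfalso
    push Not at hsc hsc2
    have hscal : ∀ M : Matrix (Fin 2) (Fin 2) F, M 1 0 = 0 → M 0 1 = 0 → M 0 0 = M 1 1 →
        M = M 0 0 • 1 := fun M h1 h2 h3 => by
      ext i j; fin_cases i <;> fin_cases j <;> simp [h1, h2, ← h3]
    have htd : ∀ M : Matrix (Fin 2) (Fin 2) F, M = M 0 0 • 1 → M.det = d * d → M.trace ≠ 2 * d →
        M 0 0 = -d := by
      intro M hM hdet htr'
      rw [hM, Matrix.det_smul, Matrix.det_one, Fintype.card_fin] at hdet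
      have : (M 0 0 - d) * (M 0 0 + d) = 0 := by linear_combination hdet
      rcases mul_eq_zero.1 this with h | h
      · refine absurd ?_ htr'
        rw [hM, Matrix.trace_smul, Matrix.trace_one, Fintype.card_fin, smul_eq_mul,
          sub_eq_zero.1 h]
        push_cast; ring
      · exact eq_neg_of_add_eq_zero_left h
    have e1 := hscal _ hsc.1 hsc.2.1 hsc.2.2
    have e2 := hscal _ hsc2.1 hsc2.2.1 hsc2.2.2
    rw [htd _ e1 (hdetS _ (hS 1 one_ne_zero b₁)) (htr 1 one_ne_zero b₁ hb₁)] at e1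
    rw [htd _ e2 (hdetS _ (hS e₂ he₂.1 b₂)) (htr e₂ he₂.1 b₂ hb₂)] at e2
    have h12 : S 1 b₁ = S e₂ b₂ := by
      have := congrArg (· * C⁻¹) (e1.trans e2.symm)
      simpa [Matrix.mul_assoc, Matrix.mul_nonsing_inv C (isUnit_iff_ne_zero.2 hC)] using this
    have := congrFun (congrFun h12 1) 1
    simp [S] at this
    exact he₂.2 this.symm

/-- `M W Mᵀ = W` forces `W = 0`. -/
theorem conj_fixed_eq_zero {s d : F} (hs : s ≠ 0) (hd1 : d ≠ 1)
    (hirr : ∀ r, r * r - s * r + d ≠ 0) {M W : Matrix (Fin 2) (Fin 2) F} (ht : M.trace = s)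
    (hdet : M.det = d) (h : M * W * Mᵀ = W) : W = 0 := by
  have hCH : M * M = s • M - d • 1 := by
    rw [← ht, ← hdet]
    ext i j
    fin_cases i <;> fin_cases j <;>
      simp [Matrix.mul_apply, Fin.sum_univ_two, Matrix.trace_fin_two, Matrix.det_fin_two] <;> ring
  have hCHt : Mᵀ * Mᵀ = s • Mᵀ - d • 1 := by
    rw [← Matrix.transpose_mul, hCH, Matrix.transpose_sub, Matrix.transpose_smul,
      Matrix.transpose_smul, Matrix.transpose_one]
  have h2 : M * M * W * (Mᵀ * Mᵀ) = W := by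
    calc M * M * W * (Mᵀ * Mᵀ) = M * (M * W * Mᵀ) * Mᵀ := by simp only [mul_assoc]
      _ = W := by rw [h, h]
  have h3 : s • (M * W) - d • (M * M * W) = W := by
    rw [hCHt, Matrix.mul_sub, Matrix.mul_smul, Matrix.mul_smul, mul_one,
      show M * M * W * Mᵀ = M * (M * W * Mᵀ) by simp only [mul_assoc], h] at h2
    exact h2
  rw [hCH, Matrix.sub_mul, Matrix.smul_mul, Matrix.smul_mul, one_mul, smul_sub, smul_smul,
    smul_smul] at h3
  have hk : s * (1 - d) ≠ 0 := mul_ne_zero hs (sub_ne_zero.2 (Ne.symm hd1))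
  set κ := (1 - d * d) / (s * (1 - d)) with hκ
  have h4 : M * W = κ • W := by
    have h5 : (s * (1 - d)) • (M * W) = (1 - d * d) • W := by
      have h3' : s • (M * W) - (d * s) • (M * W) + (d * d) • W = W := by
        linear_combination (norm := module) h3
      linear_combination (norm := module) h3'
    rw [hκ, div_eq_inv_mul, ← smul_smul, ← h5, smul_smul, inv_mul_cancel₀ hk, one_smul]
  have h6 : (κ * κ - s * κ + d) • W = 0 := by
    have e1 : M * M * W = (κ * κ) • W := by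
      rw [mul_assoc, h4, Matrix.mul_smul, h4, smul_smul]
    rw [hCH, Matrix.sub_mul, Matrix.smul_mul, Matrix.smul_mul, one_mul, h4, smul_smul] at e1
    linear_combination (norm := module) -e1
  exact (smul_eq_zero.1 h6).resolve_left (hirr κ)

/-! ### Blocks in `Sp₄` -/

local notation "G₄" => Cfsg.spGL 2 F

/-- Lower unipotent elements. -/
noncomputable def spLower (X : Matrix (Fin 2) (Fin 2) F) (hX : X.IsSymm) : G₄ :=
  spOfBlocks 1 0 X 1 (by simp [hX.eq]) (by simp) (by simp)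

theorem blk_spLower {X : Matrix (Fin 2) (Fin 2) F} (hX : X.IsSymm) :
    blkA (spLower X hX) = 1 ∧ blkB (spLower X hX) = 0 ∧ blkC (spLower X hX) = X ∧
      blkD (spLower X hX) = 1 := blk_spOfBlocks ..

theorem spLower_mul {X Y : Matrix (Fin 2) (Fin 2) F} (hX : X.IsSymm) (hY : Y.IsSymm) :
    spLower X hX * spLower Y hY = spLower (X + Y) (hX.add hY) := by
  obtain ⟨a1, a2, a3, a4⟩ := blk_spLower hX
  obtain ⟨b1, b2, b3, b4⟩ := blk_spLower hY
  obtain ⟨c1, c2, c3, c4⟩ := blk_spLower (hX.add hY)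
  obtain ⟨e1, e2, e3, e4⟩ := blk_mul (spLower X hX) (spLower Y hY)
  refine spGL_ext_blk ?_ ?_ ?_ ?_
  · rw [e1, c1, a1, a2, b1, b3]; simp
  · rw [e2, c2, a1, a2, b2, b4]; simp
  · rw [e3, c3, a3, a4, b1, b3]; simp
  · rw [e4, c4, a3, a4, b2, b4]; simp

theorem spLower_zero : spLower (0 : Matrix (Fin 2) (Fin 2) F) Matrix.isSymm_zero = 1 := by
  obtain ⟨a1, a2, a3, a4⟩ := blk_spLower (F := F) (X := 0) Matrix.isSymm_zero
  exact spGL_ext_blk (by rw [a1, blk_one.1]) (by rw [a2, blk_one.2.1]) (by rw [a3, blk_one.2.2.1])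
    (by rw [a4, blk_one.2.2.2])

theorem spLower_inv {X : Matrix (Fin 2) (Fin 2) F} (hX : X.IsSymm) :
    (spLower X hX)⁻¹ = spLower (-X) hX.neg := by
  refine inv_eq_of_mul_eq_one_right ?_
  rw [spLower_mul]
  simp [spLower_zero]

theorem isSymm_tcongr {X : Matrix (Fin 2) (Fin 2) F} (hX : X.IsSymm)
    (A : Matrix (Fin 2) (Fin 2) F) : (Aᵀ * X * A).IsSymm := by
  simpa using isSymm_congr hX Aᵀ

theorem spLevi_conj_spLower (A : GL (Fin 2) F) {X : Matrix (Fin 2) (Fin 2) F} (hX : X.IsSymm) :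
    spLevi A * spLower X hX * (spLevi A)⁻¹ =
      spLower (((A⁻¹).1)ᵀ * X * (A⁻¹).1) (isSymm_tcongr hX _) := by
  rw [mul_inv_eq_iff_eq_mul]
  obtain ⟨a1, a2, a3, a4⟩ := blk_spLower hX
  obtain ⟨c1, c2, c3, c4⟩ := blk_spLower (isSymm_tcongr hX (A⁻¹).1)
  obtain ⟨e1, e2, e3, e4⟩ := blk_mul (spLevi A) (spLower X hX)
  obtain ⟨f1, f2, f3, f4⟩ :=
    blk_mul (spLower (((A⁻¹).1)ᵀ * X * (A⁻¹).1) (isSymm_tcongr hX _)) (spLevi A)
  refine spGL_ext_blk ?_ ?_ ?_ ?_
  · rw [e1, f1, a1, a3, c1, c2]; simp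
  · rw [e2, f2, a2, a4, c1, c2]; simp
  · rw [e3, f3, a1, a3, c3, c4]
    simp only [blkC_spLevi, blkD_spLevi, blkA_spLevi, Matrix.zero_mul, zero_add, Matrix.mul_zero,
      add_zero, mul_assoc, Units.inv_mul, mul_one]
  · rw [e4, f4, a2, a4, c3, c4]; simp

variable [Fintype F]

/-- `x(X) diag(A, A⁻ᵀ)` is conjugate to `diag(A, A⁻ᵀ)`. -/
theorem lower_mul_levi_conj {s d : F} (hs : s ≠ 0) (hd : d ≠ 0) (hd1 : d ≠ 1)
    (hirr : ∀ r, r * r - s * r + d ≠ 0) (A : GL (Fin 2) F) (ht : A.1.trace = s)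
    (hdet : A.1.det = d) {X : Matrix (Fin 2) (Fin 2) F} (hX : X.IsSymm) :
    ∃ h : G₄, h * spLevi A * h⁻¹ = spLower X hX * spLevi A := by
  let T := {Z : Matrix (Fin 2) (Fin 2) F // Z.IsSymm}
  let φ : T → T := fun Z =>
    ⟨Z.1 - ((A⁻¹).1)ᵀ * Z.1 * (A⁻¹).1, Z.2.sub (isSymm_tcongr Z.2 _)⟩
  have hinj : Function.Injective φ := by
    intro Z Z' h
    have h1 : Z.1 - ((A⁻¹).1)ᵀ * Z.1 * (A⁻¹).1 = Z'.1 - ((A⁻¹).1)ᵀ * Z'.1 * (A⁻¹).1 :=
      congrArg Subtype.val h
    have h2 : A.1ᵀ * (Z.1 - Z'.1) * A.1ᵀᵀ = Z.1 - Z'.1 := by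
      rw [Matrix.transpose_transpose]
      have h3 : Z.1 - Z'.1 = ((A⁻¹).1)ᵀ * (Z.1 - Z'.1) * (A⁻¹).1 := by
        rw [Matrix.mul_sub, Matrix.sub_mul]
        linear_combination (norm := abel) h1
      conv_lhs => rw [h3]
      simp only [← mul_assoc]
      rw [← Matrix.transpose_mul, Units.inv_mul, Matrix.transpose_one, one_mul]
      rw [mul_assoc, Units.inv_mul, mul_one]
    exact Subtype.ext (sub_eq_zero.1 (conj_fixed_eq_zero hs hd1 hirr
      (by rw [Matrix.trace_transpose, ht]) (by rw [Matrix.det_transpose, hdet]) h2))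
  have : Finite T := inferInstance
  obtain ⟨⟨Z, hZ⟩, e⟩ := Finite.surjective_of_injective hinj ⟨X, hX⟩
  have eZ : Z - ((A⁻¹).1)ᵀ * Z * (A⁻¹).1 = X := congrArg Subtype.val e
  refine ⟨spLower Z hZ, ?_⟩
  have : spLevi A * (spLower Z hZ)⁻¹ =
      spLower (((A⁻¹).1)ᵀ * (-Z) * (A⁻¹).1) (isSymm_tcongr hZ.neg _) * spLevi A := by
    rw [spLower_inv, ← spLevi_conj_spLower, inv_mul_cancel_right]
  rw [mul_assoc, this, ← mul_assoc, spLower_mul]
  congr 1
  congr 1
  rw [Matrix.mul_neg, Matrix.neg_mul, ← sub_eq_add_neg, eZ]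

/-- `diag(A, A⁻ᵀ) x(X)` is conjugate to `diag(A, A⁻ᵀ)`. -/
theorem levi_mul_siegel_conj {s d : F} (hs : s ≠ 0) (hd : d ≠ 0) (hd1 : d ≠ 1)
    (hirr : ∀ r, r * r - s * r + d ≠ 0) (A : GL (Fin 2) F) (ht : A.1.trace = s)
    (hdet : A.1.det = d) {X : Matrix (Fin 2) (Fin 2) F} (hX : X.IsSymm) :
    ∃ h : G₄, h * spLevi A * h⁻¹ = spLevi A * spSiegel X hX := by
  let T := {Z : Matrix (Fin 2) (Fin 2) F // Z.IsSymm}
  let φ : T → T := fun Z => ⟨Z.1 - A.1 * Z.1 * A.1ᵀ, Z.2.sub (isSymm_congr Z.2 _)⟩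
  have hinj : Function.Injective φ := by
    intro Z Z' h
    have h1 : Z.1 - A.1 * Z.1 * A.1ᵀ = Z'.1 - A.1 * Z'.1 * A.1ᵀ := congrArg Subtype.val h
    have h2 : A.1 * (Z.1 - Z'.1) * A.1ᵀ = Z.1 - Z'.1 := by
      rw [Matrix.mul_sub, Matrix.sub_mul]
      linear_combination (norm := abel) -h1
    exact Subtype.ext (sub_eq_zero.1 (conj_fixed_eq_zero hs hd1 hirr ht hdet h2))
  have : Finite T := inferInstance
  obtain ⟨⟨Z, hZ⟩, e⟩ :=
    Finite.surjective_of_injective hinj ⟨A.1 * X * A.1ᵀ, isSymm_congr hX _⟩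
  have eZ : Z - A.1 * Z * A.1ᵀ = A.1 * X * A.1ᵀ := congrArg Subtype.val e
  refine ⟨spSiegel Z hZ, ?_⟩
  have h1 : spLevi A * (spSiegel Z hZ)⁻¹ =
      spSiegel (A.1 * (-Z) * A.1ᵀ) (isSymm_congr hZ.neg _) * spLevi A := by
    rw [spSiegel_inv, ← spLevi_conj_spSiegel, inv_mul_cancel_right]
  have h2 : spLevi A * spSiegel X hX =
      spSiegel (A.1 * X * A.1ᵀ) (isSymm_congr hX _) * spLevi A := by
    rw [← spLevi_conj_spSiegel, inv_mul_cancel_right]
  rw [mul_assoc, h1, h2, ← mul_assoc, spSiegel_mul]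
  congr 1
  congr 1
  rw [Matrix.mul_neg, Matrix.neg_mul, ← sub_eq_add_neg, eZ]

/-- If some Siegel conjugate has a good upper left block, `g` is in the square of the class. -/
theorem mem_class_sq {s d : F} (hs : s ≠ 0) (hd : d ≠ 0) (hd1 : d ≠ 1)
    (hirr : ∀ r, r * r - s * r + d ≠ 0) (l : GL (Fin 2) F) (hl : l.1 = comp2 s d) {g : G₄}
    {Y : Matrix (Fin 2) (Fin 2) F} (hY : Y.IsSymm) {l₁ l₂ : Matrix (Fin 2) (Fin 2) F}
    (h1 : l₁.trace = s) (h2 : l₁.det = d) (h3 : l₂.trace = s) (h4 : l₂.det = d)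
    (hA : blkA g + Y * blkC g = l₁ * l₂) :
    ∃ u v : G₄, g = (u * spLevi l * u⁻¹) * (v * spLevi l * v⁻¹) := by
  let L₁ : GL (Fin 2) F := GeneralLinearGroup.mkOfDetNeZero l₁ (by rw [h2]; exact hd)
  let L₂ : GL (Fin 2) F := GeneralLinearGroup.mkOfDetNeZero l₂ (by rw [h4]; exact hd)
  have hL1 : L₁.1 = l₁ := rfl
  have hL2 : L₂.1 = l₂ := rfl
  set P := spSiegel Y hY with hP
  set g' := P * g * P⁻¹ with hg'
  have hA' : blkA g' = l₁ * l₂ := by
    rw [← hA, hg', spSiegel_inv, (blk_mul _ _).1, (blk_mul _ _).1]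
    simp [hP]
  set C := blkC g' with hC
  set A' : GL (Fin 2) F := L₁ * L₂ with hA'def
  have hA'v : A'.1 = blkA g' := by rw [hA', hA'def, Units.val_mul, hL1, hL2]
  obtain ⟨r1, -, -⟩ := spGL_blk_rel g'
  have hX : (C * (A'⁻¹).1).IsSymm := by
    rw [Matrix.IsSymm]
    rw [← hA'v, ← hC] at r1
    have r2 : Cᵀ = A'.1ᵀ * C * (A'⁻¹).1 := by
      rw [r1, mul_assoc, Units.mul_inv, mul_one]
    rw [Matrix.transpose_mul, r2, ← mul_assoc, ← mul_assoc, ← Matrix.transpose_mul, Units.mul_inv,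
      Matrix.transpose_one, one_mul]
  set Lo := spLower (C * (A'⁻¹).1) hX with hLo
  set R := (spLevi A')⁻¹ * Lo⁻¹ * g' with hR
  obtain ⟨a1, a2, a3, a4⟩ := blk_spLower hX.neg
  have hRA : blkA R = 1 := by
    rw [hR, hLo, spLower_inv, ← map_inv, mul_assoc, (blk_mul _ _).1, (blk_mul _ _).1,
      blkA_spLevi, blkB_spLevi, a1, a2, ← hA'v]
    simp
  have hRC : blkC R = 0 := by
    rw [hR, hLo, spLower_inv, ← map_inv, mul_assoc, (blk_mul _ _).2.2.1, (blk_mul _ _).2.2.1,
      blkC_spLevi, blkD_spLevi, a3, a4, ← hA'v, ← hC]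
    simp [mul_assoc]
  obtain ⟨U, hU, hRU⟩ : ∃ (U : Matrix (Fin 2) (Fin 2) F) (hU : U.IsSymm), R = spSiegel U hU := by
    obtain ⟨A, B, hB, hA1, e⟩ := exists_spLevi_mul_spSiegel R hRC
    refine ⟨B, hB, ?_⟩
    rw [e, show A = 1 from Units.ext (hA1.trans hRA), map_one, one_mul]
  obtain ⟨u₁, hu₁⟩ := lower_mul_levi_conj hs hd hd1 hirr L₁ (hL1 ▸ h1) (hL1 ▸ h2) hX
  obtain ⟨v₁, hv₁⟩ := levi_mul_siegel_conj hs hd hd1 hirr L₂ (hL2 ▸ h3) (hL2 ▸ h4) hU
  obtain ⟨P₁, hP₁⟩ := gl2_conj_companion hirr h1 h2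
  obtain ⟨P₂, hP₂⟩ := gl2_conj_companion hirr h3 h4
  have c1 : L₁ = P₁ * l * P₁⁻¹ := by
    rw [eq_mul_inv_iff_mul_eq]
    exact Units.ext (by rw [Units.val_mul, Units.val_mul, hL1, hl, hP₁])
  have c2 : L₂ = P₂ * l * P₂⁻¹ := by
    rw [eq_mul_inv_iff_mul_eq]
    exact Units.ext (by rw [Units.val_mul, Units.val_mul, hL2, hl, hP₂])
  have hg'eq : g' = (Lo * spLevi L₁) * (spLevi L₂ * spSiegel U hU) := by
    rw [← hRU, hR, hA'def, map_mul]; group
  rw [← hu₁, ← hv₁, c1, c2, map_mul, map_mul, map_mul, map_mul, map_inv, map_inv] at hg'eq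
  refine ⟨P⁻¹ * u₁ * spLevi P₁, P⁻¹ * v₁ * spLevi P₂, ?_⟩
  have : g = P⁻¹ * g' * P := by rw [hg']; group
  rw [this, hg'eq]
  group

omit [Fintype F]

/-! ### Finding a Lagrangian moved off itself -/

/-- Two commuting copies of `SL₂`. -/
noncomputable def pairEl (p q r t p' q' r' t' : F) (h : p * t - q * r = 1)
    (h' : p' * t' - q' * r' = 1) : G₄ :=
  spOfBlocks (Matrix.diagonal ![p, p']) (Matrix.diagonal ![q, q']) (Matrix.diagonal ![r, r'])
    (Matrix.diagonal ![t, t'])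
    (by rw [Matrix.diagonal_transpose, Matrix.diagonal_transpose, Matrix.diagonal_mul_diagonal,
      Matrix.diagonal_mul_diagonal]; simp [mul_comm])
    (by rw [Matrix.diagonal_transpose, Matrix.diagonal_transpose, Matrix.diagonal_mul_diagonal,
      Matrix.diagonal_mul_diagonal]; simp [mul_comm])
    (by
      rw [Matrix.diagonal_transpose, Matrix.diagonal_transpose, Matrix.diagonal_mul_diagonal,
        Matrix.diagonal_mul_diagonal, Matrix.diagonal_sub, ← Matrix.diagonal_one]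
      congr 1
      funext i
      fin_cases i
      · simp; linear_combination h
      · simp; linear_combination h')

end Cfsg.Agent.GLOrder.PSpFour
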