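/-
The lattice of invariant subspaces of a semisimple endomorphism of a finite vector space.
* `Inv f` : the invariant subspaces
* `wt f W` : `∏ (-1)^m Q^(m(m-1)/2)` over the irreducible factors on `W`, `Q = q^deg`, `m` the multiplicity
* `sum_wt_eq_zero` : the weights below a non-zero invariant subspace add up to zero
-/
import Cfsg.Agent.EqLemmas
import Cfsg.Agent.Lib.Semisimple.Basic

set_option autoImplicit false
set_option linter.style.haveILetI false
set_option linter.unusedSectionVars false
set_option linter.unusedSimpArgs false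

namespace Cfsg.Agent.GLOrder

open Polynomial Module Cfsg.Agent.Semisimple

universe u v

variable {F : Type u} [Field F] {V : Type v} [AddCommGroup V] [Module F V] [FiniteDimensional F V]
  {f : Module.End F V}

/-- The invariant subspaces. -/
abbrev Inv (f : Module.End F V) : Type v := {W : Submodule F V // ∀ x ∈ W, f x ∈ W}

/-- Characteristic polynomial on an invariant subspace. -/
noncomputable def cp (W : Inv f) : F[X] := (f.restrict W.2).charpoly

/-- The irreducible factors on an invariant subspace. -/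
noncomputable def factors (W : Inv f) : Multiset F[X] :=
  letI := Classical.decEq F
  UniqueFactorizationMonoid.normalizedFactors (cp W)

open scoped Classical in
/-- Weight of a multiset of irreducible polynomials. -/
noncomputable def wtM (q : ℕ) (M : Multiset F[X]) : ℤ :=
  ∏ p ∈ M.toFinset, (-1) ^ M.count p * (q : ℤ) ^ (p.natDegree * (M.count p).choose 2)

/-- Weight of an invariant subspace. -/
noncomputable def wt (W : Inv f) : ℤ := wtM (Nat.card F) (factors W)

theorem wtM_zero (q : ℕ) : wtM q (0 : Multiset F[X]) = 1 := by simp [wtM]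

open scoped Classical in
theorem wtM_cons (q : ℕ) (p : F[X]) (M : Multiset F[X]) :
    wtM q (p ::ₘ M) = -((q : ℤ) ^ (p.natDegree * M.count p) * wtM q M) := by
  let g : Multiset F[X] → F[X] → ℤ := fun N x =>
    (-1) ^ N.count x * (q : ℤ) ^ (x.natDegree * (N.count x).choose 2)
  have hN : ∀ N : Multiset F[X], N.toFinset ⊆ insert p M.toFinset →
      wtM q N = g N p * ∏ x ∈ (insert p M.toFinset).erase p, g N x := by
    intro N hN
    rw [wtM, Finset.mul_prod_erase _ _ (Finset.mem_insert_self p _)]
    refine Finset.prod_subset hN fun x _ hx => ?_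
    rw [Multiset.count_eq_zero_of_notMem fun h => hx (Multiset.mem_toFinset.2 h)]
    simp
  have h1 : ∀ x ∈ (insert p M.toFinset).erase p, g (p ::ₘ M) x = g M x := fun x hx => by
    simp only [g, Multiset.count_cons_of_ne (Finset.ne_of_mem_erase hx)]
  rw [hN (p ::ₘ M) (by rw [Multiset.toFinset_cons]), hN M (Finset.subset_insert _ _),
    Finset.prod_congr rfl h1]
  simp only [g, Multiset.count_cons_self, pow_succ, Nat.choose_succ_succ', Nat.choose_one_right,
    mul_add, pow_add]
  ring

theorem factors_of_finrank_zero (W : Inv f) (h : finrank F W.1 = 0) : factors W = 0 := by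
  classical
  have h1 : cp W = 1 := eq_one_of_monic_natDegree_zero (LinearMap.charpoly_monic _) (by
    rw [cp, LinearMap.charpoly_natDegree, h])
  rw [factors, h1, UniqueFactorizationMonoid.normalizedFactors_one]

theorem wt_bot (W : Inv f) (h : W.1 = ⊥) : wt W = 1 := by
  rw [wt, factors_of_finrank_zero W (by rw [h, finrank_bot]), wtM_zero]

/-- A simple invariant subspace for the irreducible `p`. -/
structure IsSimp (L : Inv f) (p : F[X]) : Prop where
  exists_gen : ∃ v, v ≠ 0 ∧ aeval f p v = 0 ∧ L.1 = LinearMap.range (orbitMap f v)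
  irr : Irreducible p
  monic : p.Monic

theorem aeval_mem {W : Inv f} {v : V} (hv : v ∈ W.1) (q : F[X]) : aeval f q v ∈ W.1 := by
  induction q using Polynomial.induction_on with
  | C a => simpa [aeval_C] using W.1.smul_mem a hv
  | add a b ha hb => simpa [map_add] using W.1.add_mem ha hb
  | monomial k a ih =>
    rw [show C a * X ^ (k + 1) = X * (C a * X ^ k) by ring, map_mul, aeval_X, Module.End.mul_apply]
    exact W.2 _ ih

theorem aeval_restrict {W : Inv f} (q : F[X]) (x : W.1) :
    ((aeval (f.restrict W.2) q x : W.1) : V) = aeval f q (x : V) := by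
  induction q using Polynomial.induction_on generalizing x with
  | C a => simp [aeval_C]
  | add a b ha hb => simp [map_add, ha, hb]
  | monomial k a ih =>
    rw [show C a * X ^ (k + 1) = X * (C a * X ^ k) by ring,
      map_mul (aeval (f.restrict W.2)) X (C a * X ^ k), map_mul (aeval f) X (C a * X ^ k), aeval_X,
      aeval_X, Module.End.mul_apply, Module.End.mul_apply, LinearMap.coe_restrict_apply, ih]

/-- Non-zero invariant subspaces contain simple ones. -/
theorem exists_simp_le (W : Inv f) (hW : W.1 ≠ ⊥) :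
    ∃ (L : Inv f) (p : F[X]), IsSimp L p ∧ L.1 ≤ W.1 := by
  have h0 : 0 < finrank F W.1 :=
    Nat.pos_of_ne_zero fun h => hW (Submodule.finrank_eq_zero.1 h)
  obtain ⟨p, hpm, hp, hdvd⟩ := exists_monic_irreducible_factor (cp W) fun hu => by
    have h := natDegree_eq_zero_of_isUnit hu
    rw [cp, LinearMap.charpoly_natDegree] at h
    omega
  obtain ⟨v, hv, hpv⟩ := exists_aeval_eq_zero_of_dvd_charpoly (f.restrict W.2) hp hdvd
  refine ⟨⟨LinearMap.range (orbitMap f (v : V)), range_invt f _⟩, p,
    ⟨⟨v, fun h => hv (Subtype.ext h), ?_, rfl⟩, hp, hpm⟩, ?_⟩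
  · rw [← aeval_restrict, hpv, Submodule.coe_zero]
  · rintro _ ⟨q, rfl⟩
    exact aeval_mem v.2 q

theorem IsSimp.aeval_eq_zero {L : Inv f} {p : F[X]} (h : IsSimp L p) {x : V} (hx : x ∈ L.1) :
    aeval f p x = 0 := by
  obtain ⟨v, -, hpv, hL⟩ := h.exists_gen
  rw [hL] at hx
  obtain ⟨q, rfl⟩ := hx
  rw [orbitMap_apply, ← Module.End.mul_apply, ← map_mul, mul_comm, map_mul, Module.End.mul_apply,
    hpv, map_zero]

theorem IsSimp.le_of_inter {L : Inv f} {p : F[X]} (h : IsSimp L p) (U : Inv f) {x : V} (hx : x ≠ 0)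
    (hxL : x ∈ L.1) (hxU : x ∈ U.1) : L.1 ≤ U.1 := by
  obtain ⟨v, hv, hpv, hL⟩ := h.exists_gen
  rw [hL] at hxL ⊢
  obtain ⟨q, rfl⟩ := hxL
  have hnd : ¬ p ∣ q := fun hd => hx ((orbitMap_eq_zero_iff f hv h.irr hpv q).2 hd)
  obtain ⟨a, b, hab⟩ := h.irr.coprime_iff_not_dvd.2 hnd
  have hvU : v ∈ U.1 := by
    have := congrArg (fun r => aeval f r v) hab
    simp only [map_add, map_mul, LinearMap.add_apply, Module.End.mul_apply, hpv, map_zero,
      map_one, Module.End.one_apply, zero_add] at this
    rw [← this]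
    exact aeval_mem hxU b
  rintro _ ⟨r, rfl⟩
  exact aeval_mem hvU r

theorem IsSimp.natCard [Finite F] {L : Inv f} {p : F[X]} (h : IsSimp L p) :
    finrank F L.1 = p.natDegree ∧ Nat.card L.1 = Nat.card F ^ p.natDegree := by
  obtain ⟨v, hv, hpv, hL⟩ := h.exists_gen
  have hker : LinearMap.ker (orbitMap f v) = (Ideal.span {p}).restrictScalars F := by
    ext r
    rw [LinearMap.mem_ker, orbitMap_eq_zero_iff f hv h.irr hpv, Submodule.restrictScalars_mem,
      Ideal.mem_span_singleton]
  let ε : AdjoinRoot p ≃ₗ[F] LinearMap.range (orbitMap f v) :=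
    ((Submodule.Quotient.restrictScalarsEquiv F (Ideal.span {p})).symm.trans
      (Submodule.quotEquivOfEq _ _ hker.symm)).trans (orbitMap f v).quotKerEquivRange
  have hr : finrank F L.1 = p.natDegree := by
    rw [hL, ← ε.finrank_eq, (AdjoinRoot.powerBasis h.irr.ne_zero).finrank, AdjoinRoot.powerBasis_dim]
  exact ⟨hr, by rw [Module.natCard_eq_pow_finrank (K := F), hr]⟩

theorem IsSimp.factors [Finite F] {L : Inv f} {p : F[X]} (h : IsSimp L p) : factors L = {p} := by
  classical
  have hd : (cp L).natDegree = p.natDegree := by rw [cp, LinearMap.charpoly_natDegree, h.natCard.1]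
  obtain ⟨g, hgm, hg, hgd⟩ := exists_monic_irreducible_factor (cp L) fun hu => by
    have h1 := natDegree_eq_zero_of_isUnit hu
    have := h.irr.natDegree_pos
    omega
  obtain ⟨w, hw, hgw⟩ := exists_aeval_eq_zero_of_dvd_charpoly (f.restrict L.2) hg hgd
  have hgw' : aeval f g (w : V) = 0 := by rw [← aeval_restrict, hgw, Submodule.coe_zero]
  have hgp : g = p := by
    refine eq_of_monic_of_associated hgm h.monic (hg.associated_of_dvd h.irr ?_)
    exact (orbitMap_eq_zero_iff f (fun h0 => hw (Subtype.ext h0)) hg hgw' p).1 (h.aeval_eq_zero w.2)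
  subst hgp
  have hc : cp L = g := eq_of_monic_of_dvd_of_natDegree_le hgm (LinearMap.charpoly_monic _) hgd
    hd.le
  rw [GLOrder.factors, hc, UniqueFactorizationMonoid.normalizedFactors_irreducible hg,
    hgm.normalize_eq_self]

theorem factors_sup {A B Y : Inv f} (hdisj : Disjoint A.1 B.1) (hY : Y.1 = A.1 ⊔ B.1) :
    factors Y = factors A + factors B := by
  classical
  have hmem : ∀ x, (A.1.subtype.coprod B.1.subtype) x ∈ Y.1 := fun x => by
    rw [hY]; exact Submodule.mem_sup.2 ⟨_, x.1.2, _, x.2.2, rfl⟩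
  let e₀ : (A.1 × B.1) →ₗ[F] Y.1 := (A.1.subtype.coprod B.1.subtype).codRestrict Y.1 hmem
  have hbij : Function.Bijective e₀ := by
    constructor
    · rw [← LinearMap.ker_eq_bot, LinearMap.ker_eq_bot']
      rintro ⟨a, b⟩ hab
      have h : (a : V) + b = 0 := congrArg Subtype.val hab
      have ha : (a : V) = 0 := Submodule.disjoint_def.1 hdisj _ a.2 (by
        rw [eq_neg_of_add_eq_zero_left h]; exact B.1.neg_mem b.2)
      rw [ha, zero_add] at h
      exact Prod.ext (Subtype.ext ha) (Subtype.ext h)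
    · rintro ⟨y, hy⟩
      rw [hY] at hy
      obtain ⟨a, ha, b, hb, rfl⟩ := Submodule.mem_sup.1 hy
      exact ⟨(⟨a, ha⟩, ⟨b, hb⟩), rfl⟩
  let e := LinearEquiv.ofBijective e₀ hbij
  have hconj : e.conj ((f.restrict A.2).prodMap (f.restrict B.2)) = f.restrict Y.2 := by
    apply LinearMap.ext
    intro y
    obtain ⟨⟨a, b⟩, rfl⟩ := e.surjective y
    rw [LinearEquiv.conj_apply_apply, LinearEquiv.symm_apply_apply]
    apply Subtype.ext
    show (f a : V) + f b = f ((a : V) + b)
    rw [map_add]
  have hcp : cp Y = cp A * cp B := by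
    rw [cp, ← hconj, LinearEquiv.charpoly_conj, LinearMap.charpoly_prodMap]; rfl
  rw [factors, hcp, UniqueFactorizationMonoid.normalizedFactors_mul
    (show cp A ≠ 0 from (LinearMap.charpoly_monic _).ne_zero)
    (show cp B ≠ 0 from (LinearMap.charpoly_monic _).ne_zero)]
  rfl

/-- Invariant complements inside invariant subspaces. -/
theorem exists_compl_le (hf : f.IsSemisimple) {A Y : Inv f} (h : A.1 ≤ Y.1) :
    ∃ B : Inv f, Disjoint A.1 B.1 ∧ A.1 ⊔ B.1 = Y.1 := by
  obtain ⟨C, hC, hCi⟩ := exists_isCompl hf A.2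
  refine ⟨⟨C ⊓ Y.1, fun x hx => ⟨hCi x hx.1, Y.2 x hx.2⟩⟩, hC.disjoint.mono_right inf_le_left, ?_⟩
  show A.1 ⊔ C ⊓ Y.1 = Y.1
  rw [← sup_inf_assoc_of_le C h, hC.sup_eq_top, top_inf_eq]

/-- Equivariant maps from `W` into `L`. -/
def Homs (W L : Inv f) : Type v :=
  {φ : W.1 →ₗ[F] L.1 // ∀ x, φ (f.restrict W.2 x) = f.restrict L.2 (φ x)}

open scoped Classical in
theorem card_homs [Finite F] (hf : f.IsSemisimple) {L : Inv f} {p : F[X]} (hL : IsSimp L p)
    (W : Inv f) :
    Nat.card (Homs W L) = Nat.card F ^ (p.natDegree * (factors W).count p) := by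
  induction hn : finrank F W.1 using Nat.strong_induction_on generalizing W with
  | _ n ih =>
  by_cases hW : W.1 = ⊥
  · haveI : Subsingleton W.1 := by rw [hW]; infer_instance
    rw [factors_of_finrank_zero W (by rw [hW, finrank_bot]), Multiset.count_zero, mul_zero, pow_zero,
      Nat.card_eq_one_iff_unique]
    exact ⟨⟨fun a b => Subtype.ext (LinearMap.ext fun x => by
      rw [Subsingleton.elim x 0, map_zero, map_zero])⟩, ⟨⟨0, fun x => by simp⟩⟩⟩
  obtain ⟨A, r, hA, hAW⟩ := exists_simp_le W hW
  obtain ⟨B, hdisj, hAB⟩ := exists_compl_le hf hAW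
  obtain ⟨v, hv, hrv, hAv⟩ := hA.exists_gen
  have hlt : finrank F B.1 < n := by
    rw [← hn, ← hAB]
    have h1 := Submodule.finrank_sup_add_finrank_inf_eq A.1 B.1
    rw [hdisj.eq_bot, finrank_bot] at h1
    have := hA.natCard.1
    have := hA.irr.natDegree_pos
    omega
  have hBW : B.1 ≤ W.1 := hAB ▸ le_sup_right
  have hsplit : Nat.card (Homs W L) = Nat.card (Homs A L) * Nat.card (Homs B L) := by
    rw [← Nat.card_prod]
    refine Nat.card_eq_of_bijective
      (fun φ => (⟨φ.1.comp (Submodule.inclusion hAW), fun x => φ.2 (Submodule.inclusion hAW x)⟩,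
        ⟨φ.1.comp (Submodule.inclusion hBW), fun x => φ.2 (Submodule.inclusion hBW x)⟩)) ⟨?_, ?_⟩
    · intro φ ψ h
      have h1' := congrArg (fun z : Homs A L × Homs B L => z.1.1) h
      have h2' := congrArg (fun z : Homs A L × Homs B L => z.2.1) h
      apply Subtype.ext
      apply LinearMap.ext
      rintro ⟨x, hx⟩
      obtain ⟨a, ha, b, hb, rfl⟩ := Submodule.mem_sup.1 (hAB ▸ hx)
      have e1 := LinearMap.congr_fun h1' ⟨a, ha⟩
      have e2 := LinearMap.congr_fun h2' ⟨b, hb⟩
      have hs : (⟨a + b, hx⟩ : W.1) =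
          Submodule.inclusion hAW ⟨a, ha⟩ + Submodule.inclusion hBW ⟨b, hb⟩ := Subtype.ext rfl
      rw [hs, map_add, map_add]
      exact congrArg₂ (· + ·) e1 e2
    · rintro ⟨⟨α, hα⟩, ⟨β, hβ⟩⟩
      have hbij : Function.Bijective
          ((Submodule.inclusion hAW).coprod (Submodule.inclusion hBW)) := by
        constructor
        · rw [← LinearMap.ker_eq_bot, LinearMap.ker_eq_bot']
          rintro ⟨a, b⟩ hab
          have h : (a : V) + b = 0 := congrArg Subtype.val hab
          have ha : (a : V) = 0 := Submodule.disjoint_def.1 hdisj _ a.2 (by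
            rw [eq_neg_of_add_eq_zero_left h]; exact B.1.neg_mem b.2)
          rw [ha, zero_add] at h
          exact Prod.ext (Subtype.ext ha) (Subtype.ext h)
        · rintro ⟨y, hy⟩
          obtain ⟨a, ha, b, hb, rfl⟩ := Submodule.mem_sup.1 (hAB ▸ hy)
          exact ⟨(⟨a, ha⟩, ⟨b, hb⟩), rfl⟩
      let e := LinearEquiv.ofBijective _ hbij
      have he : ∀ y, (α.coprod β) (e.symm (f.restrict W.2 y)) =
          f.restrict L.2 ((α.coprod β) (e.symm y)) := by
        intro y
        obtain ⟨⟨a, b⟩, rfl⟩ := e.surjective y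
        have : f.restrict W.2 (e (a, b)) = e (f.restrict A.2 a, f.restrict B.2 b) := by
          apply Subtype.ext
          show f ((a : V) + b) = f a + f b
          rw [map_add]
        rw [this, LinearEquiv.symm_apply_apply, LinearEquiv.symm_apply_apply, LinearMap.coprod_apply,
          LinearMap.coprod_apply, map_add, hα, hβ]
      refine ⟨⟨(α.coprod β).comp e.symm.toLinearMap, he⟩, ?_⟩
      have he' : ∀ z, (α.coprod β) (e.symm ((Submodule.inclusion hAW).coprod
          (Submodule.inclusion hBW) z)) = (α.coprod β) z := fun z =>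
        congrArg _ (e.symm_apply_apply z)
      refine Prod.ext (Subtype.ext (LinearMap.ext fun a => ?_)) (Subtype.ext (LinearMap.ext fun b => ?_))
      · simpa using he' (a, 0)
      · simpa using he' (0, b)
  -- the simple summand
  have hAcard : Nat.card (Homs A L) = Nat.card F ^ (p.natDegree * (factors A).count p) := by
    rw [hA.factors, Multiset.count_singleton]
    by_cases hpr : p = r
    · subst hpr
      rw [if_pos rfl, mul_one, ← hL.natCard.2]
      refine Nat.card_eq_of_bijective (fun φ => φ.1 ⟨v, by rw [hAv]; exact ⟨1, by simp⟩⟩) ⟨?_, ?_⟩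
      · intro φ ψ h
        apply Subtype.ext
        apply LinearMap.ext
        have key : ∀ (χ : Homs A L) (q : F[X]) (hq : aeval f q v ∈ A.1),
            (χ.1 ⟨_, hq⟩ : V) = aeval f q (χ.1 ⟨v, by rw [hAv]; exact ⟨1, by simp⟩⟩ : V) := by
          intro χ q hq
          have hvA : v ∈ A.1 := by rw [hAv]; exact ⟨1, by simp⟩
          have : (⟨_, hq⟩ : A.1) = aeval (f.restrict A.2) q ⟨v, hvA⟩ :=
            Subtype.ext (aeval_restrict q ⟨v, hvA⟩).symm
          rw [this]
          clear this hq
          induction q using Polynomial.induction_on with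
          | C a => rw [aeval_C, aeval_C, Module.algebraMap_end_apply, Module.algebraMap_end_apply,
              map_smul, Submodule.coe_smul]
          | add a b ha hb => simp [map_add, ha, hb]
          | monomial k a ih =>
            rw [show C a * X ^ (k + 1) = X * (C a * X ^ k) by ring,
              map_mul (aeval (f.restrict A.2)) X (C a * X ^ k), map_mul (aeval f) X (C a * X ^ k),
              aeval_X, aeval_X, Module.End.mul_apply, Module.End.mul_apply, χ.2, LinearMap.coe_restrict_apply,
              ih]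
        rintro ⟨x, hx⟩
        obtain ⟨q, rfl⟩ : x ∈ LinearMap.range (orbitMap f v) := hAv ▸ hx
        apply Subtype.ext
        simp only [orbitMap_apply]
        rw [key φ q, key ψ q]
        exact congrArg (fun z : L.1 => aeval f q (z : V)) h
      · intro u
        have hle : LinearMap.ker (orbitMap f v) ≤ LinearMap.ker (orbitMap f (u : V)) := fun q hq => by
          rw [LinearMap.mem_ker] at hq ⊢
          obtain ⟨c, rfl⟩ := (orbitMap_eq_zero_iff f hv hA.irr hrv q).1 hq
          rw [orbitMap_apply, mul_comm, map_mul, Module.End.mul_apply, hL.aeval_eq_zero u.2, map_zero]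
        let ψ₀ : LinearMap.range (orbitMap f v) →ₗ[F] V :=
          ((LinearMap.ker (orbitMap f v)).liftQ (orbitMap f (u : V)) hle).comp
            (orbitMap f v).quotKerEquivRange.symm.toLinearMap
        have hψ : ∀ q, ψ₀ ⟨orbitMap f v q, q, rfl⟩ = aeval f q (u : V) := by
          intro q
          have h1 : (orbitMap f v).quotKerEquivRange.symm ⟨orbitMap f v q, q, rfl⟩ =
              Submodule.Quotient.mk q := by
            rw [LinearEquiv.symm_apply_eq]; exact Subtype.ext rfl
          simp only [ψ₀, LinearMap.comp_apply, LinearEquiv.coe_coe]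
          rw [h1]
          rfl
        let ψ₁ : A.1 →ₗ[F] V := ψ₀.comp (LinearEquiv.ofEq _ _ hAv).toLinearMap
        have hψ₁ : ∀ q (hq : orbitMap f v q ∈ A.1), ψ₁ ⟨_, hq⟩ = aeval f q (u : V) := fun q hq => hψ q
        have hmemA : ∀ x, ψ₁ x ∈ L.1 := by
          rintro ⟨x, hx⟩
          obtain ⟨q, rfl⟩ : x ∈ LinearMap.range (orbitMap f v) := hAv ▸ hx
          rw [hψ₁]
          exact aeval_mem u.2 q
        refine ⟨⟨ψ₁.codRestrict L.1 hmemA, ?_⟩, ?_⟩
        · rintro ⟨x, hx⟩
          obtain ⟨q, rfl⟩ : x ∈ LinearMap.range (orbitMap f v) := hAv ▸ hx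
          apply Subtype.ext
          have hx' : f.restrict A.2 ⟨_, hx⟩ =
              ⟨orbitMap f v (X * q), by rw [← apply_orbitMap]; exact A.2 _ hx⟩ :=
            Subtype.ext (apply_orbitMap f v q)
          rw [hx', LinearMap.codRestrict_apply, LinearMap.coe_restrict_apply,
            LinearMap.codRestrict_apply, hψ₁, hψ₁, map_mul, aeval_X, Module.End.mul_apply]
        · apply Subtype.ext
          show ψ₁ _ = (u : V)
          have := hψ₁ 1 (by simp [hAv]; exact ⟨1, by simp⟩)
          simpa using this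
    · rw [if_neg hpr, mul_zero, pow_zero, Nat.card_eq_one_iff_unique]
      refine ⟨⟨fun φ ψ => ?_⟩, ⟨⟨0, fun x => by simp⟩⟩⟩
      have key : ∀ χ : Homs A L, χ.1 = 0 := by
        intro χ
        apply LinearMap.ext
        intro x
        apply Subtype.ext
        by_contra hne
        have hpx := hL.aeval_eq_zero (χ.1 x).2
        have hrx : aeval f r (χ.1 x : V) = 0 := by
          have h1 : ∀ q : F[X], (χ.1 (aeval (f.restrict A.2) q x) : V) = aeval f q (χ.1 x : V) := by
            intro q
            induction q using Polynomial.induction_on with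
            | C a => simp [aeval_C]
            | add a b ha hb => simp [map_add, ha, hb]
            | monomial k a ih =>
              rw [show C a * X ^ (k + 1) = X * (C a * X ^ k) by ring,
                map_mul (aeval (f.restrict A.2)) X (C a * X ^ k), map_mul (aeval f) X (C a * X ^ k),
                aeval_X, aeval_X, Module.End.mul_apply, Module.End.mul_apply, χ.2,
                LinearMap.coe_restrict_apply, ih]
          rw [← h1, show aeval (f.restrict A.2) r x = 0 from
            Subtype.ext (by rw [aeval_restrict, hA.aeval_eq_zero x.2, Submodule.coe_zero]), map_zero,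
            Submodule.coe_zero]
        refine hpr (eq_of_monic_of_associated hL.monic hA.monic
          (hL.irr.associated_of_dvd hA.irr ?_))
        exact (orbitMap_eq_zero_iff f hne hL.irr hpx r).1 hrx
      exact Subtype.ext ((key φ).trans (key ψ).symm)
  rw [hsplit, hAcard, ih _ hlt B rfl, ← pow_add, ← mul_add, ← Multiset.count_add,
    ← factors_sup hdisj hAB.symm]

/-- Graphs: complements of `L` in `L ⊔ W`. -/
theorem card_compl [Finite F] (hf : f.IsSemisimple) {L Y : Inv f} {p : F[X]} (hL : IsSimp L p)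
    (hLY : L.1 ≤ Y.1) :
    ∃ W : Inv f, Disjoint L.1 W.1 ∧ L.1 ⊔ W.1 = Y.1 ∧
      Nat.card {U : Inv f // Disjoint L.1 U.1 ∧ L.1 ⊔ U.1 = Y.1} = Nat.card (Homs W L) := by
  obtain ⟨W, hdisj, hY⟩ := exists_compl_le hf hLY
  refine ⟨W, hdisj, hY, (Nat.card_eq_of_bijective (fun φ : Homs W L =>
    (⟨⟨LinearMap.range (W.1.subtype + L.1.subtype.comp φ.1), ?_⟩, ?_, ?_⟩ :
      {U : Inv f // Disjoint L.1 U.1 ∧ L.1 ⊔ U.1 = Y.1})) ⟨?_, ?_⟩).symm⟩
  · rintro _ ⟨w, rfl⟩
    refine ⟨f.restrict W.2 w, ?_⟩
    show f w + (φ.1 (f.restrict W.2 w) : V) = f ((w : V) + (φ.1 w : V))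
    rw [φ.2, map_add, LinearMap.coe_restrict_apply]
  · rw [Submodule.disjoint_def]
    rintro _ hxL ⟨w, rfl⟩
    have hw : (w : V) ∈ L.1 := by
      have := L.1.sub_mem hxL (φ.1 w).2
      simpa using this
    have := Submodule.disjoint_def.1 hdisj _ hw w.2
    have hw0 : w = 0 := Subtype.ext this
    simp [hw0]
  · refine le_antisymm (sup_le hLY ?_) ?_
    · rintro _ ⟨w, rfl⟩
      exact Y.1.add_mem (hY ▸ Submodule.mem_sup_right w.2) (hLY (φ.1 w).2)
    · rw [← hY]
      refine sup_le le_sup_left fun w hw => ?_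
      have h1 := Submodule.mem_sup_left (T := LinearMap.range (W.1.subtype + L.1.subtype.comp φ.1))
        (L.1.neg_mem (φ.1 ⟨w, hw⟩).2)
      have h2 := Submodule.mem_sup_right (S := L.1)
        (LinearMap.mem_range_self (W.1.subtype + L.1.subtype.comp φ.1) ⟨w, hw⟩)
      simpa using Submodule.add_mem _ h1 h2
  · intro φ ψ h
    have hU := congrArg (fun U => U.1.1) h
    simp only at hU
    apply Subtype.ext
    apply LinearMap.ext
    intro w
    have hmem := LinearMap.mem_range_self (W.1.subtype + L.1.subtype.comp φ.1) w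
    rw [hU] at hmem
    obtain ⟨w', hw'⟩ := hmem
    simp only [LinearMap.add_apply, Submodule.subtype_apply, LinearMap.comp_apply] at hw'
    have hd : ((w' : V) - w) ∈ L.1 := by
      rw [show (w' : V) - w = (φ.1 w : V) - ψ.1 w' by linear_combination (norm := abel) hw']
      exact L.1.sub_mem (φ.1 w).2 (ψ.1 w').2
    have h0 : w' = w := Subtype.ext (sub_eq_zero.1
      (Submodule.disjoint_def.1 hdisj _ hd (W.1.sub_mem w'.2 w.2)))
    subst h0
    exact Subtype.ext (add_left_cancel hw').symm
  · rintro ⟨U, hUd, hUY⟩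
    have hex : ∀ w : W.1, ∃ l : L.1, (w : V) + l ∈ U.1 := by
      intro w
      have hwY : (w : V) ∈ L.1 ⊔ U.1 := by rw [hUY, ← hY]; exact Submodule.mem_sup_right w.2
      obtain ⟨l, hl, u, hu, hlu⟩ := Submodule.mem_sup.1 hwY
      exact ⟨⟨-l, L.1.neg_mem hl⟩, by rw [← hlu]; simpa using hu⟩
    choose l hl using hex
    have huniq : ∀ (w : W.1) (a : L.1), (w : V) + a ∈ U.1 → a = l w := by
      intro w a ha
      apply Subtype.ext
      refine sub_eq_zero.1 (Submodule.disjoint_def.1 hUd _ (L.1.sub_mem a.2 (l w).2) ?_)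
      simpa using U.1.sub_mem ha (hl w)
    let φ : W.1 →ₗ[F] L.1 :=
      { toFun := l
        map_add' := fun a b => (huniq _ _ (by
          simpa [add_add_add_comm] using U.1.add_mem (hl a) (hl b))).symm
        map_smul' := fun c a => (huniq _ _ (by
          simpa [smul_add] using U.1.smul_mem c (hl a))).symm }
    have hφ : ∀ w, φ (f.restrict W.2 w) = f.restrict L.2 (φ w) := fun w => by
      refine (huniq (f.restrict W.2 w) (f.restrict L.2 (φ w)) ?_).symm
      rw [LinearMap.coe_restrict_apply, LinearMap.coe_restrict_apply, ← map_add]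
      exact U.2 _ (hl w)
    refine ⟨⟨φ, hφ⟩, Subtype.ext (Subtype.ext (le_antisymm ?_ ?_))⟩
    · rintro _ ⟨w, rfl⟩
      show (w : V) + (φ w : V) ∈ U.1
      exact hl w
    · intro u hu
      have huY : u ∈ L.1 ⊔ W.1 := by rw [hY, ← hUY]; exact Submodule.mem_sup_right hu
      have hex : ∃ a ∈ L.1, ∃ w ∈ W.1, a + w = u := by
        apply Submodule.mem_sup.1
        exact huY
      obtain ⟨a, ha, w, hw, hau⟩ := hex
      have hu' : (⟨w, hw⟩ : W.1).1 + (⟨a, ha⟩ : L.1).1 ∈ U.1 := by
        show w + a ∈ U.1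
        rw [add_comm, hau]
        exact hu
      have := huniq ⟨w, hw⟩ ⟨a, ha⟩ hu'
      refine LinearMap.mem_range.2 ⟨⟨w, hw⟩, ?_⟩
      show w + (l ⟨w, hw⟩ : V) = u
      rw [← this, ← hau, add_comm]

/-- The weights below a non-zero invariant subspace sum to zero. -/
theorem sum_wt_eq_zero [Finite F] [Fintype (Inv f)] [DecidableRel (α := Inv f) (· ≤ ·)]
    (hf : f.IsSemisimple) (W : Inv f) (hW : W.1 ≠ ⊥) :
    ∑ U ∈ Finset.univ.filter (fun U : Inv f => U ≤ W), wt U = 0 := by
  classical
  obtain ⟨L, p, hL, hLW⟩ := exists_simp_le W hW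
  let j : Inv f → Inv f := fun U => ⟨L.1 ⊔ U.1, fun x hx => by
    obtain ⟨a, ha, b, hb, rfl⟩ := Submodule.mem_sup.1 hx
    rw [map_add]
    exact Submodule.add_mem_sup (L.2 a ha) (U.2 b hb)⟩
  rw [← Finset.sum_fiberwise_of_maps_to (g := j)
    (t := Finset.univ.filter (fun Y : Inv f => L.1 ≤ Y.1 ∧ Y ≤ W))
    (fun U hU => by
      simp only [Finset.mem_filter, Finset.mem_univ, true_and] at hU ⊢
      exact ⟨le_sup_left, sup_le hLW hU⟩)]
  refine Finset.sum_eq_zero fun Y hY => ?_
  simp only [Finset.mem_filter, Finset.mem_univ, true_and] at hY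
  obtain ⟨hLY, hYW⟩ := hY
  obtain ⟨W₀, hd, hsup, hcard⟩ := card_compl hf hL hLY
  have hwtY : wt Y = -((Nat.card F : ℤ) ^ (p.natDegree * (factors W₀).count p) * wt W₀) := by
    rw [wt, factors_sup hd hsup.symm, hL.factors, Multiset.singleton_add, wtM_cons]; rfl
  set S := Finset.univ.filter (fun U : Inv f => Disjoint L.1 U.1 ∧ L.1 ⊔ U.1 = Y.1) with hS
  have hfib : (Finset.univ.filter (fun U : Inv f => U ≤ W)).filter (fun U => j U = Y) =
      insert Y S := by
    ext U
    simp only [Finset.mem_filter, Finset.mem_univ, true_and, Finset.mem_insert, hS]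
    constructor
    · rintro ⟨-, hjU⟩
      have hjU' : L.1 ⊔ U.1 = Y.1 := congrArg Subtype.val hjU
      by_cases hdU : Disjoint L.1 U.1
      · exact Or.inr ⟨hdU, hjU'⟩
      · left
        rw [Submodule.disjoint_def] at hdU
        push Not at hdU
        obtain ⟨x, hxL, hxU, hx⟩ := hdU
        exact Subtype.ext ((sup_eq_right.2 (hL.le_of_inter U hx hxL hxU)).symm.trans hjU')
    · rintro (rfl | ⟨-, hU⟩)
      · exact ⟨hYW, Subtype.ext (sup_eq_right.2 hLY)⟩
      · exact ⟨le_trans (show U.1 ≤ Y.1 from hU ▸ le_sup_right) hYW, Subtype.ext hU⟩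
  have hYS : Y ∉ S := by
    simp only [hS, Finset.mem_filter, Finset.mem_univ, true_and, not_and]
    intro hd' 
    obtain ⟨v, hv, -, hLv⟩ := hL.exists_gen
    have hvL : v ∈ L.1 := by rw [hLv]; exact ⟨1, by simp⟩
    exact absurd (Submodule.disjoint_def.1 hd' v hvL (hLY hvL)) hv
  have hwtS : ∀ U ∈ S, wt U = wt W₀ := by
    intro U hU
    simp only [hS, Finset.mem_filter, Finset.mem_univ, true_and] at hU
    have h := (factors_sup hU.1 hU.2.symm).symm.trans (factors_sup hd hsup.symm)
    rw [wt, wt, add_left_cancel h]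
  have hScard : S.card = Nat.card F ^ (p.natDegree * (factors W₀).count p) := by
    rw [← card_homs hf hL W₀, ← hcard, Nat.card_eq_fintype_card, Fintype.card_subtype]
  rw [hfib, Finset.sum_insert hYS, Finset.sum_congr rfl hwtS, Finset.sum_const, hScard, hwtY,
    nsmul_eq_mul]
  push_cast
  ring

end Cfsg.Agent.GLOrder
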