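/-
Chains of invariant subspaces and the Steinberg alternating sum.
* `card_fixedBy_parabolic` : fixed cosets of a parabolic = invariant chains of the given dimensions
* `altSum_eq` : the alternating sum over chains is `(-1)^n` times the weight
-/
import Cfsg.Agent.EqLemmas
import Cfsg.Agent.Lib.GLOrder.InvariantLattice

set_option autoImplicit false
set_option linter.style.haveILetI false
set_option linter.unusedSectionVars false
set_option linter.unusedSimpArgs false

namespace Cfsg.Agent.GLOrder

open Module

universe u v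

section altsum

variable {F : Type u} [Field F] [Finite F] {V : Type v} [AddCommGroup V] [Module F V]
  [FiniteDimensional F V] {f : Module.End F V}

/-- Dimension of an invariant subspace. -/
noncomputable def rk (W : Inv f) : ℕ := finrank F W.1

/-- Chains of invariant subspaces with prescribed dimensions and top `W`. -/
abbrev Chains (f : Module.End F V) {n : ℕ} (s : Fin (n + 1) → ℕ) (W : Inv f) : Type v :=
  {c : Fin (n + 1) → Inv f // Monotone c ∧ (∀ i, rk (c i) = s i) ∧ c (Fin.last n) = W}

/-- The permutations entering the Steinberg sum. -/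
def validPerms (n : ℕ) : Finset (Equiv.Perm (Fin n)) :=
  Finset.univ.filter fun κ => ∀ i, (κ i).val ≤ i.val + 1

/-- Partial sums of the parts attached to a permutation. -/
def psum {n : ℕ} (κ : Equiv.Perm (Fin n)) (i : Fin n) : ℕ :=
  ∑ j, if j ≤ i then j.val + 1 - (κ j).val else 0

/-- Partial sums with the last part increased. -/
def psumE {n : ℕ} (κ : Equiv.Perm (Fin (n + 1))) (e : ℕ) (i : Fin (n + 1)) : ℕ :=
  psum κ i + if i = Fin.last n then e else 0

/-- The alternating sum. -/
noncomputable def altSum (f : Module.End F V) (n e : ℕ) (W : Inv f) : ℤ :=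
  ∑ κ ∈ validPerms (n + 1), (Equiv.Perm.sign κ : ℤ) * (Nat.card (Chains f (psumE κ e) W) : ℤ)

/-- Extension fixing the last point. -/
def extPerm {n : ℕ} (κ : Equiv.Perm (Fin n)) : Equiv.Perm (Fin (n + 1)) :=
  finSuccEquivLast.symm.permCongr κ.optionCongr

theorem extPerm_castSucc {n : ℕ} (κ : Equiv.Perm (Fin n)) (i : Fin n) :
    extPerm κ (Fin.castSucc i) = Fin.castSucc (κ i) := by
  simp [extPerm, Equiv.permCongr_apply]

theorem extPerm_last {n : ℕ} (κ : Equiv.Perm (Fin n)) : extPerm κ (Fin.last n) = Fin.last n := by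
  simp [extPerm, Equiv.permCongr_apply]

theorem sign_extPerm {n : ℕ} (κ : Equiv.Perm (Fin n)) :
    Equiv.Perm.sign (extPerm κ) = Equiv.Perm.sign κ := by
  simp [extPerm]

theorem extPerm_injective {n : ℕ} : Function.Injective (extPerm (n := n)) := by
  intro a b h
  ext i
  have := congrArg (fun π : Equiv.Perm (Fin (n + 1)) => (π (Fin.castSucc i)).val) h
  simpa [extPerm_castSucc] using this

/-- The second extension. -/
def extSwap {n : ℕ} (κ : Equiv.Perm (Fin (n + 1))) : Equiv.Perm (Fin (n + 2)) :=
  extPerm κ * Equiv.swap (Fin.castSucc (Fin.last n)) (Fin.last (n + 1))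

theorem mem_validPerms {n : ℕ} {κ : Equiv.Perm (Fin n)} :
    κ ∈ validPerms n ↔ ∀ i, (κ i).val ≤ i.val + 1 := by simp [validPerms]

theorem extPerm_mem {n : ℕ} {κ : Equiv.Perm (Fin n)} (h : κ ∈ validPerms n) :
    extPerm κ ∈ validPerms (n + 1) := by
  rw [mem_validPerms] at h ⊢
  intro i
  induction i using Fin.lastCases with
  | last => rw [extPerm_last]; simp
  | cast i => rw [extPerm_castSucc]; simpa using h i

theorem extSwap_apply_last {n : ℕ} (κ : Equiv.Perm (Fin (n + 1))) :
    extSwap κ (Fin.last (n + 1)) = Fin.castSucc (κ (Fin.last n)) := by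
  simp [extSwap, extPerm_castSucc]

theorem extSwap_apply_penult {n : ℕ} (κ : Equiv.Perm (Fin (n + 1))) :
    extSwap κ (Fin.castSucc (Fin.last n)) = Fin.last (n + 1) := by
  simp [extSwap, extPerm_last]

theorem extSwap_apply_castSucc {n : ℕ} (κ : Equiv.Perm (Fin (n + 1))) (i : Fin (n + 1))
    (h : i ≠ Fin.last n) : extSwap κ (Fin.castSucc i) = Fin.castSucc (κ i) := by
  rw [extSwap, Equiv.Perm.mul_apply, Equiv.swap_apply_of_ne_of_ne
    (fun h' => h (Fin.castSucc_injective _ h')) (Fin.castSucc_lt_last i).ne, extPerm_castSucc]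

theorem extSwap_mem {n : ℕ} {κ : Equiv.Perm (Fin (n + 1))} (h : κ ∈ validPerms (n + 1)) :
    extSwap κ ∈ validPerms (n + 2) := by
  rw [mem_validPerms] at h ⊢
  intro i
  induction i using Fin.lastCases with
  | last =>
    rw [extSwap_apply_last]
    have := (κ (Fin.last n)).2
    simp only [Fin.val_castSucc, Fin.val_last]
    omega
  | cast i =>
    by_cases hi : i = Fin.last n
    · subst hi; rw [extSwap_apply_penult]; simp
    · rw [extSwap_apply_castSucc κ i hi]; simpa using h i

/-- Splitting off the last position. -/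
theorem sum_validPerms {n : ℕ} {M : Type*} [AddCommMonoid M] (φ : Equiv.Perm (Fin (n + 2)) → M) :
    ∑ κ ∈ validPerms (n + 2), φ κ =
      ∑ κ ∈ validPerms (n + 1), φ (extPerm κ) + ∑ κ ∈ validPerms (n + 1), φ (extSwap κ) := by
  classical
  have hinj : Function.Injective (extSwap (n := n)) := fun a b h => extPerm_injective (mul_right_cancel h)
  rw [← Finset.sum_image (f := φ) (g := extPerm) (fun a _ b _ h => extPerm_injective h),
    ← Finset.sum_image (f := φ) (g := extSwap) (fun a _ b _ h => hinj h), ← Finset.sum_union]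
  · refine Finset.sum_congr ?_ fun _ _ => rfl
    ext π
    simp only [Finset.mem_union, Finset.mem_image]
    constructor
    · intro hπ
      rw [mem_validPerms] at hπ
      have hdesc : ∀ σ : Equiv.Perm (Fin (n + 2)), σ (Fin.last (n + 1)) = Fin.last (n + 1) →
          (∀ i, i ≠ Fin.last (n + 1) → (σ i).val ≤ i.val + 1) →
          ∃ κ ∈ validPerms (n + 1), extPerm κ = σ := by
        intro σ hσ hv
        have hne : ∀ i : Fin (n + 1), σ (Fin.castSucc i) ≠ Fin.last (n + 1) := fun i h =>
          (Fin.castSucc_lt_last i).ne (σ.injective (h.trans hσ.symm))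
        let κ₀ : Fin (n + 1) → Fin (n + 1) := fun i => (σ (Fin.castSucc i)).castPred (hne i)
        have hbij : Function.Bijective κ₀ :=
          Finite.injective_iff_bijective.1 fun a b h => Fin.castSucc_injective _ (σ.injective (by
            simpa [κ₀, Fin.castPred_inj] using h))
        refine ⟨Equiv.ofBijective κ₀ hbij, ?_, ?_⟩
        · rw [mem_validPerms]
          intro i
          simpa [κ₀] using hv _ (Fin.castSucc_lt_last i).ne
        · ext i
          induction i using Fin.lastCases with
          | last => rw [extPerm_last, hσ]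
          | cast i => rw [extPerm_castSucc]; simp [κ₀]
      rcases eq_or_ne (π (Fin.last (n + 1))) (Fin.last (n + 1)) with h | h
      · exact Or.inl (hdesc π h fun i _ => hπ i)
      · right
        have hpen : π (Fin.castSucc (Fin.last n)) = Fin.last (n + 1) := by
          obtain ⟨i, hi⟩ := π.surjective (Fin.last (n + 1))
          have h1 := hπ i
          rw [hi, Fin.val_last] at h1
          induction i using Fin.lastCases with
          | last => exact absurd hi h
          | cast i =>
            have : i = Fin.last n := by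
              ext
              simp only [Fin.val_castSucc, Fin.val_last] at h1 ⊢
              omega
            rwa [← this]
        obtain ⟨κ, hκ, hκπ⟩ := hdesc (π * Equiv.swap (Fin.castSucc (Fin.last n)) (Fin.last (n + 1)))
          (by simp [hpen]) (by
            intro i hi
            induction i using Fin.lastCases with
            | last => exact absurd rfl hi
            | cast i =>
              by_cases h' : i = Fin.last n
              · subst h'
                have := (π (Fin.last (n + 1))).2
                simp only [Equiv.Perm.mul_apply, Equiv.swap_apply_left, Fin.val_castSucc, Fin.val_last]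
                omega
              · rw [Equiv.Perm.mul_apply, Equiv.swap_apply_of_ne_of_ne
                  (fun h'' => h' (Fin.castSucc_injective _ h'')) hi]
                exact hπ _)
        exact ⟨κ, hκ, by rw [extSwap, hκπ, mul_assoc, Equiv.swap_mul_self, mul_one]⟩
    · rintro (⟨κ, hκ, rfl⟩ | ⟨κ, hκ, rfl⟩)
      · exact extPerm_mem hκ
      · exact extSwap_mem hκ
  · rw [Finset.disjoint_left]
    simp only [Finset.mem_image]
    rintro _ ⟨a, -, rfl⟩ ⟨b, -, hb⟩
    have := congrArg (fun σ : Equiv.Perm (Fin (n + 2)) => σ (Fin.last (n + 1))) hb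
    simp only [extPerm_last, extSwap_apply_last] at this
    exact (Fin.castSucc_lt_last _).ne this

theorem psum_last {n : ℕ} {κ : Equiv.Perm (Fin (n + 1))} (h : κ ∈ validPerms (n + 1)) :
    psum κ (Fin.last n) = n + 1 := by
  rw [mem_validPerms] at h
  have h1 : psum κ (Fin.last n) + ∑ j, (κ j).val = ∑ j : Fin (n + 1), (j.val + 1) := by
    rw [psum, ← Finset.sum_add_distrib]
    refine Finset.sum_congr rfl fun j _ => ?_
    rw [if_pos (Fin.le_last j)]
    exact Nat.sub_add_cancel (h j)
  rw [Equiv.sum_comp κ (fun j : Fin (n + 1) => j.val), Finset.sum_add_distrib, Finset.sum_const,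
    Finset.card_univ, Fintype.card_fin, smul_eq_mul, mul_one] at h1
  omega

theorem psum_mono {n : ℕ} (κ : Equiv.Perm (Fin n)) : Monotone (psum κ) := fun a b hab =>
  Finset.sum_le_sum fun j _ => by split_ifs with h1 h2 <;> first | exact le_rfl | exact Nat.zero_le _ | exact absurd (h1.trans hab) h2

theorem psum_extPerm {n : ℕ} (κ : Equiv.Perm (Fin (n + 1))) :
    (∀ i, psum (extPerm κ) (Fin.castSucc i) = psum κ i) ∧
      psum (extPerm κ) (Fin.last (n + 1)) = psum κ (Fin.last n) + 1 := by
  constructor
  · intro i
    rw [psum, psum, Fin.sum_univ_castSucc, if_neg (not_le.2 (Fin.castSucc_lt_last i)), add_zero]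
    simp [extPerm_castSucc]
  · rw [psum, psum, Fin.sum_univ_castSucc, extPerm_last]
    simp [extPerm_castSucc, Fin.le_last]

theorem psum_extSwap {n : ℕ} (κ : Equiv.Perm (Fin (n + 1))) (h : κ ∈ validPerms (n + 1)) :
    (∀ i, i ≠ Fin.last n → psum (extSwap κ) (Fin.castSucc i) = psum κ i) ∧
      psum (extSwap κ) (Fin.castSucc (Fin.last n)) = psum κ (Fin.last n) - (n + 1 - (κ (Fin.last n)).val) ∧
      psum (extSwap κ) (Fin.last (n + 1)) = psum κ (Fin.last n) + 1 := by
  have hrest : ∀ j : Fin n, extSwap κ (Fin.castSucc (Fin.castSucc j)) =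
      Fin.castSucc (κ (Fin.castSucc j)) := fun j =>
    extSwap_apply_castSucc κ _ (Fin.castSucc_lt_last j).ne
  refine ⟨fun i hi => ?_, ?_, ?_⟩
  · rw [psum, psum, Fin.sum_univ_castSucc, if_neg (not_le.2 (Fin.castSucc_lt_last i)), add_zero,
      Fin.sum_univ_castSucc, Fin.sum_univ_castSucc (n := n),
      if_neg (fun hl => hi (le_antisymm (Fin.le_last i) (Fin.castSucc_le_castSucc_iff.1 hl))),
      if_neg (fun hl => hi (le_antisymm (Fin.le_last i) hl))]
    simp [hrest]
  · rw [psum, psum, Fin.sum_univ_castSucc, if_neg (not_le.2 (Fin.castSucc_lt_last _)), add_zero,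
      Fin.sum_univ_castSucc, Fin.sum_univ_castSucc (n := n), extSwap_apply_penult]
    simp [hrest, Fin.le_last]
  · rw [psum, psum, Fin.sum_univ_castSucc, extSwap_apply_last, Fin.sum_univ_castSucc,
      Fin.sum_univ_castSucc (n := n), extSwap_apply_penult]
    simp only [hrest, Fin.le_last, if_true, Fin.val_castSucc, Fin.val_last, Nat.sub_self, add_zero]
    have := (κ (Fin.last n)).2
    omega

theorem sign_extSwap {n : ℕ} (κ : Equiv.Perm (Fin (n + 1))) :
    (Equiv.Perm.sign (extSwap κ) : ℤ) = -(Equiv.Perm.sign κ : ℤ) := by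
  rw [extSwap, Equiv.Perm.sign_mul, sign_extPerm,
    Equiv.Perm.sign_swap (Fin.castSucc_lt_last _).ne]
  simp

theorem inv_le_iff {A B : Inv f} : A ≤ B ↔ A.1 ≤ B.1 := Iff.rfl

theorem inv_eq_of_le {A B : Inv f} (h : A ≤ B) (hr : rk B ≤ rk A) : A = B :=
  Subtype.ext (Submodule.eq_of_le_of_finrank_le h hr)

instance [Finite F] {n : ℕ} (s : Fin (n + 1) → ℕ) (W : Inv f) : Finite (Chains f s W) := by
  haveI : Finite V := Module.finite_of_finite F
  exact Subtype.finite

open scoped Classical in
theorem card_chains_extPerm [Fintype (Inv f)] {n e : ℕ} (κ : Equiv.Perm (Fin (n + 1)))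
    (hκ : κ ∈ validPerms (n + 1)) (W : Inv f) (hW : rk W = n + 2 + e) :
    Nat.card (Chains f (psumE (extPerm κ) e) W) =
      ∑ U ∈ Finset.univ.filter (fun U : Inv f => U ≤ W ∧ rk U = n + 1),
        Nat.card (Chains f (psumE κ 0) U) := by
  obtain ⟨h1, h2⟩ := psum_extPerm κ
  rw [← Finset.sum_coe_sort, ← Nat.card_sigma]
  refine Nat.card_eq_of_bijective (fun c => ?_) ?_
  · exact ⟨⟨c.1 (Fin.castSucc (Fin.last n)), by
        simp only [Finset.mem_filter, Finset.mem_univ, true_and]
        refine ⟨(c.2.1 (Fin.le_last _)).trans c.2.2.2.le, ?_⟩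
        rw [c.2.2.1, psumE, if_neg (Fin.castSucc_lt_last _).ne, h1, psum_last hκ, add_zero]⟩,
      ⟨fun i => c.1 (Fin.castSucc i), fun a b hab => c.2.1 (Fin.castSucc_le_castSucc_iff.2 hab),
        fun i => by
          rw [c.2.2.1, psumE, psumE, if_neg (Fin.castSucc_lt_last _).ne, h1]
          simp, rfl⟩⟩
  · constructor
    · intro c c' h
      apply Subtype.ext
      funext i
      induction i using Fin.lastCases with
      | last => rw [c.2.2.2, c'.2.2.2]
      | cast i => exact congrArg (fun z : (U : {x // x ∈ Finset.univ.filter (fun U : Inv f =>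
          U ≤ W ∧ rk U = n + 1)}) × Chains f (psumE κ 0) U.1 => z.2.1 i) h
    · rintro ⟨⟨U, hU⟩, c, hc1, hc2, hc3⟩
      simp only [Finset.mem_filter, Finset.mem_univ, true_and] at hU
      have hcU : ∀ i, c i ≤ U := fun i => (hc1 (Fin.le_last i)).trans hc3.le
      refine ⟨⟨Fin.lastCases W c, ?_, ?_, Fin.lastCases_last⟩, ?_⟩
      · intro a b hab
        induction b using Fin.lastCases with
        | last =>
          induction a using Fin.lastCases with
          | last => exact le_rfl
          | cast a => simp only [Fin.lastCases_last, Fin.lastCases_castSucc]; exact (hcU a).trans hU.1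
        | cast b =>
          induction a using Fin.lastCases with
          | last => exact absurd hab (not_le.2 (Fin.castSucc_lt_last b))
          | cast a =>
            simp only [Fin.lastCases_castSucc]
            exact hc1 (Fin.castSucc_le_castSucc_iff.1 hab)
      · intro i
        dsimp only
        induction i using Fin.lastCases with
        | last => rw [Fin.lastCases_last, psumE, if_pos rfl, h2, psum_last hκ, hW]
        | cast i =>
          rw [Fin.lastCases_castSucc, hc2, psumE, psumE, if_neg (Fin.castSucc_lt_last i).ne, h1]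
          simp
      · refine Sigma.subtype_ext (Subtype.ext ?_) ?_
        · simp only [Fin.lastCases_castSucc, hc3]
        · funext i
          simp only [Fin.lastCases_castSucc]

theorem card_chains_extSwap {n e : ℕ} (κ : Equiv.Perm (Fin (n + 1))) (hκ : κ ∈ validPerms (n + 1))
    (W : Inv f) (hW : rk W = n + 2 + e) :
    Nat.card (Chains f (psumE (extSwap κ) e) W) = Nat.card (Chains f (psumE κ (e + 1)) W) := by
  classical
  obtain ⟨h1, h2, h3⟩ := psum_extSwap κ hκ
  have hlast := psum_last hκ
  have hpen : psumE (extSwap κ) e (Fin.castSucc (Fin.last n)) =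
      n + 1 - (n + 1 - (κ (Fin.last n)).val) := by
    rw [psumE, if_neg (Fin.castSucc_lt_last _).ne, h2, hlast, add_zero]
  have hdim : ∀ i : Fin (n + 1), i ≠ Fin.last n →
      psumE (extSwap κ) e (Fin.castSucc i) = psumE κ (e + 1) i := fun i hi => by
    rw [psumE, psumE, if_neg (Fin.castSucc_lt_last i).ne, if_neg hi, h1 i hi]
  let bot : Inv f := ⟨⊥, fun x hx => by rw [Submodule.mem_bot] at hx ⊢; simp [hx]⟩
  let prev : (Fin (n + 1) → Inv f) → Inv f := fun c =>
    if h : n = 0 then bot else c ⟨n - 1, by omega⟩
  have hprevdim : ∀ c : Chains f (psumE κ (e + 1)) W,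
      rk (prev c.1) = n + 1 - (n + 1 - (κ (Fin.last n)).val) := by
    intro c
    have hs : psum κ (Fin.last n) = ∑ j : Fin n, ((j.val) + 1 - (κ (Fin.castSucc j)).val) +
        (n + 1 - (κ (Fin.last n)).val) := by
      rw [psum, Fin.sum_univ_castSucc]; simp [Fin.le_last]
    rcases Nat.eq_zero_or_pos n with h0 | h0
    · subst h0
      simp only [prev, dite_true]
      rw [show rk bot = 0 from finrank_bot F V]
      have := (κ (Fin.last 0)).2
      omega
    · obtain ⟨m, rfl⟩ : ∃ m, n = m + 1 := ⟨n - 1, by omega⟩
      have hne : (⟨m, by omega⟩ : Fin (m + 2)) ≠ Fin.last (m + 1) := fun h => by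
        have := congrArg Fin.val h
        simp at this
      simp only [prev, dif_neg (show ¬ m + 1 = 0 by omega), show m + 1 - 1 = m by omega]
      rw [c.2.2.1, psumE, if_neg hne, add_zero, psum, Fin.sum_univ_castSucc,
        if_neg (fun h => by have := Fin.le_def.1 h; simp at this), add_zero]
      have : ∀ j : Fin (m + 1), Fin.castSucc j ≤ (⟨m, by omega⟩ : Fin (m + 2)) := fun j => by
        rw [Fin.le_def]; simp; omega
      simp only [this, if_true, Fin.val_castSucc]
      rw [hlast] at hs
      omega
  have hprevle : ∀ c : Chains f (psumE κ (e + 1)) W, ∀ i, i ≠ Fin.last n → c.1 i ≤ prev c.1 := by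
    intro c i hi
    have hn : n ≠ 0 := fun h => hi (Fin.ext (by simp; omega))
    simp only [prev, dif_neg hn]
    exact c.2.1 (Fin.le_def.2 (by
      have : i.val ≠ n := fun h => hi (Fin.ext (by simpa using h))
      simp; omega))
  have hprevW : ∀ c : Chains f (psumE κ (e + 1)) W, prev c.1 ≤ W := by
    intro c
    simp only [prev]
    split_ifs
    · exact fun x hx => by simp [bot] at hx; simp [hx]
    · exact (c.2.1 (Fin.le_last _)).trans c.2.2.2.le
  let fwd : Chains f (psumE κ (e + 1)) W → Chains f (psumE (extSwap κ) e) W := fun c =>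
    ⟨Fin.lastCases W (fun i => if i = Fin.last n then prev c.1 else c.1 i), by
      intro a b hab
      induction b using Fin.lastCases with
      | last =>
        induction a using Fin.lastCases with
        | last => exact le_rfl
        | cast a =>
          simp only [Fin.lastCases_last, Fin.lastCases_castSucc]
          split_ifs
          · exact hprevW c
          · exact (c.2.1 (Fin.le_last _)).trans c.2.2.2.le
      | cast b =>
        induction a using Fin.lastCases with
        | last => exact absurd hab (not_le.2 (Fin.castSucc_lt_last b))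
        | cast a =>
          have hab' := Fin.castSucc_le_castSucc_iff.1 hab
          simp only [Fin.lastCases_castSucc]
          split_ifs with ha hb hb
          · exact le_rfl
          · exact absurd (le_antisymm (Fin.le_last b) (ha ▸ hab')) hb
          · exact hprevle c a ha
          · exact c.2.1 hab',
      fun i => by
        dsimp only
        induction i using Fin.lastCases with
        | last => rw [Fin.lastCases_last, psumE, if_pos rfl, h3, hlast, hW]
        | cast i =>
          rw [Fin.lastCases_castSucc]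
          split_ifs with hi
          · subst hi; rw [hpen, hprevdim c]
          · rw [c.2.2.1, hdim i hi],
      Fin.lastCases_last⟩
  refine (Nat.card_eq_of_bijective fwd ⟨?_, ?_⟩).symm
  · intro c c' h
    apply Subtype.ext
    funext i
    by_cases hi : i = Fin.last n
    · subst hi; rw [c.2.2.2, c'.2.2.2]
    · have := congrArg (fun z : Chains f (psumE (extSwap κ) e) W => z.1 (Fin.castSucc i)) h
      simpa [fwd, hi] using this
  · intro c
    let c' : Chains f (psumE κ (e + 1)) W := ⟨fun i => if i = Fin.last n then W else c.1 (Fin.castSucc i), by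
      intro a b hab
      dsimp only
      split_ifs with ha hb hb
      · exact le_rfl
      · exact absurd (le_antisymm (Fin.le_last b) (ha ▸ hab)) hb
      · exact (c.2.1 (Fin.le_last _)).trans c.2.2.2.le
      · exact c.2.1 (Fin.castSucc_le_castSucc_iff.2 hab),
      fun i => by
        dsimp only
        split_ifs with hi
        · subst hi; rw [psumE, if_pos rfl, hlast, hW]; omega
        · rw [c.2.2.1, hdim i hi],
      by simp⟩
    refine ⟨c', Subtype.ext (funext fun i => ?_)⟩
    induction i using Fin.lastCases with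
    | last => simp only [fwd, Fin.lastCases_last, c.2.2.2]
    | cast i =>
      simp only [fwd, Fin.lastCases_castSucc]
      split_ifs with hi
      · subst hi
        refine inv_eq_of_le ?_ ?_
        · simp only [prev]
          split_ifs with h0
          · exact fun x hx => by simp [bot] at hx; simp [hx]
          · have hne : (⟨n - 1, by omega⟩ : Fin (n + 1)) ≠ Fin.last n := fun h => by
              have := congrArg Fin.val h; simp at this; omega
            simp only [c', if_neg hne]
            exact c.2.1 (Fin.castSucc_le_castSucc_iff.2 (Fin.le_last _))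
        · rw [c.2.2.1, hpen, hprevdim c']
      · simp [c', hi]

/-- The alternating sum over chains. -/
theorem altSum_eq [Fintype (Inv f)] [DecidableRel (α := Inv f) (· ≤ ·)] (hf : f.IsSemisimple) :
    ∀ (n e : ℕ) (W : Inv f), rk W = n + 1 + e →
      altSum f n e W = (-1) ^ n *
        ∑ U ∈ Finset.univ.filter (fun U : Inv f => U ≤ W ∧ rk U ≤ n), wt U := by
  classical
  intro n
  induction n with
  | zero =>
    intro e W hW
    let bot : Inv f := ⟨⊥, fun x hx => by rw [Submodule.mem_bot] at hx ⊢; simp [hx]⟩
    have hfil : Finset.univ.filter (fun U : Inv f => U ≤ W ∧ rk U ≤ 0) = {bot} := by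
      ext U
      simp only [Finset.mem_filter, Finset.mem_univ, true_and, Finset.mem_singleton]
      constructor
      · rintro ⟨-, h⟩; exact Subtype.ext (Submodule.finrank_eq_zero.1 (Nat.le_zero.1 h) : U.1 = ⊥)
      · rintro rfl
        exact ⟨fun x hx => by simp [bot] at hx; simp [hx], (finrank_bot F V).le⟩
    have hperm : validPerms 1 = {1} := by decide
    rw [altSum, hperm, Finset.sum_singleton, hfil, Finset.sum_singleton, wt_bot bot rfl]
    have : Nat.card (Chains f (psumE (1 : Equiv.Perm (Fin 1)) e) W) = 1 := by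
      rw [Nat.card_eq_one_iff_unique]
      refine ⟨⟨fun a b => Subtype.ext (funext fun i => ?_)⟩, ⟨⟨fun _ => W, fun _ _ _ => le_rfl,
        fun i => ?_, rfl⟩⟩⟩
      · rw [Fin.eq_zero i]; exact a.2.2.2.trans b.2.2.2.symm
      · rw [Fin.eq_zero i, hW]; simp [psumE, psum]
    rw [this]; simp
  | succ n ih =>
    intro e W hW
    rw [altSum, sum_validPerms]
    have hA : ∑ κ ∈ validPerms (n + 1), (Equiv.Perm.sign (extPerm κ) : ℤ) *
          (Nat.card (Chains f (psumE (extPerm κ) e) W) : ℤ) =
        ∑ U ∈ Finset.univ.filter (fun U : Inv f => U ≤ W ∧ rk U = n + 1),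
          (-1) ^ (n + 1) * wt U := by
      rw [Finset.sum_congr rfl fun κ hκ => by
        rw [sign_extPerm, card_chains_extPerm κ hκ W (by omega), Nat.cast_sum, Finset.mul_sum]]
      rw [Finset.sum_comm]
      refine Finset.sum_congr (by ext; simp) fun U hU => ?_
      simp only [Finset.mem_filter, Finset.mem_univ, true_and] at hU
      show altSum f n 0 U = _
      rw [ih 0 U (by omega)]
      have hU0 : U.1 ≠ ⊥ := fun h => by rw [rk, h, finrank_bot] at hU; omega
      have hsum := sum_wt_eq_zero hf U hU0
      have hins : Finset.univ.filter (fun U' : Inv f => U' ≤ U) =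
          insert U (Finset.univ.filter (fun U' : Inv f => U' ≤ U ∧ rk U' ≤ n)) := by
        ext U'
        simp only [Finset.mem_filter, Finset.mem_univ, true_and, Finset.mem_insert]
        constructor
        · intro h
          rcases Nat.lt_or_ge n (rk U') with hd | hd
          · exact Or.inl (inv_eq_of_le h (by omega))
          · exact Or.inr ⟨h, hd⟩
        · rintro (rfl | ⟨h, -⟩)
          · exact le_rfl
          · exact h
      rw [hins, Finset.sum_insert (by
        simp only [Finset.mem_filter, Finset.mem_univ, true_and, not_and]; intro _; omega)] at hsum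
      rw [pow_succ]
      linear_combination (-1 : ℤ) ^ n * hsum
    have hB : ∑ κ ∈ validPerms (n + 1), (Equiv.Perm.sign (extSwap κ) : ℤ) *
          (Nat.card (Chains f (psumE (extSwap κ) e) W) : ℤ) = -altSum f n (e + 1) W := by
      rw [altSum, ← Finset.sum_neg_distrib]
      refine Finset.sum_congr rfl fun κ hκ => ?_
      rw [sign_extSwap, card_chains_extSwap κ hκ W (by omega), neg_mul]
    rw [hA, hB, ih (e + 1) W (by omega), ← Finset.mul_sum]
    have hsplit : Finset.univ.filter (fun U : Inv f => U ≤ W ∧ rk U ≤ n + 1) =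
        Finset.univ.filter (fun U : Inv f => U ≤ W ∧ rk U = n + 1) ∪
          Finset.univ.filter (fun U : Inv f => U ≤ W ∧ rk U ≤ n) := by
      ext U
      simp only [Finset.mem_filter, Finset.mem_univ, true_and, Finset.mem_union]
      constructor
      · rintro ⟨h, hd⟩
        rcases Nat.lt_or_ge n (rk U) with h' | h'
        · exact Or.inl ⟨h, by omega⟩
        · exact Or.inr ⟨h, h'⟩
      · rintro (⟨h, hd⟩ | ⟨h, hd⟩) <;> exact ⟨h, by omega⟩
    rw [hsplit, Finset.sum_union (by
      rw [Finset.disjoint_left]
      simp only [Finset.mem_filter, Finset.mem_univ, true_and]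
      rintro U ⟨-, h⟩ ⟨-, h'⟩
      omega), pow_succ]
    ring

end altsum

section cosets

variable {F : Type u} [Field F] {n : ℕ}

/-- The span of the first `a` standard vectors. -/
def stdSub (F : Type u) [Field F] (n a : ℕ) : Submodule F (Fin n → F) where
  carrier := {v | ∀ i : Fin n, a ≤ i.val → v i = 0}
  add_mem' hu hv i hi := by simp [hu i hi, hv i hi]
  zero_mem' i _ := rfl
  smul_mem' c v hv i hi := by simp [hv i hi]

theorem mem_stdSub {a : ℕ} {v : Fin n → F} :
    v ∈ stdSub F n a ↔ ∀ i : Fin n, a ≤ i.val → v i = 0 := Iff.rfl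

theorem stdSub_mono {a b : ℕ} (h : a ≤ b) : stdSub F n a ≤ stdSub F n b :=
  fun _ hv i hi => hv i (h.trans hi)

theorem finrank_stdSub {a : ℕ} (ha : a ≤ n) : finrank F (stdSub F n a) = a := by
  let e : stdSub F n a ≃ₗ[F] (Fin a → F) :=
    { toFun := fun v i => v.1 (Fin.castLE ha i)
      map_add' := fun _ _ => rfl
      map_smul' := fun _ _ => rfl
      invFun := fun w => ⟨fun i => if h : i.val < a then w ⟨i.val, h⟩ else 0,
        fun i hi => dif_neg (not_lt.2 hi)⟩
      left_inv := fun v => by
        ext i
        simp only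
        split_ifs with h
        · rfl
        · exact (v.2 i (not_lt.1 h)).symm
      right_inv := fun w => by
        funext i
        simp }
  rw [e.finrank_eq, Module.finrank_fin_fun]

/-- An automorphism moving `S` to `A` inside `Y` and fixing all larger subspaces. -/
theorem exists_aut {V : Type v} [AddCommGroup V] [Module F V] [FiniteDimensional F V]
    {Y S A : Submodule F V} (hS : S ≤ Y) (hA : A ≤ Y) (hd : finrank F S = finrank F A) :
    ∃ h : V ≃ₗ[F] V, S.map h.toLinearMap = A ∧ ∀ Z : Submodule F V, Y ≤ Z → Z.map h.toLinearMap = Z := by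
  obtain ⟨S', hS'⟩ := Submodule.exists_isCompl (S.comap Y.subtype)
  obtain ⟨A', hA'⟩ := Submodule.exists_isCompl (A.comap Y.subtype)
  obtain ⟨C, hC⟩ := Submodule.exists_isCompl Y
  have d1 : finrank F (S.comap Y.subtype) = finrank F (A.comap Y.subtype) := by
    rw [(Submodule.comapSubtypeEquivOfLe hS).finrank_eq, (Submodule.comapSubtypeEquivOfLe hA).finrank_eq,
      hd]
  have d2 : finrank F S' = finrank F A' := by
    have h1 := Submodule.finrank_add_eq_of_isCompl hS'
    have h2 := Submodule.finrank_add_eq_of_isCompl hA'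
    omega
  let e₁ := LinearEquiv.ofFinrankEq _ _ d1
  let eY : Y ≃ₗ[F] Y := (Submodule.prodEquivOfIsCompl _ _ hS').symm.trans
    ((e₁.prodCongr (LinearEquiv.ofFinrankEq _ _ d2)).trans (Submodule.prodEquivOfIsCompl _ _ hA'))
  let P := Submodule.prodEquivOfIsCompl Y C hC
  let h : V ≃ₗ[F] V := P.symm.trans ((eY.prodCongr (LinearEquiv.refl F C)).trans P)
  have hY : ∀ y : Y, h (y : V) = (eY y : V) := fun y => by
    have : P.symm (y : V) = (y, 0) := Submodule.prodEquivOfIsCompl_symm_apply_left _ _ hC y
    simp [h, this, P]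
  have hsub : ∀ v, h v - v ∈ Y := fun v => by
    obtain ⟨⟨y, c⟩, rfl⟩ := P.surjective v
    have : h (P (y, c)) = (eY y : V) + c := by simp [h, P]
    rw [this]
    simpa [P] using Y.sub_mem (eY y).2 y.2
  refine ⟨h, ?_, fun Z hZ => ?_⟩
  · refine Submodule.eq_of_le_of_finrank_le ?_ (by
      rw [(Submodule.equivMapOfInjective _ h.injective S).finrank_eq.symm, hd])
    rintro _ ⟨x, hx, rfl⟩
    rw [LinearEquiv.coe_coe, hY ⟨x, hS hx⟩]
    have hx' : (⟨x, hS hx⟩ : Y) ∈ S.comap Y.subtype := hx
    have : eY ⟨x, hS hx⟩ = (e₁ ⟨_, hx'⟩ : Y) := by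
      have h1 : (Submodule.prodEquivOfIsCompl _ _ hS').symm ((⟨_, hx'⟩ : S.comap Y.subtype) : Y) =
          (⟨_, hx'⟩, 0) := Submodule.prodEquivOfIsCompl_symm_apply_left _ _ hS' _
      simp [eY, h1]
    rw [this]
    exact (e₁ ⟨_, hx'⟩).2
  · refine Submodule.eq_of_le_of_finrank_le ?_ (by
      rw [(Submodule.equivMapOfInjective _ h.injective Z).finrank_eq.symm])
    rintro _ ⟨x, hx, rfl⟩
    simpa using Z.add_mem (hZ (hsub x)) hx

/-- `g` applied to a subspace. -/
noncomputable def gsub (g : GL (Fin n) F) (W : Submodule F (Fin n → F)) : Submodule F (Fin n → F) :=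
  W.map (Matrix.toLin' (g : Matrix (Fin n) (Fin n) F))

theorem gsub_mul (g h : GL (Fin n) F) (W : Submodule F (Fin n → F)) :
    gsub (g * h) W = gsub g (gsub h W) := by
  rw [gsub, gsub, gsub, Units.val_mul, Matrix.toLin'_mul, Submodule.map_comp]

theorem gsub_one (W : Submodule F (Fin n → F)) : gsub (1 : GL (Fin n) F) W = W := by
  rw [gsub, Units.val_one, Matrix.toLin'_one, Submodule.map_id]

theorem gsub_inv_gsub (g : GL (Fin n) F) (W : Submodule F (Fin n → F)) : gsub g⁻¹ (gsub g W) = W := by
  rw [← gsub_mul, inv_mul_cancel, gsub_one]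

theorem finrank_gsub (g : GL (Fin n) F) (W : Submodule F (Fin n → F)) :
    finrank F (gsub g W) = finrank F W := by
  have hinj : Function.Injective (Matrix.toLin' (g : Matrix (Fin n) (Fin n) F)) := by
    intro a b h
    have := congrArg (Matrix.toLin' ((g⁻¹ : GL (Fin n) F) : Matrix (Fin n) (Fin n) F)) h
    rwa [← LinearMap.comp_apply, ← LinearMap.comp_apply, ← Matrix.toLin'_mul, ← Units.val_mul,
      inv_mul_cancel, Units.val_one, Matrix.toLin'_one, LinearMap.id_apply, LinearMap.id_apply] at this
  exact (Submodule.equivMapOfInjective _ hinj W).finrank_eq.symm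

variable (μ : Fin n → ℕ)

/-- Partial sums of a composition. -/
def partSum (a : Fin n) : ℕ := ∑ k ∈ Finset.univ.filter (fun k : Fin n => k ≤ a), μ k

theorem mem_parabolic_iff_gsub (g : GL (Fin n) F) :
    g ∈ Cfsg.parabolicGL n F μ ↔ ∀ a, gsub g (stdSub F n (partSum μ a)) = stdSub F n (partSum μ a) := by
  constructor
  · intro hg a
    refine Submodule.eq_of_le_of_finrank_le ?_ (finrank_gsub g _).ge
    rintro _ ⟨v, hv, rfl⟩ i hi
    rw [Matrix.toLin'_apply, Matrix.mulVec, dotProduct]
    refine Finset.sum_eq_zero fun j _ => ?_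
    rcases Nat.lt_or_ge j.val (partSum μ a) with hj | hj
    · rw [show (g : Matrix (Fin n) (Fin n) F) i j = 0 from hg ?_, zero_mul]
      refine Finset.card_lt_card (Finset.ssubset_iff_of_subset ?_ |>.2 ⟨a, ?_, ?_⟩)
      · intro b hb
        simp only [Finset.mem_filter, Finset.mem_univ, true_and] at hb ⊢
        omega
      · simpa [partSum] using hi
      · simp only [Finset.mem_filter, Finset.mem_univ, true_and, not_le]
        exact hj
    · rw [hv j hj, mul_zero]
  · intro h i j hij
    obtain ⟨a, ha1, ha2⟩ : ∃ a, partSum μ a ≤ i.val ∧ ¬ partSum μ a ≤ j.val := by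
      by_contra hc
      push Not at hc
      refine absurd hij (not_lt.2 (Finset.card_le_card fun b hb => ?_))
      simp only [Finset.mem_filter, Finset.mem_univ, true_and] at hb ⊢
      exact hc b hb
    have hv : Pi.single j (1 : F) ∈ stdSub F n (partSum μ a) := fun k hk =>
      Pi.single_eq_of_ne (by rintro rfl; exact ha2 hk) _
    have := (h a).le ⟨_, hv, rfl⟩ i ha1
    simpa using this

end cosets

section fixed

variable {F : Type u} [Field F] [Finite F] {m : ℕ}

/-- Fixed cosets of a parabolic are invariant chains. -/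
theorem card_fixedBy_parabolic (μ : Fin (m + 1) → ℕ) (x : GL (Fin (m + 1)) F)
    (hle : ∀ a, partSum μ a ≤ m + 1) (hmono : Monotone (partSum μ))
    (hlast : partSum μ (Fin.last m) = m + 1) :
    Nat.card (MulAction.fixedBy (GL (Fin (m + 1)) F ⧸ Cfsg.parabolicGL (m + 1) F μ) x) =
      Nat.card (Chains (Matrix.toLin' (x : Matrix (Fin (m + 1)) (Fin (m + 1)) F)) (partSum μ)
        ⟨⊤, fun _ _ => trivial⟩) := by
  classical
  set f := Matrix.toLin' (x : Matrix (Fin (m + 1)) (Fin (m + 1)) F) with hf
  have hfix : ∀ g : GL (Fin (m + 1)) F,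
      ((g : GL (Fin (m + 1)) F ⧸ Cfsg.parabolicGL (m + 1) F μ) ∈ MulAction.fixedBy _ x) →
      ∀ a, ∀ v ∈ gsub g (stdSub F (m + 1) (partSum μ a)), f v ∈ gsub g (stdSub F (m + 1) (partSum μ a)) := by
    intro g hg a v hv
    rw [MulAction.mem_fixedBy, MulAction.Quotient.smul_mk, QuotientGroup.eq, smul_eq_mul,
      _root_.mul_inv_rev, mem_parabolic_iff_gsub] at hg
    have h1 := hg a
    rw [gsub_mul, gsub_mul] at h1
    have h2 : gsub x (gsub g (stdSub F (m + 1) (partSum μ a))) =
        gsub g (stdSub F (m + 1) (partSum μ a)) := by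
      have h3 := congrArg (fun W => gsub x (gsub g W)) h1
      rw [← gsub_mul x⁻¹, ← gsub_mul g⁻¹, ← gsub_mul g, ← gsub_mul x] at h3
      simp only [mul_inv_cancel_left, gsub_mul] at h3
      simpa [← gsub_mul] using h3.symm
    exact h2.le ⟨v, hv, rfl⟩
  have hout : ∀ q : GL (Fin (m + 1)) F ⧸ Cfsg.parabolicGL (m + 1) F μ, ((q.out : GL (Fin (m + 1)) F) : GL (Fin (m + 1)) F ⧸ Cfsg.parabolicGL (m + 1) F μ) = q :=
    fun q => Quotient.out_eq q
  refine Nat.card_eq_of_bijective (fun q => ⟨fun a => ⟨gsub q.1.out (stdSub F (m + 1) (partSum μ a)),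
    hfix _ (by rw [hout]; exact q.2) a⟩,
    fun a b hab => Submodule.map_mono (stdSub_mono (hmono hab)),
    fun a => by exact (finrank_gsub _ _).trans (finrank_stdSub (hle a)), ?_⟩) ⟨?_, ?_⟩
  · apply Subtype.ext
    apply Submodule.eq_top_of_finrank_eq
    show finrank F (gsub _ _) = _
    rw [finrank_gsub, finrank_stdSub (hle _), hlast, Module.finrank_fin_fun]
  · intro q q' h
    apply Subtype.ext
    rw [← hout q.1, ← hout q'.1, QuotientGroup.eq, mem_parabolic_iff_gsub]
    intro a
    have ha := congrArg (fun c : Chains f (partSum μ) ⟨⊤, fun _ _ => trivial⟩ => (c.1 a).1) h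
    simp only at ha
    rw [gsub_mul, ← ha, gsub_inv_gsub]
  · intro c
    -- an adapted element
    have key : ∀ t, t ≤ m → ∃ g : GL (Fin (m + 1)) F, ∀ i : Fin (m + 1), m - t ≤ i.val →
        gsub g (stdSub F (m + 1) (partSum μ i)) = (c.1 i).1 := by
      intro t
      induction t with
      | zero =>
        intro _
        refine ⟨1, fun i hi => ?_⟩
        have : i = Fin.last m := Fin.ext (by simp; omega)
        subst this
        rw [c.2.2.2, gsub_one]
        apply Submodule.eq_top_of_finrank_eq
        rw [finrank_stdSub (hle _), hlast, Module.finrank_fin_fun]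
      | succ t ih =>
        intro ht
        obtain ⟨g, hg⟩ := ih (by omega)
        let i₀ : Fin (m + 1) := ⟨m - (t + 1), by omega⟩
        let i₁ : Fin (m + 1) := ⟨m - t, by omega⟩
        have h01 : i₀ ≤ i₁ := Fin.le_def.2 (by simp [i₀, i₁]; omega)
        have hA : gsub g⁻¹ (c.1 i₀).1 ≤ stdSub F (m + 1) (partSum μ i₁) := by
          rw [← gsub_inv_gsub g (stdSub F (m + 1) (partSum μ i₁)), hg i₁ le_rfl]
          exact Submodule.map_mono (c.2.1 h01)
        obtain ⟨h, hh1, hh2⟩ := exists_aut (stdSub_mono (hmono h01)) hA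
          (by rw [finrank_stdSub (hle _), finrank_gsub]; exact (c.2.2.1 _).symm)
        let H : GL (Fin (m + 1)) F :=
          ⟨LinearMap.toMatrix' h.toLinearMap, LinearMap.toMatrix' h.symm.toLinearMap,
            by rw [← LinearMap.toMatrix'_comp]; simp,
            by rw [← LinearMap.toMatrix'_comp]; simp⟩
        have hH : ∀ W, gsub H W = W.map h.toLinearMap := fun W => by
          simp [gsub, H]
        refine ⟨g * H, fun i hi => ?_⟩
        rw [gsub_mul, hH]
        rcases Nat.lt_or_ge i.val (m - t) with hlt | hge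
        · have : i = i₀ := Fin.ext (by simp [i₀]; omega)
          subst this
          rw [hh1, ← gsub_mul, mul_inv_cancel, gsub_one]
        · rw [hh2 _ (stdSub_mono (hmono (Fin.le_def.2 (by simpa [i₁] using hge)))), hg i hge]
    obtain ⟨g, hg⟩ := key m le_rfl
    have hg' : ∀ a, gsub g (stdSub F (m + 1) (partSum μ a)) = (c.1 a).1 := fun a => hg a (by simp)
    have hmem : (g : GL (Fin (m + 1)) F ⧸ Cfsg.parabolicGL (m + 1) F μ) ∈ MulAction.fixedBy _ x := by
      rw [MulAction.mem_fixedBy, MulAction.Quotient.smul_mk, QuotientGroup.eq, smul_eq_mul,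
        _root_.mul_inv_rev, mem_parabolic_iff_gsub]
      intro a
      have hx : gsub x (c.1 a).1 = (c.1 a).1 := by
        refine Submodule.eq_of_le_of_finrank_le ?_ (finrank_gsub x _).ge
        rintro _ ⟨v, hv, rfl⟩
        exact (c.1 a).2 v hv
      have hx' : gsub x⁻¹ (c.1 a).1 = (c.1 a).1 := by
        conv_lhs => rw [← hx]
        rw [gsub_inv_gsub]
      rw [gsub_mul, gsub_mul, hg' a, hx', ← hg' a, gsub_inv_gsub]
    refine ⟨⟨_, hmem⟩, Subtype.ext (funext fun a => Subtype.ext ?_)⟩
    show gsub ((g : GL (Fin (m + 1)) F ⧸ Cfsg.parabolicGL (m + 1) F μ)).out _ = _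
    obtain ⟨k, hk⟩ := QuotientGroup.mk_out_eq_mul (Cfsg.parabolicGL (m + 1) F μ) g
    rw [hk, gsub_mul, (mem_parabolic_iff_gsub μ _).1 k.2 a, hg' a]

end fixed

end Cfsg.Agent.GLOrder
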