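/-
Maximal parabolic subgroups of `GL_n`, the Borel subgroup, monomial matrices.

Main results (namespace `Cfsg.Agent.GLOrder`):
* `parab n k F`, `mem_parab`         : stabiliser of the span of the first `k` basis vectors
* `card_blockTriangular`, `card_parab`
* `parab_invariant`, `isCoatom_parab`, `parab_not_conj`
* `invTranspRev`, `parabEquiv`        : `parab n k ≃* parab n (n - k)`
* `card_lowerTriangular`
-/
import Cfsg.Agent.Lib.GLOrder.Two
import Cfsg.Agent.Lib.Linear.SLn

set_option autoImplicit false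
set_option linter.unusedSectionVars false
set_option linter.style.haveILetI false

namespace Cfsg.Agent.GLOrder

open Matrix

variable {F : Type*} [Field F]

/-- The span of the first `k` basis vectors of `F^n`. -/
def coordSub (n k : ℕ) (F : Type*) [Field F] : Submodule F (Fin n → F) where
  carrier := {v | ∀ i : Fin n, k ≤ (i : ℕ) → v i = 0}
  add_mem' {u v} hu hv i hi := by simp [hu i hi, hv i hi]
  zero_mem' i _ := rfl
  smul_mem' c v hv i hi := by simp [hv i hi]

theorem mem_coordSub {n k : ℕ} {v : Fin n → F} :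
    v ∈ coordSub n k F ↔ ∀ i : Fin n, k ≤ (i : ℕ) → v i = 0 := Iff.rfl

theorem single_mem_coordSub {n k : ℕ} {l : Fin n} (hl : (l : ℕ) < k) :
    (Pi.single l 1 : Fin n → F) ∈ coordSub n k F := by
  intro i hi
  exact Pi.single_eq_of_ne (fun e => by subst e; omega) _

/-- The stabiliser of the span of the first `k` basis vectors. -/
abbrev parab (n k : ℕ) (F : Type*) [Field F] : Subgroup (GL (Fin n) F) :=
  Cfsg.stabilizing (Cfsg.glToMat (Fin n) F) {v : Fin n → F | ∀ i : Fin n, k ≤ (i : ℕ) → v i = 0}

theorem mem_parab {n k : ℕ} {g : GL (Fin n) F} :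
    g ∈ parab n k F ↔ ∀ i j : Fin n, k ≤ (i : ℕ) → (j : ℕ) < k → g i j = 0 := by
  constructor
  · intro h i j hi hj
    have := ((h (Pi.single j 1)).1 (single_mem_coordSub hj)) i hi
    simpa using this
  · intro h
    let f : (Fin n → F) →ₗ[F] (Fin n → F) := Matrix.mulVecLin (g : Matrix (Fin n) (Fin n) F)
    have hinj : Function.Injective f := Matrix.mulVec_injective_iff_isUnit.2 g.isUnit
    have hle : (coordSub n k F).map f ≤ coordSub n k F := by
      rintro _ ⟨v, hv, rfl⟩ i hi
      simp only [f, Matrix.mulVecLin_apply, Matrix.mulVec, dotProduct]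
      refine Finset.sum_eq_zero fun j _ => ?_
      rcases Nat.lt_or_ge (j : ℕ) k with hj | hj
      · rw [h i j hi hj, zero_mul]
      · rw [hv j hj, mul_zero]
    have he : (coordSub n k F).map f = coordSub n k F := by
      refine Submodule.eq_of_le_of_finrank_eq hle ?_
      exact ((coordSub n k F).equivMapOfInjective f hinj).finrank_eq.symm
    intro v
    constructor
    · exact fun hv => hle ⟨v, hv, rfl⟩
    · intro hv
      have hv' : f v ∈ (coordSub n k F).map f := he.symm ▸ hv
      obtain ⟨w, hw, hwv⟩ := hv'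
      exact hinj hwv ▸ hw

theorem finSum_lt {k l : ℕ} (i : Fin k) : ((finSumFinEquiv (.inl i) : Fin (k + l)) : ℕ) < k := by
  simp [finSumFinEquiv_apply_left, Fin.castAdd]

section Blocks

variable {ι κ : Type*} [Fintype ι] [DecidableEq ι] [Fintype κ] [DecidableEq κ]

theorem fromBlocks_eq_self {M : Matrix (ι ⊕ κ) (ι ⊕ κ) F} (h : M.toBlocks₂₁ = 0) :
    Matrix.fromBlocks M.toBlocks₁₁ M.toBlocks₁₂ 0 M.toBlocks₂₂ = M := by
  conv_rhs => rw [← M.fromBlocks_toBlocks, h]

/-- Block triangular invertible matrices. -/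
noncomputable def blockTriEquiv :
    {g : GL (ι ⊕ κ) F // (g : Matrix (ι ⊕ κ) (ι ⊕ κ) F).toBlocks₂₁ = 0} ≃
      GL ι F × GL κ F × Matrix ι κ F where
  toFun g :=
    have h : (g.1 : Matrix (ι ⊕ κ) (ι ⊕ κ) F).toBlocks₁₁.det *
        (g.1 : Matrix (ι ⊕ κ) (ι ⊕ κ) F).toBlocks₂₂.det ≠ 0 := by
      rw [← Matrix.det_fromBlocks_zero₂₁ _ (g.1 : Matrix (ι ⊕ κ) (ι ⊕ κ) F).toBlocks₁₂,
        fromBlocks_eq_self g.2]
      exact GeneralLinearGroup.det_ne_zero g.1
    (GeneralLinearGroup.mkOfDetNeZero _ (left_ne_zero_of_mul h),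
      GeneralLinearGroup.mkOfDetNeZero _ (right_ne_zero_of_mul h),
      (g.1 : Matrix (ι ⊕ κ) (ι ⊕ κ) F).toBlocks₁₂)
  invFun x := ⟨GeneralLinearGroup.mkOfDetNeZero
    (Matrix.fromBlocks (x.1 : Matrix ι ι F) x.2.2 0 (x.2.1 : Matrix κ κ F)) (by
      rw [Matrix.det_fromBlocks_zero₂₁]
      exact mul_ne_zero (GeneralLinearGroup.det_ne_zero _) (GeneralLinearGroup.det_ne_zero _)),
    by rw [coe_mkOfDetNeZero, Matrix.toBlocks_fromBlocks₂₁]⟩
  left_inv g := by
    apply Subtype.ext; apply Units.ext
    show Matrix.fromBlocks (g.1 : Matrix (ι ⊕ κ) (ι ⊕ κ) F).toBlocks₁₁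
      (g.1 : Matrix (ι ⊕ κ) (ι ⊕ κ) F).toBlocks₁₂ 0
      (g.1 : Matrix (ι ⊕ κ) (ι ⊕ κ) F).toBlocks₂₂ = _
    exact fromBlocks_eq_self g.2
  right_inv x := by
    refine Prod.ext (Units.ext ?_) (Prod.ext (Units.ext ?_) ?_) <;>
      simp

theorem card_blockTriangular [Finite F] :
    Nat.card {g : GL (ι ⊕ κ) F // (g : Matrix (ι ⊕ κ) (ι ⊕ κ) F).toBlocks₂₁ = 0} =
      Nat.card F ^ (Fintype.card ι * Fintype.card κ) * Nat.card (GL ι F) * Nat.card (GL κ F) := by
  rw [Nat.card_congr blockTriEquiv, Nat.card_prod, Nat.card_prod]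
  have h : Nat.card (Matrix ι κ F) = Nat.card F ^ (Fintype.card ι * Fintype.card κ) := by
    rw [Matrix, Nat.card_fun, Nat.card_fun, ← pow_mul, mul_comm, Nat.card_eq_fintype_card (α := ι),
      Nat.card_eq_fintype_card (α := κ)]
  rw [h]
  ring

end Blocks

/-- Order of a maximal parabolic. -/
theorem card_parab [Finite F] (k l : ℕ) :
    Nat.card (parab (k + l) k F) =
      Nat.card F ^ (k * l) * Nat.card (GL (Fin k) F) * Nat.card (GL (Fin l) F) := by
  let e : GL (Fin (k + l)) F ≃* GL (Fin k ⊕ Fin l) F :=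
    Units.mapEquiv (Matrix.reindexAlgEquiv F F finSumFinEquiv.symm).toMulEquiv
  have h : parab (k + l) k F ≃
      {g : GL (Fin k ⊕ Fin l) F //
        (g : Matrix (Fin k ⊕ Fin l) (Fin k ⊕ Fin l) F).toBlocks₂₁ = 0} :=
    e.toEquiv.subtypeEquiv fun g => by
      rw [mem_parab]
      constructor
      · intro h
        ext i j
        exact h (finSumFinEquiv (.inr i)) (finSumFinEquiv (.inl j))
          (by simp) (finSum_lt j)
      · intro h a b ha hb
        rcases ha' : finSumFinEquiv.symm a with i | i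
        · rw [Equiv.symm_apply_eq] at ha'
          subst ha'
          exact absurd (finSum_lt (l := l) i) (not_lt.2 ha)
        rcases hb' : finSumFinEquiv.symm b with j | j
        · rw [Equiv.symm_apply_eq] at ha' hb'
          subst ha' hb'
          exact congrFun (congrFun h i) j
        · rw [Equiv.symm_apply_eq] at hb'
          subst hb'
          simp [finSumFinEquiv_apply_right] at hb
  rw [Nat.card_congr h, card_blockTriangular, Fintype.card_fin, Fintype.card_fin]

/-- Elementary transvections in `parab`. -/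
theorem transvection_mem_parab {n k : ℕ} {i j : Fin n} (hij : i ≠ j)
    (h : (i : ℕ) < k ∨ k ≤ (j : ℕ)) (c : F) :
    SpecialLinearGroup.toGL (SpecialLinearGroup.transvection hij c) ∈ parab n k F := by
  rw [mem_parab]
  intro a b ha hb
  show Matrix.transvection i j c a b = 0
  have hab : a ≠ b := fun e => by subst e; omega
  rw [Matrix.transvection, Matrix.add_apply, Matrix.one_apply_ne hab,
    Matrix.single_apply_of_ne _ _ _ _ _ (fun e => by obtain ⟨rfl, rfl⟩ := e; omega), add_zero]

theorem transvection_mulVec' {n : ℕ} (i j : Fin n) (c : F) (u : Fin n → F) :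
    Matrix.transvection i j c *ᵥ u = u + (c * u j) • Pi.single i 1 := by
  ext a
  rcases eq_or_ne a i with rfl | h
  · simp [Matrix.transvection, Matrix.add_mulVec, Matrix.single_mulVec_eq]
  · simp [Matrix.transvection, Matrix.add_mulVec, Matrix.single_mulVec_eq, h]

theorem single_mem_of_apply_ne_zero {n k : ℕ} {U : Submodule F (Fin n → F)}
    (hU : ∀ g ∈ parab n k F, ∀ u ∈ U, (g : Matrix (Fin n) (Fin n) F) *ᵥ u ∈ U)
    {u : Fin n → F} (hu : u ∈ U) {i j : Fin n} (hj : u j ≠ 0)
    (hij : (i : ℕ) < k ∨ k ≤ (j : ℕ)) (hne : i ≠ j) : (Pi.single i 1 : Fin n → F) ∈ U := by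
  have h := hU _ (transvection_mem_parab hne hij 1) u hu
  rw [SpecialLinearGroup.coe_GL_coe_matrix] at h
  have h' : Matrix.transvection i j (1 : F) *ᵥ u ∈ U := h
  rw [transvection_mulVec', Submodule.add_mem_iff_right _ hu, one_mul] at h'
  exact (Submodule.smul_mem_iff _ hj).1 h'

/-- The invariant subspaces of a maximal parabolic. -/
theorem parab_invariant {n k : ℕ} {U : Submodule F (Fin n → F)}
    (hU : ∀ g ∈ parab n k F, ∀ u ∈ U, (g : Matrix (Fin n) (Fin n) F) *ᵥ u ∈ U) :
    U = ⊥ ∨ U = coordSub n k F ∨ U = ⊤ := by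
  by_cases h0 : U = ⊥
  · exact Or.inl h0
  obtain ⟨u, hu, hu0⟩ := U.exists_mem_ne_zero_of_ne_bot h0
  have hlow : ∀ i : Fin n, (i : ℕ) < k → (Pi.single i 1 : Fin n → F) ∈ U := by
    intro i hi
    by_cases h : ∃ j, i ≠ j ∧ u j ≠ 0
    · obtain ⟨j, hne, hj⟩ := h
      exact single_mem_of_apply_ne_zero hU hu hj (Or.inl hi) hne
    · push Not at h
      have : u = u i • (Pi.single i 1 : Fin n → F) := by
        ext a
        rcases eq_or_ne a i with rfl | ha
        · simp
        · simp [ha, h a (Ne.symm ha)]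
      have hui : u i ≠ 0 := fun e => hu0 (by rw [this, e, zero_smul])
      rw [this] at hu
      exact (Submodule.smul_mem_iff _ hui).1 hu
  have hW : coordSub n k F ≤ U := by
    intro v hv
    rw [pi_eq_sum_univ' v]
    refine Submodule.sum_mem _ fun i _ => ?_
    rcases Nat.lt_or_ge (i : ℕ) k with hi | hi
    · exact Submodule.smul_mem _ _ (hlow i hi)
    · rw [hv i hi, zero_smul]; exact zero_mem _
  by_cases hUW : U ≤ coordSub n k F
  · exact Or.inr (Or.inl (le_antisymm hUW hW))
  refine Or.inr (Or.inr (eq_top_iff.2 fun v _ => ?_))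
  obtain ⟨w, hw, hwn⟩ := SetLike.not_le_iff_exists.1 hUW
  rw [mem_coordSub] at hwn
  push Not at hwn
  obtain ⟨j, hjk, hj⟩ := hwn
  have hne : ∀ i, i ≠ j → (Pi.single i 1 : Fin n → F) ∈ U := fun i hi =>
    single_mem_of_apply_ne_zero hU hw hj (Or.inr hjk) hi
  have hjm : (Pi.single j 1 : Fin n → F) ∈ U := by
    have hs : w = w j • (Pi.single j 1 : Fin n → F) +
        ∑ i ∈ Finset.univ.erase j, w i • (Pi.single i 1 : Fin n → F) := by
      conv_lhs => rw [pi_eq_sum_univ' w]
      exact (Finset.add_sum_erase _ _ (Finset.mem_univ j)).symm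
    have hsum : ∑ i ∈ Finset.univ.erase j, w i • (Pi.single i 1 : Fin n → F) ∈ U :=
      Submodule.sum_mem _ fun i hi => Submodule.smul_mem _ _ (hne i (Finset.ne_of_mem_erase hi))
    rw [hs, Submodule.add_mem_iff_left _ hsum] at hw
    exact (Submodule.smul_mem_iff _ hj).1 hw
  rw [pi_eq_sum_univ' v]
  refine Submodule.sum_mem _ fun i _ => Submodule.smul_mem _ _ ?_
  rcases eq_or_ne i j with rfl | hi
  · exact hjm
  · exact hne i hi

theorem finrank_coordSub {n k : ℕ} (hk : k ≤ n) :
    Module.finrank F (coordSub n k F) = k := by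
  let e : coordSub n k F ≃ₗ[F] (Fin k → F) :=
    { toFun := fun v i => v.1 (Fin.castLE hk i)
      map_add' := fun _ _ => rfl
      map_smul' := fun _ _ => rfl
      invFun := fun f => ⟨fun i => if h : (i : ℕ) < k then f ⟨i, h⟩ else 0,
        fun i hi => dif_neg (not_lt.2 hi)⟩
      left_inv := fun v => by
        apply Subtype.ext
        funext i
        by_cases h : (i : ℕ) < k
        · simp [h]
        · simp [h, v.2 i (not_lt.1 h)]
      right_inv := fun f => by
        funext i
        simp }
  rw [e.finrank_eq, Module.finrank_fin_fun]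

/-- Parabolics of different types are not conjugate. -/
theorem parab_not_conj {n k l : ℕ} (hk0 : 0 < k) (hkn : k < n) (hln : l ≤ n) (hkl : k ≠ l)
    (g : GL (Fin n) F) :
    (parab n k F).map (MulAut.conj g).toMonoidHom ≠ parab n l F := by
  intro h
  let f : (Fin n → F) →ₗ[F] (Fin n → F) := Matrix.mulVecLin (g : Matrix (Fin n) (Fin n) F)
  have hinj : Function.Injective f := Matrix.mulVec_injective_iff_isUnit.2 g.isUnit
  let U := (coordSub n k F).map f
  have hd : Module.finrank F U = k :=
    ((coordSub n k F).equivMapOfInjective f hinj).finrank_eq.symm.trans (finrank_coordSub hkn.le)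
  have hinv : ∀ x ∈ parab n l F, ∀ u ∈ U, (x : Matrix (Fin n) (Fin n) F) *ᵥ u ∈ U := by
    intro x hx u hu
    rw [← h] at hx
    obtain ⟨y, hy, rfl⟩ := hx
    obtain ⟨v, hv, rfl⟩ := hu
    refine ⟨(y : Matrix (Fin n) (Fin n) F) *ᵥ v, (hy v).1 hv, ?_⟩
    show (g : Matrix (Fin n) (Fin n) F) *ᵥ _ =
      ((g * y * g⁻¹ : GL (Fin n) F) : Matrix (Fin n) (Fin n) F) *ᵥ _
    simp [f, Matrix.mulVec_mulVec, mul_assoc]
  rcases parab_invariant hinv with hU | hU | hU
  · rw [hU, finrank_bot] at hd; omega
  · rw [hU, finrank_coordSub hln] at hd; omega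
  · rw [hU, finrank_top, Module.finrank_fin_fun] at hd; omega

theorem vecMulVec_conj {n : ℕ} (h : GL (Fin n) F) (v φ : Fin n → F) :
    (h : Matrix (Fin n) (Fin n) F) * (1 + Matrix.vecMulVec v φ) *
        ((h⁻¹ : GL (Fin n) F) : Matrix (Fin n) (Fin n) F) =
      1 + Matrix.vecMulVec ((h : Matrix (Fin n) (Fin n) F) *ᵥ v)
        (φ ᵥ* ((h⁻¹ : GL (Fin n) F) : Matrix (Fin n) (Fin n) F)) := by
  rw [mul_add, add_mul, mul_one, Units.mul_inv, Matrix.mul_vecMulVec, Matrix.vecMulVec_mul]

/-- Maximal parabolics are maximal. -/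
theorem isCoatom_parab {n k : ℕ} (hk0 : 0 < k) (hkn : k < n) : IsCoatom (parab n k F) := by
  constructor
  · intro htop
    have h1 : SpecialLinearGroup.toGL (SpecialLinearGroup.transvection
        (show (⟨k, hkn⟩ : Fin n) ≠ ⟨0, by omega⟩ from fun e => by simp at e; omega) (1 : F)) ∈
          parab n k F := htop ▸ Subgroup.mem_top _
    have := mem_parab.1 h1 ⟨k, hkn⟩ ⟨0, by omega⟩ le_rfl hk0
    change Matrix.transvection (⟨k, hkn⟩ : Fin n) ⟨0, by omega⟩ (1 : F) _ _ = 0 at this
    simp [Matrix.transvection, Fin.ext_iff, hk0.ne'] at this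
  · intro H hH
    obtain ⟨g, hgH, hg⟩ := SetLike.exists_of_lt hH
    rw [mem_parab] at hg
    push Not at hg
    obtain ⟨j, l, hj, hl, hjl⟩ := hg
    -- for every high `i` an element of `H` maps `e_l` to `e_i`
    have hmap : ∀ i : Fin n, k ≤ (i : ℕ) → ∃ h ∈ H,
        (h : Matrix (Fin n) (Fin n) F) *ᵥ Pi.single l 1 = Pi.single i 1 := by
      intro i hi
      let u : Fin n → F := (g : Matrix (Fin n) (Fin n) F).col l
      let M : Matrix (Fin n) (Fin n) F := (1 : Matrix (Fin n) (Fin n) F).updateCol j u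
      have hM : M.det ≠ 0 := by
        have : M.det = u j := by
          rw [show M.det = ((1 : Matrix (Fin n) (Fin n) F).updateCol j u).det from rfl,
            ← Matrix.cramer_apply, Matrix.cramer_one]
          rfl
        rw [this]; exact hjl
      let s : GL (Fin n) F := GeneralLinearGroup.mkOfDetNeZero M hM
      have hs : s ∈ parab n k F := by
        rw [mem_parab]
        intro a b ha hb
        show ((1 : Matrix (Fin n) (Fin n) F).updateCol j u) a b = 0
        rw [Matrix.updateCol_ne (fun e => by subst e; omega),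
          Matrix.one_apply_ne (fun e => by subst e; omega)]
      have hw : GeneralLinearGroup.swap F j i ∈ parab n k F := by
        rw [mem_parab]
        intro a b ha hb
        show (Equiv.swap j i).permMatrix F a b = 0
        simp only [PEquiv.toMatrix_apply, Equiv.toPEquiv_apply, Option.mem_some_iff, ite_eq_right_iff]
        intro hab
        exfalso
        rcases eq_or_ne a j with rfl | haj
        · rw [Equiv.swap_apply_left] at hab; subst hab; omega
        rcases eq_or_ne a i with rfl | hai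
        · rw [Equiv.swap_apply_right] at hab; subst hab; omega
        · rw [Equiv.swap_apply_of_ne_of_ne haj hai] at hab; subst hab; omega
      refine ⟨GeneralLinearGroup.swap F j i * s⁻¹ * g,
        mul_mem (mul_mem (hH.le hw) (inv_mem (hH.le hs))) hgH, ?_⟩
      have hsu : (s : Matrix (Fin n) (Fin n) F) *ᵥ Pi.single j 1 = u := by
        rw [Matrix.mulVec_single_one]
        funext a
        exact Matrix.updateCol_self
      have hsu' : ((s⁻¹ : GL (Fin n) F) : Matrix (Fin n) (Fin n) F) *ᵥ u = Pi.single j 1 := by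
        rw [← hsu, Matrix.mulVec_mulVec, Units.inv_mul, Matrix.one_mulVec]
      rw [Units.val_mul, Units.val_mul, ← Matrix.mulVec_mulVec, ← Matrix.mulVec_mulVec,
        Matrix.mulVec_single_one, hsu']
      show Matrix.swap F j i *ᵥ Pi.single j 1 = Pi.single i 1
      rw [Matrix.swap_mulVec]
      funext a
      simp [Pi.single_apply, Equiv.swap_apply_eq_iff]
    have htrans : ∀ (i b : Fin n) (hib : i ≠ b) (c : F),
        SpecialLinearGroup.toGL (SpecialLinearGroup.transvection hib c) ∈ H := by
      intro i b hib c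
      by_cases hal : (i : ℕ) < k ∨ k ≤ (b : ℕ)
      · exact hH.le (transvection_mem_parab hib hal c)
      push Not at hal
      obtain ⟨h, hh, hhl⟩ := hmap i hal.1
      let t : GL (Fin n) F := SpecialLinearGroup.toGL (SpecialLinearGroup.transvection hib c)
      have ht : (t : Matrix (Fin n) (Fin n) F) =
          1 + Matrix.vecMulVec (Pi.single i 1) (Pi.single b c) := by
        show Matrix.transvection i b c = _
        rw [Matrix.transvection]
        congr 1
        ext a d
        rcases eq_or_ne a i with rfl | hai <;> rcases eq_or_ne d b with rfl | hdb <;>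
          simp [Matrix.vecMulVec_apply, *, Ne.symm]
      have hx : h⁻¹ * t * h ∈ parab n k F := by
        rw [mem_parab]
        intro a d ha hd
        have e := vecMulVec_conj h⁻¹ (Pi.single i 1) (Pi.single b c)
        rw [inv_inv, ← ht] at e
        rw [Units.val_mul, Units.val_mul, e]
        have hinv : ((h⁻¹ : GL (Fin n) F) : Matrix (Fin n) (Fin n) F) *ᵥ Pi.single i 1 =
            Pi.single l 1 := by
          rw [← hhl, Matrix.mulVec_mulVec, Units.inv_mul, Matrix.one_mulVec]
        rw [hinv, Matrix.add_apply, Matrix.vecMulVec_apply,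
          Matrix.one_apply_ne (fun e => by subst e; omega),
          Pi.single_eq_of_ne (fun e => by subst e; omega)]
        simp
      have := mul_mem (mul_mem hh (hH.le hx)) (inv_mem hh)
      simpa [mul_assoc] using this
    rw [eq_top_iff]
    intro x _
    haveI : Nonempty (Fin n) := ⟨⟨0, by omega⟩⟩
    let d : Fin n → F := Function.update 1 ⟨0, by omega⟩ (x.det : F)
    let D : GL (Fin n) F := GeneralLinearGroup.mkOfDetNeZero (Matrix.diagonal d) (by
      rw [Matrix.det_diagonal]
      exact Finset.prod_ne_zero_iff.2 fun a _ => by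
        simp only [d, Function.update_apply]; split <;> simp [GeneralLinearGroup.det_ne_zero x])
    have hD : D ∈ parab n k F := by
      rw [mem_parab]
      intro a b ha hb
      exact Matrix.diagonal_apply_ne _ (fun e => by subst e; omega)
    have hDdet : D.det = x.det := by
      apply Units.ext
      show (Matrix.diagonal d).det = _
      rw [Matrix.det_diagonal, Finset.prod_update_of_mem (Finset.mem_univ _)]
      simp
    have hsl : D⁻¹ * x ∈ (SpecialLinearGroup.toGL :
        SpecialLinearGroup (Fin n) F →* GL (Fin n) F).range := by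
      rw [range_toGL, MonoidHom.mem_ker, map_mul, map_inv, hDdet, inv_mul_cancel]
    have hle : (SpecialLinearGroup.toGL :
        SpecialLinearGroup (Fin n) F →* GL (Fin n) F).range ≤ H := by
      rw [MonoidHom.range_eq_map, ← Linear.closure_slTvSet, MonoidHom.map_closure,
        Subgroup.closure_le]
      rintro _ ⟨_, ⟨a, b, hab, c, rfl⟩, rfl⟩
      exact htrans a b hab c
    simpa using mul_mem (hH.le hD) (hle hsl)

/-- Inverse transpose followed by reversing the coordinates. -/
noncomputable def invTranspRev (n : ℕ) (F : Type*) [Field F] : GL (Fin n) F →* GL (Fin n) F where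
  toFun g := ⟨(((g⁻¹ : GL (Fin n) F) : Matrix (Fin n) (Fin n) F)ᵀ).submatrix Fin.revPerm Fin.revPerm,
    ((g : Matrix (Fin n) (Fin n) F)ᵀ).submatrix Fin.revPerm Fin.revPerm,
    by rw [Matrix.submatrix_mul_equiv, ← Matrix.transpose_mul, Units.mul_inv, Matrix.transpose_one,
      Matrix.submatrix_one_equiv],
    by rw [Matrix.submatrix_mul_equiv, ← Matrix.transpose_mul, Units.inv_mul, Matrix.transpose_one,
      Matrix.submatrix_one_equiv]⟩
  map_one' := by
    apply Units.ext
    show (((1⁻¹ : GL (Fin n) F) : Matrix (Fin n) (Fin n) F)ᵀ).submatrix _ _ = 1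
    simp
  map_mul' g h := by
    apply Units.ext
    show ((((g * h)⁻¹ : GL (Fin n) F) : Matrix (Fin n) (Fin n) F)ᵀ).submatrix _ _ =
      (((g⁻¹ : GL (Fin n) F) : Matrix (Fin n) (Fin n) F)ᵀ).submatrix _ _ *
        (((h⁻¹ : GL (Fin n) F) : Matrix (Fin n) (Fin n) F)ᵀ).submatrix _ _
    rw [_root_.mul_inv_rev, Units.val_mul, Matrix.transpose_mul, Matrix.submatrix_mul_equiv]

theorem invTranspRev_invTranspRev {n : ℕ} (g : GL (Fin n) F) :
    invTranspRev n F (invTranspRev n F g) = g := by
  apply GeneralLinearGroup.ext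
  intro i j
  show ((((g : Matrix (Fin n) (Fin n) F)ᵀ).submatrix Fin.revPerm Fin.revPerm)ᵀ).submatrix
    Fin.revPerm Fin.revPerm i j = _
  simp

theorem invTranspRev_mem {n k : ℕ} (hk : k ≤ n) {g : GL (Fin n) F} (hg : g ∈ parab n k F) :
    invTranspRev n F g ∈ parab n (n - k) F := by
  rw [mem_parab]
  intro i j hi hj
  show ((g⁻¹ : GL (Fin n) F) : Matrix (Fin n) (Fin n) F) (Fin.revPerm j) (Fin.revPerm i) = 0
  exact mem_parab.1 (inv_mem hg) _ _ (by simp [Fin.val_rev]; omega) (by simp [Fin.val_rev]; omega)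

/-- Parabolics of complementary types are isomorphic. -/
noncomputable def parabEquiv {n k : ℕ} (hk : k ≤ n) : parab n k F ≃* parab n (n - k) F where
  toFun g := ⟨invTranspRev n F g, invTranspRev_mem hk g.2⟩
  invFun g := ⟨invTranspRev n F g, by
    have := invTranspRev_mem (Nat.sub_le n k) g.2
    rwa [Nat.sub_sub_self hk] at this⟩
  left_inv g := Subtype.ext (invTranspRev_invTranspRev _)
  right_inv g := Subtype.ext (invTranspRev_invTranspRev _)
  map_mul' g h := Subtype.ext (map_mul (invTranspRev n F) _ _)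

/-- Lower triangular invertible matrices as diagonal and strictly lower entries. -/
noncomputable def lowerTriEquiv (n : ℕ) (F : Type*) [Field F] :
    {g : GL (Fin n) F // ∀ i j : Fin n, i < j → g i j = 0} ≃
      (Fin n → Fˣ) × ((Σ i : Fin n, Fin (i : ℕ)) → F) where
  toFun g :=
    have h : ∀ i, g.1 i i ≠ 0 := fun i => by
      have hd := GeneralLinearGroup.det_ne_zero g.1
      rw [Matrix.det_of_isLowerTriangular _ (fun a b hab => g.2 a b (OrderDual.toDual_lt_toDual.1 hab))] at hd
      exact Finset.prod_ne_zero_iff.1 hd i (Finset.mem_univ i)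
    (fun i => Units.mk0 _ (h i), fun p => g.1 p.1 ⟨p.2, p.2.2.trans p.1.2⟩)
  invFun x := ⟨GeneralLinearGroup.mkOfDetNeZero (Matrix.of fun i j : Fin n =>
      if i = j then (x.1 i : F) else if h : (j : ℕ) < i then x.2 ⟨i, ⟨j, h⟩⟩ else 0) (by
      rw [Matrix.det_of_isLowerTriangular _ (fun a b hab => ?_)]
      · exact Finset.prod_ne_zero_iff.2 fun i _ => by simp
      · have hab' : a < b := OrderDual.toDual_lt_toDual.1 hab
        rw [Matrix.of_apply, if_neg hab'.ne, dif_neg (by simp only [not_lt]; exact hab'.le)]),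
    fun i j hij => by
      rw [coe_mkOfDetNeZero, Matrix.of_apply, if_neg hij.ne,
        dif_neg (by simp only [not_lt]; exact hij.le)]⟩
  left_inv g := by
    apply Subtype.ext
    apply GeneralLinearGroup.ext
    intro i j
    rw [coe_mkOfDetNeZero, Matrix.of_apply]
    rcases eq_or_ne i j with rfl | h
    · simp
    · rw [if_neg h]
      split_ifs with h'
      · rfl
      · exact (g.2 i j (lt_of_le_of_ne (not_lt.1 h') h)).symm
  right_inv x := by
    refine Prod.ext (funext fun i => Units.ext ?_) (funext fun p => ?_)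
    · simp
    · obtain ⟨i, j⟩ := p
      simp only [coe_mkOfDetNeZero, Matrix.of_apply]
      rw [if_neg (fun e => by
        have := congrArg Fin.val e; simp at this; omega), dif_pos j.2]

/-- Order of the Borel subgroup of `GL_n(q)`. -/
theorem card_lowerTriangular [Finite F] (n : ℕ) :
    Nat.card {g : GL (Fin n) F // ∀ i j : Fin n, i < j → g i j = 0} =
      Nat.card F ^ (n * (n - 1) / 2) * (Nat.card F - 1) ^ n := by
  have := Fintype.ofFinite F
  rw [Nat.card_congr (lowerTriEquiv n F), Nat.card_prod, Nat.card_fun, Nat.card_fun, card_units,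
    Nat.card_fin, Nat.card_eq_fintype_card (α := Σ i : Fin n, Fin (i : ℕ)), Fintype.card_sigma]
  simp only [Fintype.card_fin]
  rw [Fin.sum_univ_eq_sum_range (fun i => i), Finset.sum_range_id, mul_comm]

end Cfsg.Agent.GLOrder
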