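/-
The action of `GL_2`, `PGL_2`, `SL_2` on the projective line.

Main results (namespace `Cfsg.Agent.GLOrder`):
* `smul_mk_eq_iff`, `exists_GL_three_points`, `eq_scalar_of_fix_three`
* `PGL_three_transitive`, `PGL_fix_three`, `SL_three_transitive_iff`
-/
import Cfsg.Agent.Lib.GLOrder.Two

set_option autoImplicit false
set_option linter.unusedSectionVars false
set_option linter.style.haveILetI false

namespace Cfsg.Agent.GLOrder

open Matrix Projectivization
open scoped MatrixGroups LinearAlgebra.Projectivization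

variable {F : Type*} [Field F]

theorem smul_mk_eq_iff {n : Type*} [Fintype n] [DecidableEq n] (g : GL n F) {v w : n → F}
    (hv : v ≠ 0) (hw : w ≠ 0) :
    g • Projectivization.mk F v hv = Projectivization.mk F w hw ↔
      ∃ a : F, a ≠ 0 ∧ (g : Matrix n n F) *ᵥ v = a • w := by
  rw [Projectivization.smul_mk, Projectivization.mk_eq_mk_iff]
  constructor
  · rintro ⟨u, hu⟩; exact ⟨u, u.ne_zero, hu.symm⟩
  · rintro ⟨a, ha, h⟩; exact ⟨Units.mk0 a ha, h.symm⟩

theorem det_of_cols_ne_zero {u v : Fin 2 → F}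
    (h : LinearIndependent F ![u, v]) : (Matrix.of ![u, v])ᵀ.det ≠ 0 := by
  rw [Matrix.det_transpose]
  exact ((Matrix.isUnit_iff_isUnit_det _).1
    (Matrix.linearIndependent_rows_iff_isUnit.1 h)).ne_zero

theorem linearIndependent_of_ne {a b : ℙ F (Fin 2 → F)} (h : a ≠ b) :
    LinearIndependent F ![a.rep, b.rep] :=
  Projectivization.linearIndependent_pair_iff_ne.2 h

theorem exists_combination {u v : Fin 2 → F} (h : LinearIndependent F ![u, v])
    (w : Fin 2 → F) : ∃ α β : F, w = α • u + β • v := by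
  have hd : IsUnit (Matrix.of ![u, v])ᵀ.det := isUnit_iff_ne_zero.2 (det_of_cols_ne_zero h)
  refine ⟨((Matrix.of ![u, v])ᵀ⁻¹ *ᵥ w) 0, ((Matrix.of ![u, v])ᵀ⁻¹ *ᵥ w) 1, ?_⟩
  have e : (Matrix.of ![u, v])ᵀ *ᵥ ((Matrix.of ![u, v])ᵀ⁻¹ *ᵥ w) = w := by
    rw [Matrix.mulVec_mulVec, Matrix.mul_nonsing_inv _ hd, Matrix.one_mulVec]
  conv_lhs => rw [← e]
  ext i
  simp [Matrix.mulVec, dotProduct, Fin.sum_univ_two, mul_comm]

theorem single_ne_zero' (i : Fin 2) : (Pi.single i 1 : Fin 2 → F) ≠ 0 := by simp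

theorem one_one_ne_zero : (![1, 1] : Fin 2 → F) ≠ 0 := by simp

/-- Three distinct points are the images of `0`, `∞`, `1`. -/
theorem exists_GL_three_points {a b c : ℙ F (Fin 2 → F)} (hab : a ≠ b) (hac : a ≠ c)
    (hbc : b ≠ c) :
    ∃ g : GL (Fin 2) F,
      g • Projectivization.mk F (Pi.single 0 1) (single_ne_zero' 0) = a ∧
      g • Projectivization.mk F (Pi.single 1 1) (single_ne_zero' 1) = b ∧
      g • Projectivization.mk F ![1, 1] one_one_ne_zero = c := by
  obtain ⟨α, β, hw⟩ := exists_combination (linearIndependent_of_ne hab) c.rep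
  have hα : α ≠ 0 := by
    rintro rfl
    rw [zero_smul, zero_add] at hw
    refine hbc ?_
    rw [← b.mk_rep, ← c.mk_rep, Projectivization.mk_eq_mk_iff' ]
    refine ⟨β⁻¹, ?_⟩
    have hβ : β ≠ 0 := fun h => c.rep_nonzero (by rw [hw, h, zero_smul])
    rw [hw, smul_smul, inv_mul_cancel₀ hβ, one_smul]
  have hβ : β ≠ 0 := by
    rintro rfl
    rw [zero_smul, add_zero] at hw
    refine hac ?_
    rw [← a.mk_rep, ← c.mk_rep, Projectivization.mk_eq_mk_iff']
    exact ⟨α⁻¹, by rw [hw, smul_smul, inv_mul_cancel₀ hα, one_smul]⟩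
  have hli : LinearIndependent F ![α • a.rep, β • b.rep] := by
    have := (linearIndependent_of_ne hab).units_smul ![Units.mk0 α hα, Units.mk0 β hβ]
    convert this using 1
    funext i; fin_cases i <;> rfl
  refine ⟨GeneralLinearGroup.mkOfDetNeZero _ (det_of_cols_ne_zero hli), ?_, ?_, ?_⟩
  · refine ((smul_mk_eq_iff _ _ a.rep_nonzero).2 ⟨α, hα, ?_⟩).trans a.mk_rep
    simp
  · refine ((smul_mk_eq_iff _ _ b.rep_nonzero).2 ⟨β, hβ, ?_⟩).trans b.mk_rep
    simp
  · refine ((smul_mk_eq_iff _ _ c.rep_nonzero).2 ⟨1, one_ne_zero, ?_⟩).trans c.mk_rep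
    rw [coe_mkOfDetNeZero, one_smul, hw]
    ext i
    simp [Matrix.mulVec, dotProduct, Fin.sum_univ_two]

/-- A matrix fixing three distinct points is scalar. -/
theorem eq_scalar_of_fix_three {g : GL (Fin 2) F} {a b c : ℙ F (Fin 2 → F)} (hab : a ≠ b)
    (hac : a ≠ c) (hbc : b ≠ c) (ha : g • a = a) (hb : g • b = b) (hc : g • c = c) :
    ∃ u : Fˣ, g = GeneralLinearGroup.scalar (Fin 2) u := by
  obtain ⟨k, k0, k1, k2⟩ := exists_GL_three_points hab hac hbc
  have h0 : (k⁻¹ * g * k) • Projectivization.mk F (Pi.single 0 1) (single_ne_zero' 0) =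
      Projectivization.mk F (Pi.single 0 1) (single_ne_zero' (F := F) 0) := by
    rw [mul_smul, mul_smul, k0, ha, ← k0, inv_smul_smul]
  have h1 : (k⁻¹ * g * k) • Projectivization.mk F (Pi.single 1 1) (single_ne_zero' 1) =
      Projectivization.mk F (Pi.single 1 1) (single_ne_zero' (F := F) 1) := by
    rw [mul_smul, mul_smul, k1, hb, ← k1, inv_smul_smul]
  have h2 : (k⁻¹ * g * k) • Projectivization.mk F ![1, 1] one_one_ne_zero =
      Projectivization.mk F ![1, 1] (one_one_ne_zero (F := F)) := by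
    rw [mul_smul, mul_smul, k2, hc, ← k2, inv_smul_smul]
  rw [smul_mk_eq_iff] at h0 h1 h2
  obtain ⟨x, hx0, hx⟩ := h0
  obtain ⟨y, -, hy⟩ := h1
  obtain ⟨z, -, hz⟩ := h2
  have x0 := congrFun hx 0
  have x1 := congrFun hx 1
  have y0 := congrFun hy 0
  have y1 := congrFun hy 1
  have z0 := congrFun hz 0
  have z1 := congrFun hz 1
  simp [Matrix.mulVec, dotProduct, Fin.sum_univ_two] at x0 x1 y0 y1 z0 z1
  have hyx : y = x := by linear_combination x0 + y0 - z0 - x1 - y1 + z1
  have hkg : k⁻¹ * g * k = GeneralLinearGroup.scalar (Fin 2) (Units.mk0 x hx0) := by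
    apply GeneralLinearGroup.ext
    intro i j
    fin_cases i <;> fin_cases j <;>
      simp [GeneralLinearGroup.coe_scalar, x0, x1, y0, y1, hyx]
  refine ⟨Units.mk0 x hx0, ?_⟩
  calc g = k * (k⁻¹ * g * k) * k⁻¹ := by group
    _ = _ := by
      rw [hkg, ← GeneralLinearGroup.scalar_commute, mul_inv_cancel_right]

theorem PGL_mk_smul {n : Type*} [Fintype n] [DecidableEq n] (g : GL n F)
    (x : ℙ F (n → F)) : (ProjGenLinGroup.mk g : ProjGenLinGroup n F) • x = g • x := rfl

theorem GL_three_transitive :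
    MulAction.IsMultiplyPretransitive (GL (Fin 2) F) (ℙ F (Fin 2 → F)) 3 := by
  rw [MulAction.isMultiplyPretransitive_iff]
  intro x y
  have h : ∀ z : Fin 3 ↪ ℙ F (Fin 2 → F), ∃ g : GL (Fin 2) F,
      g • Projectivization.mk F (Pi.single 0 1) (single_ne_zero' 0) = z 0 ∧
      g • Projectivization.mk F (Pi.single 1 1) (single_ne_zero' 1) = z 1 ∧
      g • Projectivization.mk F ![1, 1] one_one_ne_zero = z 2 := fun z =>
    exists_GL_three_points (z.injective.ne (by decide)) (z.injective.ne (by decide))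
      (z.injective.ne (by decide))
  obtain ⟨g, g0, g1, g2⟩ := h x
  obtain ⟨k, k0, k1, k2⟩ := h y
  refine ⟨k * g⁻¹, ?_⟩
  ext i
  show (k * g⁻¹) • x i = y i
  fin_cases i
  · show (k * g⁻¹) • x 0 = y 0
    rw [← g0, mul_smul, inv_smul_smul, k0]
  · show (k * g⁻¹) • x 1 = y 1
    rw [← g1, mul_smul, inv_smul_smul, k1]
  · show (k * g⁻¹) • x 2 = y 2
    rw [← g2, mul_smul, inv_smul_smul, k2]

/-- `PGL_2(F)` is 3-transitive on the projective line. -/
theorem PGL_three_transitive :
    MulAction.IsMultiplyPretransitive (ProjGenLinGroup (Fin 2) F) (ℙ F (Fin 2 → F)) 3 := by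
  rw [MulAction.isMultiplyPretransitive_iff]
  intro x y
  obtain ⟨g, hg⟩ := (MulAction.isMultiplyPretransitive_iff.1 (GL_three_transitive (F := F))) x y
  refine ⟨ProjGenLinGroup.mk g, ?_⟩
  rw [← hg]
  ext i
  rfl

/-- A three point stabiliser in `PGL_2(F)` is trivial. -/
theorem PGL_fix_three (g : ProjGenLinGroup (Fin 2) F) {a b c : ℙ F (Fin 2 → F)} (hab : a ≠ b)
    (hac : a ≠ c) (hbc : b ≠ c) (ha : g • a = a) (hb : g • b = b) (hc : g • c = c) : g = 1 := by
  induction g using Matrix.ProjGenLinGroup.induction_on with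
  | mk g =>
    obtain ⟨u, rfl⟩ := eq_scalar_of_fix_three hab hac hbc ha hb hc
    exact ProjGenLinGroup.mk_scalar u

theorem toGL_smul {n : Type*} [Fintype n] [DecidableEq n] (g : SpecialLinearGroup n F)
    (x : ℙ F (n → F)) : SpecialLinearGroup.toGL g • x = g • x := by
  induction x using Projectivization.ind with
  | h v hv => rfl

/-- `SL_2(q)` is 3-transitive on the projective line iff `q` is even. -/
theorem SL_three_transitive_iff [Finite F] :
    MulAction.IsMultiplyPretransitive SL(2, F) (ℙ F (Fin 2 → F)) 3 ↔ ringChar F = 2 := by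
  constructor
  · intro h
    by_contra h2
    obtain ⟨d, hd⟩ := FiniteField.exists_nonsquare h2
    have hd0 : d ≠ 0 := by rintro rfl; exact hd IsSquare.zero
    have hw : (![1, d] : Fin 2 → F) ≠ 0 := by simp
    let p0 := Projectivization.mk F (Pi.single 0 1) (single_ne_zero' (F := F) 0)
    let p1 := Projectivization.mk F (Pi.single 1 1) (single_ne_zero' (F := F) 1)
    let p2 := Projectivization.mk F ![1, 1] (one_one_ne_zero (F := F))
    let p3 := Projectivization.mk F ![1, d] hw
    have inj : ∀ {a b c : ℙ F (Fin 2 → F)}, a ≠ b → a ≠ c → b ≠ c →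
        Function.Injective ![a, b, c] := by
      intro a b c hab hac hbc i j
      fin_cases i <;> fin_cases j <;> simp [hab, hac, hbc, hab.symm, hac.symm, hbc.symm]
    have d01 : p0 ≠ p1 := by
      intro e; obtain ⟨a, ha⟩ := (Projectivization.mk_eq_mk_iff' _ _ _ _ _).1 e
      simpa using congrFun ha 0
    have d02 : p0 ≠ p2 := by
      intro e; obtain ⟨a, ha⟩ := (Projectivization.mk_eq_mk_iff' _ _ _ _ _).1 e
      have e0 := congrFun ha 0; have e1 := congrFun ha 1; simp at e0 e1; simp [e1] at e0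
    have d12 : p1 ≠ p2 := by
      intro e; obtain ⟨a, ha⟩ := (Projectivization.mk_eq_mk_iff' _ _ _ _ _).1 e
      have e0 := congrFun ha 0; have e1 := congrFun ha 1; simp at e0 e1; simp [e0] at e1
    have d03 : p0 ≠ p3 := by
      intro e; obtain ⟨a, ha⟩ := (Projectivization.mk_eq_mk_iff' _ _ _ _ _).1 e
      have e0 := congrFun ha 0; have e1 := congrFun ha 1; simp at e0 e1; simp [e0, hd0] at e1
    have d13 : p1 ≠ p3 := by
      intro e; obtain ⟨a, ha⟩ := (Projectivization.mk_eq_mk_iff' _ _ _ _ _).1 e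
      have e0 := congrFun ha 0; have e1 := congrFun ha 1; simp at e0 e1; simp [e0] at e1
    obtain ⟨g, hg⟩ := (MulAction.isMultiplyPretransitive_iff.1 h)
      ⟨![p0, p1, p2], inj d01 d02 d12⟩ ⟨![p0, p1, p3], inj d01 d03 d13⟩
    have f0 : SpecialLinearGroup.toGL g • p0 = p0 :=
      (toGL_smul g p0).trans (DFunLike.congr_fun hg 0)
    have f1 : SpecialLinearGroup.toGL g • p1 = p1 :=
      (toGL_smul g p1).trans (DFunLike.congr_fun hg 1)
    have f2 : SpecialLinearGroup.toGL g • p2 = p3 :=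
      (toGL_smul g p2).trans (DFunLike.congr_fun hg 2)
    rw [smul_mk_eq_iff] at f0 f1 f2
    obtain ⟨x, -, hx⟩ := f0
    obtain ⟨y, -, hy⟩ := f1
    obtain ⟨z, -, hz⟩ := f2
    have x1 := congrFun hx 1
    have y0 := congrFun hy 0
    have z0 := congrFun hz 0
    have z1 := congrFun hz 1
    simp [Matrix.mulVec, dotProduct, Fin.sum_univ_two] at x1 y0 z0 z1
    have hdet := SL2_det g
    rw [x1, y0, mul_zero, sub_zero] at hdet
    rw [x1, zero_add] at z1
    rw [y0, add_zero] at z0
    rw [z0, z1] at hdet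
    apply hd
    have hz0 : z ≠ 0 := by rintro rfl; simp at hdet
    exact ⟨z⁻¹, by field_simp; linear_combination hdet⟩
  · intro h2
    rw [MulAction.isMultiplyPretransitive_iff]
    intro x y
    obtain ⟨g, hg⟩ := (MulAction.isMultiplyPretransitive_iff.1 (GL_three_transitive (F := F))) x y
    obtain ⟨s, hs⟩ : IsSquare ((g.det)⁻¹ : Fˣ).val := FiniteField.isSquare_of_char_two h2 _
    have hs0 : s ≠ 0 := by
      rintro rfl
      simp at hs
      exact GeneralLinearGroup.det_ne_zero g hs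
    have hmem : GeneralLinearGroup.scalar (Fin 2) (Units.mk0 s hs0) * g ∈
        (SpecialLinearGroup.toGL : SL(2, F) →* GL (Fin 2) F).range := by
      rw [range_toGL, MonoidHom.mem_ker, map_mul, GeneralLinearGroup.det_scalar, Fintype.card_fin]
      apply Units.ext
      rw [Units.val_mul, Units.val_pow_eq_pow_val, Units.val_mk0, pow_two, ← hs, Units.inv_mul,
        Units.val_one]
    obtain ⟨k, hk⟩ := hmem
    refine ⟨k, ?_⟩
    rw [← hg]
    ext i
    show k • x i = g • x i
    rw [← toGL_smul, hk, mul_smul]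
    induction g • x i using Projectivization.ind with
    | h v hv =>
      rw [smul_mk_eq_iff]
      exact ⟨s, hs0, by simp [GeneralLinearGroup.coe_scalar]⟩

end Cfsg.Agent.GLOrder
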