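/-
Irreducible factors of polynomials annihilating elements of finite order over a finite field.

* `rootOrder f` : multiplicative order of a root of `f`
* `natDegree_eq_orderOf` : `deg f` is the order of `q` modulo that order
* `dvd_X_pow_sub_one_iff`
* `exists_star` : the reciprocal factor
* `dvd_pow_of_factors`, `exists_factor_not_dvd`, `exists_sq_factor`
* `associated_reverse_charpoly` : symplectic matrices have self reciprocal characteristic polynomial
-/
import Cfsg.Agent.EqLemmas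

set_option autoImplicit false
set_option linter.style.haveILetI false
set_option linter.unusedSectionVars false
set_option linter.unusedSimpArgs false

namespace Cfsg.Agent.GLOrder

open Polynomial Module

universe u

variable {F : Type u} [Field F]

/-- The multiplicative order of a root of `f`. -/
noncomputable def rootOrder (f : F[X]) : ℕ := orderOf (AdjoinRoot.root f)

theorem dvd_X_pow_sub_one_iff {f : F[X]} {k : ℕ} :
    f ∣ X ^ k - 1 ↔ rootOrder f ∣ k := by
  rw [rootOrder, orderOf_dvd_iff_pow_eq_one, ← AdjoinRoot.mk_eq_zero, map_sub, map_pow,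
    AdjoinRoot.mk_X, map_one, sub_eq_zero]

theorem rootOrder_pos {f : F[X]} {N : ℕ} (hN : 0 < N) (h : f ∣ X ^ N - 1) : 0 < rootOrder f :=
  Nat.pos_of_dvd_of_pos (dvd_X_pow_sub_one_iff.1 h) hN

/-- `q ^ i ≡ 1` modulo the order of a root iff `f` divides `X ^ (q ^ i) - X`. -/
theorem dvd_X_pow_card_iff [Finite F] {f : F[X]} {N : ℕ} (hN : 0 < N)
    (h : f ∣ X ^ N - 1) (i : ℕ) :
    f ∣ X ^ (Nat.card F ^ i) - X ↔ orderOf ((Nat.card F : ℕ) : ZMod (rootOrder f)) ∣ i := by
  have hα : AdjoinRoot.root f ^ N = 1 := orderOf_dvd_iff_pow_eq_one.1 (dvd_X_pow_sub_one_iff.1 h)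
  obtain ⟨a, ha⟩ : IsUnit (AdjoinRoot.root f) := IsUnit.of_pow_eq_one hα hN.ne'
  rw [← AdjoinRoot.mk_eq_zero, map_sub, map_pow, AdjoinRoot.mk_X, sub_eq_zero, ← ha,
    ← Units.val_pow_eq_pow_val, ← Units.ext_iff, orderOf_dvd_iff_pow_eq_one, ← Nat.cast_pow]
  conv_lhs => rhs; rw [← pow_one a]
  rw [pow_eq_pow_iff_modEq, ← Nat.cast_one (R := ZMod (rootOrder f)), ZMod.natCast_eq_natCast_iff,
    rootOrder, ← ha, orderOf_units]

/-- The degree of an irreducible polynomial is the order of `q` modulo the order of its roots. -/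
theorem natDegree_eq_orderOf [Finite F] {f : F[X]} (hf : Irreducible f) {N : ℕ} (hN : 0 < N)
    (h : f ∣ X ^ N - 1) :
    f.natDegree = orderOf ((Nat.card F : ℕ) : ZMod (rootOrder f)) := by
  refine Nat.dvd_antisymm ?_ ?_
  · rw [hf.natDegree_dvd_iff_dvd_X_pow_card_pow_sub_X, dvd_X_pow_card_iff hN h]
  · rw [← dvd_X_pow_card_iff hN h, ← hf.natDegree_dvd_iff_dvd_X_pow_card_pow_sub_X]

/-- The reciprocal irreducible factor. -/
theorem exists_star' [Finite F] {f : F[X]} (hf : Irreducible f) (hm : f.Monic) {N : ℕ}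
    (hN : 0 < N) (h : f ∣ X ^ N - 1) :
    ∃ g : F[X], g ∣ f.reverse ∧ Irreducible g ∧ g.Monic ∧ g.natDegree = f.natDegree ∧
      rootOrder g = rootOrder f ∧
      (∀ (M : ℕ) (χ : F[X]), Associated χ.reverse χ → f ^ M ∣ χ → g ^ M ∣ χ) ∧
      (g = f → ∃ i, ((Nat.card F : ℕ) : ZMod (rootOrder f)) ^ i = -1) := by
  haveI : Fact (Irreducible f) := ⟨hf⟩
  haveI : Module.Finite F (AdjoinRoot f) := (AdjoinRoot.powerBasis hf.ne_zero).finite
  haveI : Finite (AdjoinRoot f) := Module.finite_of_finite F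
  set α := AdjoinRoot.root f with hαdef
  have hα : α ^ N = 1 := orderOf_dvd_iff_pow_eq_one.1 (dvd_X_pow_sub_one_iff.1 h)
  have hα0 : α ≠ 0 := by
    intro h0
    rw [h0, zero_pow hN.ne'] at hα
    exact zero_ne_one hα
  have hi : IsIntegral F α⁻¹ := Algebra.IsIntegral.isIntegral _
  set g := minpoly F α⁻¹ with hg
  have hgi : Irreducible g := minpoly.irreducible hi
  haveI : Fact (Irreducible g) := ⟨hgi⟩
  have hord : rootOrder g = rootOrder f := by
    have key : ∀ k, g ∣ X ^ k - 1 ↔ rootOrder f ∣ k := fun k => by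
      rw [hg, minpoly.dvd_iff, map_sub, map_pow, aeval_X, map_one, sub_eq_zero, inv_pow,
        inv_eq_one, ← orderOf_dvd_iff_pow_eq_one]
      rfl
    refine Nat.dvd_antisymm ?_ ?_
    · rw [← dvd_X_pow_sub_one_iff, key]
    · rw [← key, dvd_X_pow_sub_one_iff]
  have hgN : g ∣ X ^ N - 1 :=
    dvd_X_pow_sub_one_iff.2 (hord.symm ▸ dvd_X_pow_sub_one_iff.1 h)
  have h1 : g ∣ f.reverse := by
    rw [hg, minpoly.dvd_iff]
    letI := invertibleOfNonzero hα0
    rw [aeval_def, ← invOf_eq_inv, eval₂_reverse_eq_zero_iff]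
    exact AdjoinRoot.eval₂_root f
  refine ⟨g, h1, hgi, minpoly.monic hi, ?_, hord, fun M χ hχ hM => ?_, fun hgf => ?_⟩
  · rw [natDegree_eq_orderOf hgi hN hgN, natDegree_eq_orderOf hf hN h, hord]
  · have h2 : (f ^ M).reverse = f.reverse ^ M := by
      clear hM
      induction M with
      | zero => rw [pow_zero, pow_zero, ← C_1, reverse_C]
      | succ M ih => rw [pow_succ, pow_succ, reverse_mul_of_domain, ih]
    obtain ⟨c, hc⟩ := hM
    refine dvd_trans ?_ hχ.dvd
    rw [hc, reverse_mul_of_domain, h2]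
    exact (pow_dvd_pow_of_dvd h1 M).mul_right _
  · have hfa := minpoly.aeval F α⁻¹
    rw [← hg, hgf] at hfa
    have hfa' : f.eval₂ (Algebra.ofId F (AdjoinRoot f)) α⁻¹ = 0 := hfa
    set τ := AdjoinRoot.liftAlgHom f (Algebra.ofId F (AdjoinRoot f)) α⁻¹ hfa' with hτ
    obtain ⟨p, hcp⟩ := CharP.exists F
    haveI : Fact p.Prime := ⟨CharP.char_is_prime F p⟩
    obtain ⟨i, hi⟩ := FiniteField.exists_forall_apply_eq_pow F p (AdjoinRoot f)
      (AlgEquiv.ofBijective τ τ.toRingHom.injective.bijective_of_finite)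
    refine ⟨i, ?_⟩
    have h1 : α⁻¹ = α ^ Nat.card F ^ i :=
      (AdjoinRoot.liftAlgHom_root f _ _ hfa').symm.trans (hi α)
    have h2 : α ^ (Nat.card F ^ i + 1) = 1 := by rw [pow_succ, ← h1, inv_mul_cancel₀ hα0]
    have h3 := (ZMod.natCast_eq_zero_iff (Nat.card F ^ i + 1) (rootOrder f)).2
      (orderOf_dvd_of_pow_eq_one h2)
    push_cast at h3
    exact eq_neg_of_add_eq_zero_left h3

/-- The reciprocal irreducible factor. -/
theorem exists_star [Finite F] {f : F[X]} (hf : Irreducible f) (hm : f.Monic) {N : ℕ}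
    (hN : 0 < N) (h : f ∣ X ^ N - 1) :
    ∃ g : F[X], Irreducible g ∧ g.Monic ∧ g.natDegree = f.natDegree ∧
      rootOrder g = rootOrder f ∧
      (∀ (M : ℕ) (χ : F[X]), Associated χ.reverse χ → f ^ M ∣ χ → g ^ M ∣ χ) ∧
      (g = f → ∃ i, ((Nat.card F : ℕ) : ZMod (rootOrder f)) ^ i = -1) :=
  let ⟨g, _, hg⟩ := exists_star' hf hm hN h
  ⟨g, hg⟩

/-- Being a factor of the reverse is symmetric. -/
theorem dvd_reverse_symm {f g : F[X]} (hf : Irreducible f) (hg : Irreducible g)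
    (_hf0 : f.coeff 0 ≠ 0) (h : g ∣ f.reverse) : f ∣ g.reverse := by
  classical
  haveI : Fact (Irreducible g) := ⟨hg⟩
  set β := AdjoinRoot.root g with hβ
  have hfb : f.reverse.eval₂ (AdjoinRoot.of g) β = 0 := by
    obtain ⟨c, hc⟩ := h
    rw [hc, eval₂_mul, AdjoinRoot.eval₂_root, zero_mul]
  have hβ0 : β ≠ 0 := by
    intro h0
    rw [h0, eval₂_at_zero, coeff_zero_reverse, map_eq_zero, leadingCoeff_eq_zero] at hfb
    exact hf.ne_zero hfb
  letI := invertibleOfNonzero (inv_ne_zero hβ0)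
  have hinv : ⅟(β⁻¹) = β := by rw [invOf_eq_inv, inv_inv]
  rw [← hinv, eval₂_reverse_eq_zero_iff] at hfb
  have hgr : g.reverse.eval₂ (AdjoinRoot.of g) β⁻¹ = 0 := by
    letI := invertibleOfNonzero hβ0
    rw [← invOf_eq_inv, eval₂_reverse_eq_zero_iff]
    exact AdjoinRoot.eval₂_root g
  have hi : IsIntegral F β⁻¹ :=
    ⟨normalize f, monic_normalize hf.ne_zero, by
      obtain ⟨c, hc⟩ := (normalize_associated f).symm.dvd
      show (normalize f).eval₂ (AdjoinRoot.of g) β⁻¹ = 0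
      rw [hc, eval₂_mul, hfb, zero_mul]⟩
  exact dvd_trans
    ((minpoly.irreducible hi).associated_of_dvd hf (minpoly.dvd F β⁻¹ (p := f) hfb)).symm.dvd
    (minpoly.dvd F β⁻¹ (p := g.reverse) hgr)

/-- The factor of the reverse is unique. -/
theorem eq_of_dvd_reverse {f g g' : F[X]} (hf : Irreducible f) (hf0 : f.coeff 0 ≠ 0)
    (hg : Irreducible g) (hg' : Irreducible g') (hgm : g.Monic) (hgm' : g'.Monic)
    (h : g ∣ f.reverse) (h' : g' ∣ f.reverse) : g = g' := by
  by_contra hne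
  have hc : IsCoprime g g' := (hg.coprime_iff_not_dvd).2 fun hd =>
    hne (eq_of_monic_of_associated hgm hgm' (hg.associated_of_dvd hg' hd))
  have hr0 : f.reverse ≠ 0 := fun h0 => hf.ne_zero (reverse_eq_zero.1 h0)
  have h1 := natDegree_le_of_dvd (hc.mul_dvd h h') hr0
  have h2 := natDegree_le_of_dvd (dvd_reverse_symm hf hg hf0 h)
    (fun h0 => hg.ne_zero (reverse_eq_zero.1 h0))
  have h3 := g.reverse_natDegree_le
  have h4 := f.reverse_natDegree_le
  rw [natDegree_mul hg.ne_zero hg'.ne_zero] at h1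
  have := hg'.natDegree_pos
  omega

theorem coeff_zero_ne_zero {f : F[X]} {N : ℕ} (hN : 0 < N) (h : f ∣ X ^ N - 1) :
    f.coeff 0 ≠ 0 := by
  obtain ⟨c, hc⟩ := h
  intro h0
  have := congrArg (fun P : F[X] => P.coeff 0) hc
  simp [mul_coeff_zero, h0, zero_pow hN.ne', coeff_X_pow, hN.ne] at this

/-- A polynomial whose irreducible factors divide `b`, with multiplicities at most `P`, divides `b ^ P`. -/
theorem dvd_pow_of_factors {χ b : F[X]} {P : ℕ} (hχ : χ ≠ 0) (hb : b ≠ 0)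
    (h : ∀ g : F[X], Irreducible g → g.Monic → g ∣ χ → g ∣ b)
    (hP : ∀ g : F[X], Irreducible g → g.Monic → ¬ g ^ (P + 1) ∣ χ) :
    χ ∣ b ^ P := by
  classical
  rw [UniqueFactorizationMonoid.dvd_iff_normalizedFactors_le_normalizedFactors hχ
    (pow_ne_zero _ hb), UniqueFactorizationMonoid.normalizedFactors_pow, Multiset.le_iff_count]
  intro g
  by_cases hg : g ∈ UniqueFactorizationMonoid.normalizedFactors χ
  · have hgi := UniqueFactorizationMonoid.irreducible_of_normalized_factor g hg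
    have hgn := UniqueFactorizationMonoid.normalize_normalized_factor g hg
    have hgm : g.Monic := hgn ▸ monic_normalize hgi.ne_zero
    have hgb : g ∈ UniqueFactorizationMonoid.normalizedFactors b := by
      rw [UniqueFactorizationMonoid.mem_normalizedFactors_iff' hb]
      exact ⟨hgi, hgn, h g hgi hgm (UniqueFactorizationMonoid.dvd_of_mem_normalizedFactors hg)⟩
    rw [Multiset.count_nsmul]
    refine le_trans ?_ (Nat.le_mul_of_pos_right P (Multiset.count_pos.2 hgb))
    by_contra hlt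
    refine hP g hgi hgm (pow_dvd_iff_le_emultiplicity.2 ?_)
    rw [UniqueFactorizationMonoid.le_emultiplicity_iff_replicate_le_normalizedFactors hgi hχ,
      hgn, ← Multiset.le_count_iff_replicate_le]
    omega
  · rw [Multiset.count_eq_zero_of_notMem hg]
    exact Nat.zero_le _

/-- Powers of a squarefree polynomial have bounded multiplicities. -/
theorem not_pow_dvd_of_squarefree {b g : F[X]} {P : ℕ} (hb : Squarefree b) (hg : Irreducible g) :
    ¬ g ^ (P + 1) ∣ b ^ P := by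
  intro h
  obtain ⟨c, rfl⟩ : g ∣ b := hg.prime.dvd_of_dvd_pow ((dvd_pow_self g P.succ_ne_zero).trans h)
  rw [mul_pow, pow_succ, mul_dvd_mul_iff_left (pow_ne_zero _ hg.ne_zero)] at h
  exact hg.not_isUnit (hb g (mul_dvd_mul_left g (hg.prime.dvd_of_dvd_pow h)))

theorem squarefree_X_pow_sub_one {N : ℕ} (hN : (N : F) ≠ 0) : Squarefree (X ^ N - 1 : F[X]) := by
  have h : (X ^ N - 1 : F[X]).Separable := by
    simpa using separable_X_pow_sub_C (1 : F) (n := N) hN one_ne_zero
  exact h.squarefree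

section matrix

variable {ι : Type*} [Fintype ι] [DecidableEq ι] (p : ℕ) [Fact p.Prime] [CharP F p]

theorem minpoly_dvd_pow {x : Matrix ι ι F} {N e : ℕ} (hx : x ^ (N * p ^ e) = 1) :
    minpoly F x ∣ (X ^ N - 1) ^ p ^ e := by
  rw [sub_pow_char_pow, one_pow, ← pow_mul]
  exact minpoly.dvd F x (by simp [hx])

theorem dvd_X_pow_sub_one_of_factor {x : Matrix ι ι F} {N e : ℕ} {f : F[X]} (hf : Irreducible f)
    (hx : x ^ (N * p ^ e) = 1) (hfx : f ∣ minpoly F x) : f ∣ X ^ N - 1 :=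
  hf.prime.dvd_of_dvd_pow (hfx.trans (minpoly_dvd_pow p hx))

/-- If `x ^ (N p^e) = 1` and `x ^ (k p^e) ≠ 1`, some factor of the minimal polynomial divides
`X ^ N - 1` but not `X ^ k - 1`. -/
theorem exists_factor_not_dvd {x : Matrix ι ι F} {N k e : ℕ} (hN : (N : F) ≠ 0) (hk : 0 < k)
    (hx : x ^ (N * p ^ e) = 1) (hne : x ^ (k * p ^ e) ≠ 1) :
    ∃ f : F[X], Irreducible f ∧ f.Monic ∧ f ∣ minpoly F x ∧ f ∣ X ^ N - 1 ∧ ¬ f ∣ X ^ k - 1 := by
  by_contra hcon
  push Not at hcon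
  have hμ0 : minpoly F x ≠ 0 := minpoly.ne_zero (Algebra.IsIntegral.isIntegral x)
  have hb : (X ^ k - 1 : F[X]) ≠ 0 := by simpa using X_pow_sub_C_ne_zero hk (1 : F)
  have hd := dvd_pow_of_factors (P := p ^ e) hμ0 hb
    (fun g hg hgm hgd => hcon g hg hgm hgd (dvd_X_pow_sub_one_of_factor p hg hx hgd))
    (fun g hg _ hgd => not_pow_dvd_of_squarefree (squarefree_X_pow_sub_one hN) hg
      (hgd.trans (minpoly_dvd_pow p hx)))
  rw [sub_pow_char_pow, one_pow, ← pow_mul] at hd
  have h0 := aeval_eq_zero_of_dvd_aeval_eq_zero hd (minpoly.aeval F x)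
  rw [map_sub, map_pow, aeval_X, map_one, sub_eq_zero] at h0
  exact hne h0

/-- If `x ^ (N p^e) = 1` and `x ^ N ≠ 1`, the minimal polynomial has a repeated factor. -/
theorem exists_sq_factor {x : Matrix ι ι F} {N e : ℕ} (hN : (N : F) ≠ 0)
    (hx : x ^ (N * p ^ e) = 1) (hne : x ^ N ≠ 1) :
    ∃ g : F[X], Irreducible g ∧ g.Monic ∧ g ^ 2 ∣ minpoly F x ∧ g ∣ X ^ N - 1 := by
  by_contra hcon
  push Not at hcon
  have hμ0 : minpoly F x ≠ 0 := minpoly.ne_zero (Algebra.IsIntegral.isIntegral x)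
  have hb : (X ^ N - 1 : F[X]) ≠ 0 := (squarefree_X_pow_sub_one hN).ne_zero
  have hd := dvd_pow_of_factors (P := 1) hμ0 hb
    (fun g hg _ hgd => dvd_X_pow_sub_one_of_factor p hg hx hgd)
    (fun g hg hgm hgd => hcon g hg hgm hgd
      (dvd_X_pow_sub_one_of_factor p hg hx ((dvd_pow_self g two_ne_zero).trans hgd)))
  rw [pow_one] at hd
  have h0 := aeval_eq_zero_of_dvd_aeval_eq_zero hd (minpoly.aeval F x)
  rw [map_sub, map_pow, aeval_X, map_one, sub_eq_zero] at h0
  exact hne h0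

end matrix

/-- Characteristic polynomials of symplectic matrices are self reciprocal. -/
theorem associated_reverse_charpoly {m : ℕ} (g : Matrix.symplecticGroup (Fin m) F) :
    Associated (g : Matrix (Fin m ⊕ Fin m) (Fin m ⊕ Fin m) F).charpoly.reverse
      (g : Matrix (Fin m ⊕ Fin m) (Fin m ⊕ Fin m) F).charpoly := by
  have hu : IsUnit (g : Matrix (Fin m ⊕ Fin m) (Fin m ⊕ Fin m) F) :=
    (Matrix.isUnit_iff_isUnit_det _).2 (SymplecticGroup.symplectic_det g.2)
  have h := Matrix.charpoly_inv _ hu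
  rw [← SymplecticGroup.coe_inv', SymplecticGroup.coe_inv, Matrix.charpoly_mul_comm,
    ← mul_assoc, mul_neg, Matrix.J_squared, neg_neg, one_mul, Matrix.charpoly_transpose,
    ← Matrix.reverse_charpoly] at h
  set χ := (g : Matrix (Fin m ⊕ Fin m) (Fin m ⊕ Fin m) F).charpoly
  have h0 : χ ≠ 0 := (Matrix.charpoly_monic _).ne_zero
  rw [h] at h0
  obtain ⟨hc, -⟩ := mul_ne_zero_iff.1 h0
  rw [mul_ne_zero_iff, C_ne_zero] at hc
  conv_rhs => rw [h]
  exact (associated_unit_mul_left χ.reverse _ (((isUnit_one.neg).pow _).mul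
    (isUnit_C.2 (Ne.isUnit hc.2)))).symm

end Cfsg.Agent.GLOrder
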