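/-
Odd element orders of `Sp_{2n}(q)`, `q` odd.
* `exists_block`, `hasOrd_closed` : tori from self reciprocal sets of irreducible factors
* `odd_order_cases` : an odd order is either (twice it) an element order of `PSp`, or divides
  `q^n ± 1`, or is a power of `p` needing the regular unipotent class
-/
import Cfsg.Agent.EqLemmas
import Cfsg.Agent.Lib.GLOrder.SympOrders

set_option autoImplicit false
set_option linter.style.haveILetI false
set_option linter.unusedSectionVars false
set_option linter.unusedSimpArgs false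

namespace Cfsg.Agent.GLOrder

open Polynomial Module

universe u

variable {F : Type u} [Field F] [Fintype F]

/-- A self reciprocal set of irreducible factors of `X^N - 1`, none with root one. -/
structure ClosedSet (N : ℕ) (T : Finset F[X]) : Prop where
  irr : ∀ f ∈ T, Irreducible f
  monic : ∀ f ∈ T, f.Monic
  dvd : ∀ f ∈ T, f ∣ X ^ N - 1
  two_lt : ∀ f ∈ T, 2 < rootOrder f
  closed : ∀ f ∈ T, ∀ g : F[X], Irreducible g → g.Monic → g ∣ f.reverse → g ∈ T

open scoped Classical in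
/-- One block. -/
theorem exists_block {N : ℕ} (hN : 0 < N) {T : Finset F[X]} (hT : ClosedSet N T) {f : F[X]}
    (hfT : f ∈ T) :
    ∃ B : Finset F[X], B ⊆ T ∧ f ∈ B ∧ ClosedSet N B ∧ ClosedSet N (T \ B) ∧
      ∃ η, 1 ≤ η ∧ ∑ g ∈ B, g.natDegree = 2 * η ∧
        ((B.lcm rootOrder) ∣ Fintype.card F ^ η - 1 ∨ (B.lcm rootOrder) ∣ Fintype.card F ^ η + 1) := by
  classical
  have hf := hT.irr f hfT
  have hfm := hT.monic f hfT
  have hfN := hT.dvd f hfT
  obtain ⟨g, hgr, hg, hgm, hgd, hgo, -, hself⟩ := exists_star' hf hfm hN hfN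
  have hgT : g ∈ T := hT.closed f hfT g hg hgm hgr
  have h2 := hT.two_lt f hfT
  have hd : f.natDegree = orderOf ((Fintype.card F : ℕ) : ZMod (rootOrder f)) := by
    rw [natDegree_eq_orderOf hf hN hfN, Nat.card_eq_fintype_card]
  have hfg : f ∣ g.reverse := dvd_reverse_symm hf hg (coeff_zero_ne_zero hN hfN) hgr
  have hclB : ∀ e ∈ ({f, g} : Finset F[X]), ∀ h : F[X], Irreducible h → h.Monic → h ∣ e.reverse →
      h ∈ ({f, g} : Finset F[X]) := by
    intro e he h hh hhm hhr
    rw [Finset.mem_insert, Finset.mem_singleton] at he ⊢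
    rcases he with rfl | rfl
    · exact Or.inr (eq_of_dvd_reverse hf (coeff_zero_ne_zero hN hfN) hh hg hhm hgm hhr hgr)
    · exact Or.inl (eq_of_dvd_reverse hg (coeff_zero_ne_zero hN (hT.dvd _ hgT)) hh hf hhm hfm
        hhr hfg)
  have hsub : ({f, g} : Finset F[X]) ⊆ T := by
    simp [Finset.insert_subset_iff, hfT, hgT]
  refine ⟨{f, g}, hsub, by simp, ⟨fun e he => hT.irr e (hsub he), fun e he => hT.monic e (hsub he),
    fun e he => hT.dvd e (hsub he), fun e he => hT.two_lt e (hsub he), hclB⟩,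
    ⟨fun e he => hT.irr e (Finset.mem_sdiff.1 he).1, fun e he => hT.monic e (Finset.mem_sdiff.1 he).1,
    fun e he => hT.dvd e (Finset.mem_sdiff.1 he).1, fun e he => hT.two_lt e (Finset.mem_sdiff.1 he).1,
    fun e he h hh hhm hhr => ?_⟩, ?_⟩
  · obtain ⟨heT, heB⟩ := Finset.mem_sdiff.1 he
    refine Finset.mem_sdiff.2 ⟨hT.closed e heT h hh hhm hhr, fun hhB => heB ?_⟩
    exact hclB h hhB e (hT.irr e heT) (hT.monic e heT)
      (dvd_reverse_symm (hT.irr e heT) hh (coeff_zero_ne_zero hN (hT.dvd e heT)) hhr)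
  have hlcm : ({f, g} : Finset F[X]).lcm rootOrder ∣ rootOrder f :=
    Finset.lcm_dvd fun e he => by
      rcases Finset.mem_insert.1 he with rfl | he
      · exact dvd_rfl
      · rw [Finset.mem_singleton.1 he, hgo]
  rcases eq_or_ne g f with hgf | hgf
  · obtain ⟨i, hi⟩ := hself hgf
    rw [Nat.card_eq_fintype_card] at hi
    haveI : Fact (2 < rootOrder f) := ⟨h2⟩
    set Q : ZMod (rootOrder f) := ((Fintype.card F : ℕ) : ZMod (rootOrder f)) with hQ
    obtain ⟨η, hη⟩ : Even f.natDegree := by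
      by_contra ho
      rw [Nat.not_even_iff_odd] at ho
      exact ne_of_odd_orderOf h2 (hd ▸ ho) hi
    have hdi : f.natDegree ∣ 2 * i := by
      rw [hd]
      refine orderOf_dvd_of_pow_eq_one ?_
      rw [mul_comm, pow_mul, hi, neg_one_sq]
    rw [hη, ← two_mul, Nat.mul_dvd_mul_iff_left two_pos] at hdi
    obtain ⟨u, hu⟩ := hdi
    have hQ2 : Q ^ (2 * η) = 1 := by rw [two_mul, ← hη, hd, pow_orderOf_eq_one]
    refine ⟨η, by have := hf.natDegree_pos; omega, ?_, Or.inr (hlcm.trans ?_)⟩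
    · rw [hgf, Finset.insert_eq_of_mem (Finset.mem_singleton_self f), Finset.sum_singleton, hη,
        two_mul]
    · rw [← ZMod.natCast_eq_zero_iff, Nat.cast_add, Nat.cast_pow, ← hQ, Nat.cast_one]
      rcases Nat.even_or_odd' u with ⟨w, hw | hw⟩
      · exfalso
        rw [hu, hw, show η * (2 * w) = 2 * η * w by ring, pow_mul, hQ2, one_pow] at hi
        exact ZMod.neg_one_ne_one hi.symm
      · rw [hu, hw, show η * (2 * w + 1) = 2 * η * w + η by ring, pow_add, pow_mul, hQ2, one_pow,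
          one_mul] at hi
        rw [hi, neg_add_cancel]
  · refine ⟨f.natDegree, hf.natDegree_pos, ?_, Or.inl (hlcm.trans ?_)⟩
    · rw [Finset.sum_insert (by simpa using Ne.symm hgf), Finset.sum_singleton, hgd, two_mul]
    · exact dvd_pow_sub_one hd

theorem dvd_torus_hasOrd {η L : ℕ} (hη : 1 ≤ η)
    (h : L ∣ Fintype.card F ^ η - 1 ∨ L ∣ Fintype.card F ^ η + 1) : HasOrd F η L := by
  rcases h with h | h
  · exact (hasOrd_sub_one F hη).mono (by rwa [Nat.card_eq_fintype_card])
  · exact (hasOrd_add_one F hη).mono (by rwa [Nat.card_eq_fintype_card])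

/-- The torus of a closed set. -/
theorem hasOrd_closed {N : ℕ} (hN : 0 < N) (T : Finset F[X]) (hT : ClosedSet N T)
    (hne : T.Nonempty) :
    ∃ m, 1 ≤ m ∧ ∑ g ∈ T, g.natDegree = 2 * m ∧ HasOrd F m (T.lcm rootOrder) := by
  classical
  induction hc : T.card using Nat.strong_induction_on generalizing T with
  | _ c ih =>
    obtain ⟨f, hf⟩ := hne
    obtain ⟨B, hBT, hfB, hB, hT', η, hη, hsum, hdvd⟩ := exists_block hN hT hf
    have hlcm : T.lcm rootOrder ∣ Nat.lcm (B.lcm rootOrder) ((T \ B).lcm rootOrder) := by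
      refine Finset.lcm_dvd fun e he => ?_
      by_cases heB : e ∈ B
      · exact (Finset.dvd_lcm heB).trans (Nat.dvd_lcm_left _ _)
      · exact (Finset.dvd_lcm (Finset.mem_sdiff.2 ⟨he, heB⟩)).trans (Nat.dvd_lcm_right _ _)
    have hsplit := Finset.sum_sdiff (f := fun g : F[X] => g.natDegree) hBT
    rcases (T \ B).eq_empty_or_nonempty with h0 | h0
    · refine ⟨η, hη, ?_, (dvd_torus_hasOrd hη hdvd).mono ?_⟩
      · rw [h0] at hsplit; simpa [hsum] using hsplit.symm
      · rw [h0] at hlcm; simpa using hlcm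
    · have hlt : (T \ B).card < c :=
        hc ▸ Finset.card_lt_card ((Finset.sdiff_ssubset hBT ⟨f, hfB⟩))
      obtain ⟨m, hm, hms, hmo⟩ := ih _ hlt (T \ B) hT' h0 rfl
      refine ⟨η + m, by omega, ?_, ((dvd_torus_hasOrd hη hdvd).prod hmo).mono hlcm⟩
      omega

/-- Odd element orders of `Sp_{2n}(q)`. -/
theorem odd_order_cases (p : ℕ) [Fact p.Prime] [CharP F p] (h2 : (2 : F) ≠ 0) {n : ℕ} (hn : 2 ≤ n)
    {x : Matrix.symplecticGroup (Fin n) F} {a : ℕ} (ha : Odd a)
    (hx : orderOf (x : Matrix (Fin n ⊕ Fin n) (Fin n ⊕ Fin n) F) = a) :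
    (∃ g : Cfsg.PSp n F, a ∣ orderOf g ∧ 2 ∣ orderOf g) ∨
      a ∣ Fintype.card F ^ n - 1 ∨ a ∣ Fintype.card F ^ n + 1 ∨
      (∃ j, 2 * n - 1 = p ^ j ∧ a ∣ p ^ (j + 1)) := by
  classical
  have hp : p.Prime := Fact.out
  have hpodd : Odd p := hp.odd_of_ne_two fun h => h2 (by
    exact_mod_cast (CharP.cast_eq_zero_iff F p 2).2 (h ▸ dvd_rfl))
  obtain ⟨b, e, hpe, hab⟩ := Nat.exists_eq_pow_mul_and_not_dvd ha.pos.ne' p hp.ne_one
  have hea : e ∣ a := hab ▸ dvd_mul_left _ _
  have he0 : 0 < e := Nat.pos_of_dvd_of_pos hea ha.pos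
  have heF : (e : F) ≠ 0 := by rwa [Ne, CharP.cast_eq_zero_iff F p]
  set M := (x : Matrix (Fin n ⊕ Fin n) (Fin n ⊕ Fin n) F) with hM
  have hxN : M ^ (e * p ^ b) = 1 := by rw [mul_comm, ← hab, ← hx, pow_orderOf_eq_one]
  have hχ := Matrix.minpoly_dvd_charpoly M
  have hχ0 : M.charpoly ≠ 0 := (Matrix.charpoly_monic M).ne_zero
  have hμ0 : minpoly F M ≠ 0 := minpoly.ne_zero (Algebra.IsIntegral.isIntegral M)
  have hdeg : M.charpoly.natDegree = 2 * n := by
    rw [Matrix.charpoly_natDegree_eq_dim, Fintype.card_sum, Fintype.card_fin, two_mul]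
  have hrev := associated_reverse_charpoly x
  rw [← hM] at hrev
  set T : Finset F[X] :=
    (UniqueFactorizationMonoid.normalizedFactors M.charpoly).toFinset.filter
      fun f => f ∣ X ^ e - 1 ∧ ¬ f ∣ X ^ 1 - 1 with hTdef
  have hmemT : ∀ f, f ∈ T ↔ Irreducible f ∧ f.Monic ∧ f ∣ M.charpoly ∧ f ∣ X ^ e - 1 ∧
      ¬ f ∣ X ^ 1 - 1 := by
    intro f
    rw [hTdef, Finset.mem_filter, Multiset.mem_toFinset,
      UniqueFactorizationMonoid.mem_normalizedFactors_iff' hχ0]
    constructor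
    · rintro ⟨⟨h1, h2, h3⟩, h4, h5⟩
      exact ⟨h1, h2 ▸ monic_normalize h1.ne_zero, h3, h4, h5⟩
    · rintro ⟨h1, h2, h3, h4, h5⟩
      exact ⟨⟨h1, h2.normalize_eq_self, h3⟩, h4, h5⟩
  have hT : ClosedSet e T := by
    refine ⟨fun f hf => ((hmemT f).1 hf).1, fun f hf => ((hmemT f).1 hf).2.1,
      fun f hf => ((hmemT f).1 hf).2.2.2.1, fun f hf => ?_, fun f hf g hg hgm hgr => ?_⟩
    · obtain ⟨-, -, -, h4, h5⟩ := (hmemT f).1 hf
      rw [dvd_X_pow_sub_one_iff] at h4 h5
      obtain ⟨w, hw⟩ := Odd.of_dvd_nat ha (h4.trans hea)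
      have : rootOrder f ≠ 1 := fun h => h5 (h ▸ dvd_rfl)
      omega
    · obtain ⟨h1, h2, h3, h4, h5⟩ := (hmemT f).1 hf
      obtain ⟨g', hgr', hg', hgm', -, hgo, hM', -⟩ := exists_star' h1 h2 he0 h4
      obtain rfl := eq_of_dvd_reverse h1 (coeff_zero_ne_zero he0 h4) hg hg' hgm hgm' hgr hgr'
      refine (hmemT g).2 ⟨hg, hgm, by simpa using hM' 1 _ hrev (by simpa using h3), ?_, ?_⟩
      · rw [dvd_X_pow_sub_one_iff, hgo, ← dvd_X_pow_sub_one_iff]; exact h4
      · rw [dvd_X_pow_sub_one_iff, hgo, ← dvd_X_pow_sub_one_iff]; exact h5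
  set L := T.lcm rootOrder with hL
  have hLe : L ∣ e := Finset.lcm_dvd fun f hf => dvd_X_pow_sub_one_iff.1 (hT.dvd f hf)
  have hLodd : Odd L := ha.of_dvd_nat (hLe.trans hea)
  have hfac : ∀ g : F[X], Irreducible g → g.Monic → g ∣ minpoly F M → g ∣ X ^ L - 1 := by
    intro g hg hgm hgμ
    have hge := dvd_X_pow_sub_one_of_factor p hg hxN hgμ
    rw [dvd_X_pow_sub_one_iff]
    by_cases h1 : g ∣ X ^ 1 - 1
    · exact (dvd_X_pow_sub_one_iff.1 h1).trans (one_dvd _)
    · exact Finset.dvd_lcm ((hmemT g).2 ⟨hg, hgm, hgμ.trans hχ, hge, h1⟩)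
  -- the exponent of `p`
  have hex : ∃ c, ∀ g : F[X], Irreducible g → g.Monic → ¬ g ^ (p ^ c + 1) ∣ minpoly F M :=
    ⟨b, fun g hg _ h => not_pow_dvd_of_squarefree (squarefree_X_pow_sub_one heF) hg
      (h.trans (minpoly_dvd_pow p hxN))⟩
  set c := Nat.find hex
  have hc := Nat.find_spec hex
  have haLc : a ∣ L * p ^ c := by
    have hd := dvd_pow_of_factors (P := p ^ c) hμ0
      (by simpa using X_pow_sub_C_ne_zero hLodd.pos (1 : F)) hfac hc
    rw [sub_pow_char_pow, one_pow, ← pow_mul] at hd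
    have h0 := aeval_eq_zero_of_dvd_aeval_eq_zero hd (minpoly.aeval F M)
    rw [map_sub, map_pow, aeval_X, map_one, sub_eq_zero] at h0
    exact hx ▸ orderOf_dvd_of_pow_eq_one h0
  -- two blocks give twice the order
  have hup : ∀ {m m' u v : ℕ}, 1 ≤ m → 1 ≤ m' → m + m' ≤ n → Odd u → Odd v → HasOrd F m u →
      HasOrd F m' v → a ∣ Nat.lcm u v →
      ∃ g : Cfsg.PSp n F, a ∣ orderOf g ∧ 2 ∣ orderOf g := by
    intro m m' u v hm hm' hle hu hv h h' hd
    have hh := exists_psp_two_mul h2 hm (m' := n - m) (by omega) hu hv h (h'.le (by omega))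
    rw [Nat.add_sub_cancel' (by omega : m ≤ n)] at hh
    obtain ⟨g, hg⟩ := hh
    exact ⟨g, hd.trans (hg ▸ dvd_mul_left _ _), hg ▸ dvd_mul_right _ _⟩
  have hprod : ∀ (S : Finset F[X]), S ⊆ T → (∏ f ∈ S, f) ∣ M.charpoly ∧ True := fun S hS =>
    ⟨Finset.prod_dvd_of_coprime (fun f hf g hg hfg => coprime_of_ne (hT.irr f (hS hf))
      (hT.irr g (hS hg)) (hT.monic f (hS hf)) (hT.monic g (hS hg)) hfg)
      (fun f hf => ((hmemT f).1 (hS hf)).2.2.1), trivial⟩
  have hsumle : ∑ f ∈ T, f.natDegree ≤ 2 * n := by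
    rw [← natDegree_prod _ _ (fun f hf => (hT.irr f hf).ne_zero), ← hdeg]
    exact natDegree_le_of_dvd (hprod T subset_rfl).1 hχ0
  rcases Nat.eq_zero_or_pos c with hc0 | hcpos
  · rw [hc0, pow_zero, mul_one] at haLc
    rcases T.eq_empty_or_nonempty with hT0 | hT0
    · have ha1 : a = 1 := by
        rw [hL, hT0, Finset.lcm_empty] at haLc
        exact Nat.dvd_one.1 haLc
      left
      exact hup (m := 1) (m' := 1) le_rfl le_rfl (by omega) odd_one odd_one (HasOrd.one le_rfl)
        (HasOrd.one le_rfl) (by rw [ha1]; exact one_dvd _)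
    obtain ⟨f, hf⟩ := hT0
    obtain ⟨B, hBT, hfB, hB, hT', η, hη, hsum, hdvd⟩ := exists_block he0 hT hf
    have hsplit := Finset.sum_sdiff (f := fun g : F[X] => g.natDegree) hBT
    have hlcm : L ∣ Nat.lcm (B.lcm rootOrder) ((T \ B).lcm rootOrder) := by
      refine Finset.lcm_dvd fun e he => ?_
      by_cases heB : e ∈ B
      · exact (Finset.dvd_lcm heB).trans (Nat.dvd_lcm_left _ _)
      · exact (Finset.dvd_lcm (Finset.mem_sdiff.2 ⟨he, heB⟩)).trans (Nat.dvd_lcm_right _ _)
    have hBodd : ∀ S : Finset F[X], S ⊆ T → Odd (S.lcm rootOrder) := fun S hS =>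
      hLodd.of_dvd_nat (Finset.lcm_mono hS)
    rcases (T \ B).eq_empty_or_nonempty with h0 | h0
    · have haB : a ∣ B.lcm rootOrder := by
        rw [h0] at hlcm
        exact haLc.trans (by simpa using hlcm)
      have hηn : η ≤ n := by rw [h0] at hsplit; simp [hsum] at hsplit; omega
      rcases Nat.eq_or_lt_of_le hηn with rfl | hlt
      · exact Or.inr (hdvd.imp haB.trans fun h => Or.inl (haB.trans h))
      · left
        exact hup hη (show 1 ≤ n - η by omega) (by omega) (hBodd B hBT) odd_one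
          (dvd_torus_hasOrd hη hdvd) (HasOrd.one (by omega))
          (by rw [Nat.lcm_one_right]; exact haB)
    · left
      obtain ⟨m, hm, hms, hmo⟩ := hasOrd_closed he0 (T \ B) hT' h0
      exact hup hη hm (by omega) (hBodd B hBT) (hBodd _ Finset.sdiff_subset)
        (dvd_torus_hasOrd hη hdvd) hmo (haLc.trans hlcm)
  · obtain ⟨j, hj⟩ := Nat.exists_eq_succ_of_ne_zero hcpos.ne'
    have hnot := Nat.find_min hex (show j < c by omega)
    push Not at hnot
    obtain ⟨g, hg, hgm, hgμ⟩ := hnot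
    have hgχ := hgμ.trans hχ
    set P := p ^ j with hP
    have hP1 : 1 ≤ P := Nat.one_le_pow _ _ hp.pos
    -- room for the unipotent part
    have hroom : ∑ f ∈ T, f.natDegree + (P + 1) ≤ 2 * n := by
      have hgd := hg.natDegree_pos
      have hpos : ∀ S : Finset F[X], S ⊆ T → ∀ w : F[X], w ∣ M.charpoly →
          IsCoprime (∏ f ∈ S, f) w → ∑ f ∈ S, f.natDegree + w.natDegree ≤ 2 * n := by
        intro S hS w hw hco
        rw [← natDegree_prod _ _ (fun f hf => (hT.irr f (hS hf)).ne_zero), ← hdeg]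
        exact natDegree_add_le_of_coprime hco hχ0 (hprod S hS).1 hw
      have hco : ∀ S : Finset F[X], S ⊆ T → ∀ w : F[X], Irreducible w → w.Monic → w ∉ S → ∀ l : ℕ,
          IsCoprime (∏ f ∈ S, f) (w ^ l) := by
        intro S hS w hw hwm hwS l
        refine IsCoprime.pow_right (IsCoprime.prod_left fun f hf => ?_)
        exact coprime_of_ne (hT.irr f (hS hf)) hw (hT.monic f (hS hf)) hwm fun h => hwS (h ▸ hf)
      by_cases hgT : g ∈ T
      · obtain ⟨g', hgr, hg', hgm', hgd', hgo, hM', hself⟩ :=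
          exists_star' hg hgm he0 (hT.dvd g hgT)
        have hg'T : g' ∈ T := hT.closed g hgT g' hg' hgm' hgr
        rcases eq_or_ne g' g with hgg | hgg
        · have h1 := hpos (T.erase g) (Finset.erase_subset g T) _ hgχ
            (hco _ (Finset.erase_subset g T) g hg hgm (Finset.notMem_erase g T) _)
          rw [natDegree_pow] at h1
          have hd2 : 2 ≤ g.natDegree := by
            by_contra hd
            obtain ⟨i, hi⟩ := hself hgg
            have hd1 := natDegree_eq_orderOf hg he0 (hT.dvd g hgT)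
            rw [show g.natDegree = 1 by omega, eq_comm, orderOf_eq_one_iff] at hd1
            rw [hd1, one_pow] at hi
            haveI : Fact (2 < rootOrder g) := ⟨hT.two_lt g hgT⟩
            exact ZMod.neg_one_ne_one hi.symm
          rw [← Finset.sum_erase_add _ _ hgT]
          nlinarith
        · have hsub : (T.erase g).erase g' ⊆ T :=
            (Finset.erase_subset _ _).trans (Finset.erase_subset g T)
          have hg'χ := hM' (P + 1) _ hrev hgχ
          have hcc := coprime_of_ne hg hg' hgm hgm' (Ne.symm hgg)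
          have h1 := hpos _ hsub _ ((hcc.pow (m := P + 1) (n := P + 1)).mul_dvd hgχ hg'χ)
            ((hco _ hsub g hg hgm (by simp) _).mul_right
              (hco _ hsub g' hg' hgm' (by simp) _))
          rw [natDegree_mul (pow_ne_zero _ hg.ne_zero) (pow_ne_zero _ hg'.ne_zero), natDegree_pow,
            natDegree_pow, hgd'] at h1
          rw [← Finset.sum_erase_add _ _ hgT,
            ← Finset.sum_erase_add _ _ (Finset.mem_erase.2 ⟨hgg, hg'T⟩), hgd']
          nlinarith
      · have h1 := hpos T subset_rfl _ hgχ (hco T subset_rfl g hg hgm hgT _)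
        rw [natDegree_pow] at h1
        nlinarith
    obtain ⟨k, hk⟩ : Even (P + 1) := (hpodd.pow).add_one
    have hPk : p ^ j < 2 * k := by omega
    have hu : HasOrd F k (p ^ c) := by rw [hj]; exact hasOrd_unipotent F p h2 hPk
    rcases T.eq_empty_or_nonempty with hT0 | hT0
    · rw [hL, hT0, Finset.lcm_empty, one_mul] at haLc
      rw [hT0, Finset.sum_empty, zero_add] at hroom
      rcases Nat.eq_or_lt_of_le hroom with hPn | hlt
      · exact Or.inr (Or.inr (Or.inr ⟨j, by omega, by rw [hj] at haLc; exact haLc⟩))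
      · left
        exact hup (m := k) (m' := n - k) (by omega) (by omega) (by omega) hpodd.pow odd_one hu
          (HasOrd.one (by omega)) (by rw [Nat.lcm_one_right]; exact haLc)
    · left
      obtain ⟨m, hm, hms, hmo⟩ := hasOrd_closed he0 T hT hT0
      refine hup hm (show 1 ≤ k by omega) (by omega) hLodd hpodd.pow hmo hu ?_
      rw [Nat.Coprime.lcm_eq_mul]
      · exact haLc
      · refine Nat.Coprime.pow_right _ (Nat.Coprime.symm (hp.coprime_iff_not_dvd.2 fun h => hpe ?_))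
        exact h.trans hLe

end Cfsg.Agent.GLOrder
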