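import Cfsg.Agent.EqLemmas
import Cfsg.Agent.Lib.GLOrder.SympRootData
import Mathlib.FieldTheory.Finite.Basic

/-!
# Two generation of `Sp_{2m}(F)`

`exists_two_gen_Sp` : `Sp_{2m}(F)` is generated by two elements for `m ≥ 2`, except `m = 2`, `q = 2`.
With `h = diag(ζ, ..., ζ; ζ⁻¹, ..., ζ⁻¹)`, `r = e₀ - e₁`, `n` the Coxeter element and `s = 2e₀`, the
generators are `h x_r(1)` and `n` (odd `q`) resp. `n x_s(1)` (even `q`).

* `comm_rootX`, `commute_long`, `comm_long` : commutator formulas;
* `All K a b` : `K` contains the whole root subgroup of the position `(a, b)`.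
-/

set_option autoImplicit false

open Matrix

namespace Cfsg.Agent.GLOrder.SpRoot

variable {m : ℕ} {F : Type*} [Field F]

local notation "Sp" => Matrix.symplecticGroup (Fin m) F

/-! ### Elementary properties -/

theorem rootX_mul {a b : Ix m} (h : a ≠ b) (t u : F) :
    rootX a b h t * rootX a b h u = (rootX a b h (t + u) : Sp) := by
  refine Subtype.ext ?_
  have h0 : rootMat a b t * rootMat a b u = 0 :=
    (rootMat_supp a b t).mul_self h (rootMat_supp a b u)
  have hadd : rootMat a b t + rootMat a b u = rootMat a b (t + u) := by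
    ext x y
    simp only [rootMat, Matrix.add_apply, Matrix.of_apply]
    split_ifs <;> ring
  show (1 + rootMat a b t) * (1 + rootMat a b u) = 1 + rootMat a b (t + u)
  calc (1 + rootMat a b t) * (1 + rootMat a b u)
      = 1 + (rootMat a b t + rootMat a b u) + rootMat a b t * rootMat a b u := by noncomm_ring
    _ = _ := by rw [h0, hadd, add_zero]

theorem rootX_zero {a b : Ix m} (h : a ≠ b) : (rootX a b h 0 : Sp) = 1 := by
  have := rootX_mul (F := F) h 0 0
  rw [add_zero] at this
  exact mul_eq_left.1 this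

theorem rootX_inv {a b : Ix m} (h : a ≠ b) (t : F) : (rootX a b h t : Sp)⁻¹ = rootX a b h (-t) :=
  inv_eq_of_mul_eq_one_right (by rw [rootX_mul, add_neg_cancel, rootX_zero])

theorem rootX_pow {a b : Ix m} (h : a ≠ b) (t : F) (n : ℕ) :
    (rootX a b h t : Sp) ^ n = rootX a b h (n * t) := by
  induction n with
  | zero => simp [rootX_zero]
  | succ n ih => rw [pow_succ, ih, rootX_mul]; congr 1; push_cast; ring

theorem rootX_eq_swap {a b : Ix m} (h : a ≠ b) (t : F) :
    (rootX a b h t : Sp) =
      rootX b.swap a.swap (fun e => h (swap_inj e).symm) (-(cf a * cf b * t)) := by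
  have hm : (rootX a b h t : Sp) ∈ rootU (root b.swap a.swap (fun e => h (swap_inj e).symm)) := by
    rw [root_swap]; exact rootX_mem a b h t
  rw [eq_rootX _ hm]
  congr 1
  rw [dev_rootX, rootMat_skew, rootMat_apply]

/-! ### Monomial elements -/

/-- A monomial matrix. -/
def monoMat (π : Equiv.Perm (Ix m)) (s : Ix m → F) : Matrix (Ix m) (Ix m) F :=
  Matrix.of fun x y => if x = π y then s y else 0

theorem monoMat_mem {π : Equiv.Perm (Ix m)} (hπ : ∀ x, π x.swap = (π x).swap) {s : Ix m → F}
    (hs : ∀ x, s x * s x.swap * cf (π x) = cf x) :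
    monoMat π s ∈ Matrix.symplecticGroup (Fin m) F := by
  rw [SymplecticGroup.mem_iff']
  ext x y
  have hJM : ∀ z, (Matrix.J (Fin m) F * monoMat π s) z y = cf z * monoMat π s z.swap y :=
    fun z => J_mul_apply _ z y
  rw [Matrix.mul_assoc, Matrix.mul_apply, Finset.sum_eq_single (π x)]
  · rw [Matrix.transpose_apply, hJM, J_eq]
    simp only [monoMat, Matrix.of_apply, if_true]
    by_cases hy : y = x.swap
    · subst hy
      rw [if_pos rfl, if_pos (hπ x).symm, ← hs x]
      ring
    · rw [if_neg hy, if_neg, mul_zero, mul_zero]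
      rw [← hπ]
      exact fun e => hy (π.injective e).symm
  · intro z _ hz
    rw [Matrix.transpose_apply]
    simp [monoMat, hz]
  · exact fun h => absurd (Finset.mem_univ _) h

/-- A monomial element. -/
def monoEl (π : Equiv.Perm (Ix m)) (s : Ix m → F) (hπ : ∀ x, π x.swap = (π x).swap)
    (hs : ∀ x, s x * s x.swap * cf (π x) = cf x) : Sp := ⟨monoMat π s, monoMat_mem hπ hs⟩

theorem mono_monoEl (π : Equiv.Perm (Ix m)) (s : Ix m → F) (hπ : ∀ x, π x.swap = (π x).swap)
    (hs : ∀ x, s x * s x.swap * cf (π x) = cf x) : Mono π (monoEl π s hπ hs) := fun x y hne => by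
  by_contra h
  exact hne (if_neg h)

theorem Mono.conj_rootX {π : Equiv.Perm (Ix m)} (hπ : ∀ x, π x.swap = (π x).swap) {n : Sp}
    (hn : Mono π n) {a b : Ix m} (h : a ≠ b) (t : F) :
    n * rootX a b h t * n⁻¹ =
      rootX (π a) (π b) (fun e => h (π.injective e)) (n.1 (π a) a * t / n.1 (π b) b) := by
  have hmem : n * rootX a b h t * n⁻¹ ∈
      (rootU (root (π a) (π b) (fun e => h (π.injective e))) : Subgroup Sp) := by
    show Supp (dev (n * rootX a b h t * n⁻¹)) (wt (π a) - wt (π b))
    rw [← wact_wt_sub hπ]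
    exact Mono.conj_supp hπ hn (rootX_mem a b h t)
  rw [eq_rootX _ hmem]
  congr 1
  have hone : n.1 * (n⁻¹).1 = 1 := by rw [← Submonoid.coe_mul, mul_inv_cancel]; rfl
  have h1 : dev (n * rootX a b h t * n⁻¹) = n.1 * rootMat a b t * (n⁻¹).1 := by
    show (n * rootX a b h t * n⁻¹).1 - 1 = _
    rw [Submonoid.coe_mul, Submonoid.coe_mul]
    show n.1 * (1 + rootMat a b t) * (n⁻¹).1 - 1 = _
    rw [Matrix.mul_add, mul_one, Matrix.add_mul, hone, add_sub_cancel_left]
  have hinv : n.1 (π b) b * (n⁻¹).1 b (π b) = 1 := by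
    have := congrFun (congrFun hone (π b)) (π b)
    rwa [Matrix.one_apply_eq, Matrix.mul_apply, Finset.sum_eq_single b] at this
    · intro z _ hz
      by_contra hc
      exact hz (π.injective (hn _ _ (left_ne_zero_of_mul hc))).symm
    · exact fun h => absurd (Finset.mem_univ _) h
  rw [h1, Matrix.mul_apply, Finset.sum_eq_single b]
  · rw [Matrix.mul_apply, Finset.sum_eq_single a]
    · rw [rootMat_apply, inv_eq_of_mul_eq_one_right hinv |>.symm, div_eq_mul_inv]
    · intro z _ hz
      by_contra hc
      exact hz (π.injective (hn _ _ (left_ne_zero_of_mul hc))).symm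
    · exact fun h => absurd (Finset.mem_univ _) h
  · intro z _ hz
    by_contra hc
    have := hn.inv z (π b) (right_ne_zero_of_mul hc)
    exact hz (by simpa using this)
  · exact fun h => absurd (Finset.mem_univ _) h

/-- Scalars on the two halves. -/
def torScal (z : Fˣ) : Ix m → F := Sum.elim (fun _ => (z : F)) fun _ => ((z⁻¹ : Fˣ) : F)

theorem torScal_mul (z : Fˣ) (x : Ix m) :
    torScal z x * torScal z x.swap * cf ((1 : Equiv.Perm (Ix m)) x) = cf x := by
  cases x <;> simp [torScal]

/-- The element `diag(z, ..., z; z⁻¹, ..., z⁻¹)`. -/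
def torEl (z : Fˣ) : Sp := monoEl 1 (torScal z) (fun _ => rfl) (torScal_mul z)

theorem torEl_apply (z : Fˣ) (x : Ix m) : (torEl z : Sp).1 x x = torScal z x := if_pos rfl

theorem torEl_mul (z w : Fˣ) : (torEl z : Sp) * torEl w = torEl (z * w) := by
  refine Subtype.ext ?_
  ext x y
  rw [Submonoid.coe_mul, Matrix.mul_apply, Finset.sum_eq_single x]
  · show (if x = x then torScal z x else 0) * (if x = y then torScal w y else 0) =
      if x = y then torScal (z * w) y else 0
    rw [if_pos rfl]
    split_ifs with h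
    · subst h; cases x <;> simp [torScal, mul_comm]
    · rw [mul_zero]
  · intro u _ hu
    show (if x = u then torScal z u else 0) * _ = 0
    rw [if_neg (Ne.symm hu), zero_mul]
  · exact fun h => absurd (Finset.mem_univ _) h

/-- The homomorphism `z ↦ torEl z`. -/
def torHom : Fˣ →* Sp := MonoidHom.mk' torEl fun z w => (torEl_mul z w).symm

theorem torEl_conj (z : Fˣ) {a b : Ix m} (h : a ≠ b) (t : F) :
    (torEl z : Sp) * rootX a b h t * (torEl z)⁻¹ =
      rootX a b h (torScal z a * t / torScal z b) := by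
  rw [Mono.conj_rootX (π := 1) (fun _ => rfl) (show Mono 1 (torEl z : Sp) from mono_monoEl _ _ _ _) h t]
  congr 1
  show (torEl z : Sp).1 a a * t / (torEl z : Sp).1 b b = _
  rw [torEl_apply, torEl_apply]

/-! ### Commutators -/

theorem evw_wt_le (x : Ix m) (z : Ix m) : -1 ≤ evw (wt x) z ∧ evw (wt x) z ≤ 1 := by
  rw [evw_wt]; split_ifs <;> omega

theorem wt_ne_two_one {a b c : Ix m} (h1 : a ≠ b) (h2 : a ≠ b.swap)
    (h4 : c ≠ b.swap) (h5 : c ≠ a) (x y : Ix m) :
    wt x - wt y ≠ (wt a - wt b) + (wt a - wt b) + (wt b - wt c) := by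
  intro h
  have h' := congrArg (fun v => evw v a) h
  simp only [map_add, map_sub, Pi.add_apply, Pi.sub_apply, evw_wt_self] at h'
  have hb : evw (wt b) a = 0 := by
    rw [evw_wt, if_neg (Ne.symm h1), if_neg (fun e => h2 (by rw [e, Sum.swap_swap]))]
    rfl
  rw [hb, evw_wt c a, if_neg h5] at h'
  have hx := evw_wt_le x a
  have hy := evw_wt_le y a
  by_cases hc : c = a.swap
  · rw [if_pos hc] at h'; omega
  rw [if_neg hc] at h'
  have ex : evw (wt x) a = 1 := by omega
  have ey : evw (wt y) a = -1 := by omega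
  rw [evw_wt] at ex ey
  obtain rfl : x = a := by
    by_contra hh; rw [if_neg hh] at ex; split_ifs at ex <;> omega
  obtain rfl : y = x.swap := by
    by_contra hh; rw [if_neg hh] at ey; split_ifs at ey <;> omega
  refine h4 (wt_injective ?_)
  rw [wt_swap]
  rw [wt_swap] at h
  funext i
  have := congrFun h i
  simp only [Pi.sub_apply, Pi.add_apply, Pi.neg_apply] at this ⊢
  omega

/-- The commutator of the root elements at `(a,b)` and `(b,c)`. -/
theorem comm_rootX {a b c : Ix m} (hab : a ≠ b) (hab' : a ≠ b.swap) (hbc : b ≠ c)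
    (hcb' : c ≠ b.swap) (hac : a ≠ c) (t u : F) :
    (rootX a b hab t * rootX b c hbc u * (rootX a b hab t)⁻¹ * (rootX b c hbc u)⁻¹ : Sp) =
      rootX a c hac (if c = a.swap then 2 * (t * u) else t * u) := by
  set E := rootMat a b t with hE
  set E' := rootMat b c u with hE'
  set g : Sp := rootX a b hab t * rootX b c hbc u * (rootX a b hab t)⁻¹ * (rootX b c hbc u)⁻¹
    with hg
  have sE : Supp E (wt a - wt b) := rootMat_supp a b t
  have sE' : Supp E' (wt b - wt c) := rootMat_supp b c u
  have z1 : E * E = 0 := sE.mul_self hab sE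
  have z2 : E' * E' = 0 := sE'.mul_self hbc sE'
  have k1 : ∀ x y, wt x - wt y ≠ (wt a - wt b) + (wt a - wt b) + (wt b - wt c) :=
    wt_ne_two_one hab hab' hcb' hac.symm
  have k2 : ∀ x y, wt x - wt y ≠ (wt a - wt b) + (wt b - wt c) + (wt b - wt c) := by
    intro x y h
    refine wt_ne_two_one (a := c.swap) (b := b.swap) (c := a.swap) (fun e => hbc (swap_inj e).symm)
      (fun e => hcb' (swap_inj (by simpa using e))) (fun e => hab' (swap_inj (by simpa using e)))
      (fun e => hac (swap_inj e)) x y ?_
    rw [h, wt_swap, wt_swap, wt_swap]; abel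
  have z3 : E * E' * E = 0 := by
    refine ((sE.mul sE').mul sE).eq_zero_of_ne fun x y e => k1 x y ?_
    rw [e]; abel
  have z4 : E * E' * E' = 0 := ((sE.mul sE').mul sE').eq_zero_of_ne k2
  have z5 : E' * E * E' = 0 := by
    refine ((sE'.mul sE).mul sE').eq_zero_of_ne fun x y e => k2 x y ?_
    rw [e]; abel
  have hval : g.1 = 1 + (E * E' - E' * E) := by
    rw [hg, rootX_inv, rootX_inv]
    show (1 + E) * (1 + E') * (1 + rootMat a b (-t)) * (1 + rootMat b c (-u)) = _
    have n1 : rootMat a b (-t) = -E := by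
      ext x y; simp only [hE, rootMat, Matrix.of_apply, Matrix.neg_apply]
      split_ifs <;> ring
    have n2 : rootMat b c (-u) = -E' := by
      ext x y; simp only [hE', rootMat, Matrix.of_apply, Matrix.neg_apply]
      split_ifs <;> ring
    rw [n1, n2]
    calc (1 + E) * (1 + E') * (1 + -E) * (1 + -E')
        = 1 + (E * E' - E' * E) - E * E - E * E' * E - E' * E' + E * E * E' - E * E' * E'
          + E' * E * E' + E * E' * E * E' := by noncomm_ring
      _ = _ := by simp [z1, z2, z3, z4, z5]
  have hS : g ∈ (rootU (root a c hac) : Subgroup Sp) := by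
    show Supp (g.1 - 1) (wt a - wt c)
    rw [hval, add_sub_cancel_left, sub_eq_add_neg]
    refine Supp.add ?_ (Supp.neg ?_)
    · have := sE.mul sE'
      rwa [show wt a - wt b + (wt b - wt c) = wt a - wt c by abel] at this
    · have := sE'.mul sE
      rwa [show wt b - wt c + (wt a - wt b) = wt a - wt c by abel] at this
  rw [eq_rootX hac hS]
  congr 1
  show (g.1 - 1) a c = _
  rw [hval, add_sub_cancel_left, Matrix.sub_apply]
  have e1 : (E * E') a c = t * u := by
    rw [Matrix.mul_apply, Finset.sum_eq_single b, hE, hE', rootMat_apply, rootMat_apply]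
    · intro z _ hz
      by_contra hc
      exact hz (wt_injective (sub_right_injective (sE a z (left_ne_zero_of_mul hc))))
    · exact fun h => absurd (Finset.mem_univ _) h
  by_cases hc : c = a.swap
  · subst hc
    rw [if_pos rfl, e1]
    have e2 : (E' * E) a a.swap = -(t * u) := by
      rw [Matrix.mul_apply, Finset.sum_eq_single b.swap]
      · have r1 := rootMat_skew b a.swap u b a.swap
        rw [Sum.swap_swap, rootMat_apply, cf_swap] at r1
        have r2 := rootMat_skew a b t a b
        rw [rootMat_apply] at r2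
        rw [hE, hE', r1, r2]
        linear_combination (-(t * u) * cf b * cf b) * cf_mul_self (F := F) a
          - t * u * cf_mul_self (F := F) b
      · intro z _ hz
        by_contra hc
        have := sE' a z (left_ne_zero_of_mul hc)
        rw [wt_swap] at this
        refine hz (wt_injective ?_)
        rw [wt_swap]
        funext i
        have := congrFun this i
        simp only [Pi.sub_apply, Pi.neg_apply] at this ⊢
        omega
      · exact fun h => absurd (Finset.mem_univ _) h
    rw [e2]; ring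
  · rw [if_neg hc, e1]
    have e2 : (E' * E) a c = 0 := by
      rw [Matrix.mul_apply]
      refine Finset.sum_eq_zero fun z _ => ?_
      by_contra hne
      rcases wt_sub_eq hbc (sE' a z (left_ne_zero_of_mul hne)).symm with ⟨e, -⟩ | ⟨e, -⟩
      · exact hab e
      · exact hc (by rw [e, Sum.swap_swap])
    rw [e2, sub_zero]

theorem sum_ne_long {a b c : Ix m} (hab : a ≠ b) (ha : a ≠ c.swap) (hb : b ≠ c) (x y : Ix m) :
    wt x - wt y ≠ (wt c - wt c.swap) + (wt a - wt b) := by
  intro h
  have h' := congrArg (fun v => evw v c) h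
  simp only [map_add, map_sub, Pi.add_apply, Pi.sub_apply] at h'
  rw [evw_wt c c, evw_wt c.swap c, evw_wt a c, evw_wt b c, if_neg ha, if_neg hb,
    if_pos rfl, if_pos rfl, if_neg (self_ne_swap c), if_neg (swap_ne_self c)] at h'
  have hx := evw_wt_le x c
  have hy := evw_wt_le y c
  have ex : evw (wt x) c = 1 := by split_ifs at h' <;> omega
  have ey : evw (wt y) c = -1 := by split_ifs at h' <;> omega
  rw [evw_wt] at ex ey
  obtain rfl : x = c := by
    by_contra hh; rw [if_neg hh] at ex; split_ifs at ex <;> omega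
  obtain rfl : y = x.swap := by
    by_contra hh; rw [if_neg hh] at ey; split_ifs at ey <;> omega
  exact hab (wt_injective (sub_eq_zero.1 (left_eq_add.1 h)))

/-- Root elements whose roots do not add to a weight difference commute. -/
theorem commute_rootX {a b c d : Ix m} (hab : a ≠ b) (hcd : c ≠ d)
    (h : ∀ x y, wt x - wt y ≠ (wt a - wt b) + (wt c - wt d)) (t u : F) :
    Commute (rootX a b hab t : Sp) (rootX c d hcd u) := by
  refine Subtype.ext ?_
  have z1 : rootMat a b t * rootMat c d u = 0 :=
    ((rootMat_supp a b t).mul (rootMat_supp c d u)).eq_zero_of_ne h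
  have z2 : rootMat c d u * rootMat a b t = 0 :=
    ((rootMat_supp c d u).mul (rootMat_supp a b t)).eq_zero_of_ne fun x y e =>
      h x y (by rw [e]; abel)
  show (1 + rootMat a b t) * (1 + rootMat c d u) = (1 + rootMat c d u) * (1 + rootMat a b t)
  rw [show (1 + rootMat a b t) * (1 + rootMat c d u) =
      1 + rootMat a b t + rootMat c d u + rootMat a b t * rootMat c d u by noncomm_ring,
    show (1 + rootMat c d u) * (1 + rootMat a b t) =
      1 + rootMat a b t + rootMat c d u + rootMat c d u * rootMat a b t by noncomm_ring, z1, z2]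

theorem commute_long {a b c : Ix m} (hab : a ≠ b) (ha : a ≠ c.swap) (hb : b ≠ c) (t d : F) :
    Commute (rootX c c.swap (self_ne_swap c) d : Sp) (rootX a b hab t) :=
  commute_rootX _ _ (sum_ne_long hab ha hb) d t

section CharTwo

variable (h2 : (2 : F) = 0)
include h2

theorem neg_eq_self (t : F) : -t = t := by linear_combination (-t) * h2

theorem cf_eq_one (x : Ix m) : (cf x : F) = 1 := by
  cases x <;> simp [cf, neg_eq_self h2]

theorem rootMat_eq_single {a b : Ix m} (hab : a ≠ b.swap) (t : F) :
    rootMat a b t = Matrix.single a b t + Matrix.single b.swap a.swap t := by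
  ext x y
  simp only [rootMat, Matrix.of_apply, Matrix.add_apply, Matrix.single_apply, cf_eq_one h2,
    one_mul, neg_eq_self h2]
  by_cases h1 : x = a ∧ y = b
  · rw [if_pos h1, if_pos (show a = x ∧ b = y from ⟨h1.1.symm, h1.2.symm⟩), if_neg, add_zero]
    exact fun h => hab (h1.1.symm.trans h.1.symm)
  · rw [if_neg h1, if_neg (show ¬ (a = x ∧ b = y) from fun h => h1 ⟨h.1.symm, h.2.symm⟩), zero_add]
    exact if_congr ⟨fun h => ⟨h.1.symm, h.2.symm⟩, fun h => ⟨h.1.symm, h.2.symm⟩⟩ rfl rfl

theorem rootMat_long_eq_single (c : Ix m) (d : F) :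
    rootMat c c.swap d = Matrix.single c c.swap d := by
  ext x y
  simp only [rootMat, Matrix.of_apply, Matrix.single_apply, Sum.swap_swap, cf_eq_one h2,
    one_mul, neg_eq_self h2]
  by_cases h : x = c ∧ y = c.swap
  · rw [if_pos h, if_pos (show c = x ∧ c.swap = y from ⟨h.1.symm, h.2.symm⟩)]
  · rw [if_neg h, if_neg h, if_neg (show ¬ (c = x ∧ c.swap = y) from
      fun e => h ⟨e.1.symm, e.2.symm⟩)]

/-- The commutator of a long root element with a short one in characteristic two. -/
theorem comm_long {a c : Ix m} (hac : a ≠ c) (hac' : a ≠ c.swap) (t d : F) :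
    (rootX a c hac t * rootX c c.swap (self_ne_swap c) d * rootX a c hac t *
      rootX c c.swap (self_ne_swap c) d : Sp) =
      rootX a c.swap hac' (t * d) * rootX a a.swap (self_ne_swap a) (t * t * d) := by
  have q1 : c.swap ≠ a := hac'.symm
  have q2 : a.swap ≠ c := fun e => hac' (by rw [← e, Sum.swap_swap])
  have q3 : a.swap ≠ c.swap := fun e => hac (swap_inj e)
  have q4 := self_ne_swap a
  have q5 := self_ne_swap c
  refine Subtype.ext ?_
  show (1 + rootMat a c t) * (1 + rootMat c c.swap d) * (1 + rootMat a c t) *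
      (1 + rootMat c c.swap d) =
    (1 + rootMat a c.swap (t * d)) * (1 + rootMat a a.swap (t * t * d))
  rw [rootMat_eq_single h2 hac', rootMat_long_eq_single h2,
    rootMat_eq_single h2 (show a ≠ c.swap.swap by rwa [Sum.swap_swap]),
    rootMat_long_eq_single h2, Sum.swap_swap]
  simp only [add_mul, mul_add, one_mul, mul_one, Matrix.single_mul_single_same,
    Matrix.single_mul_single_of_ne, ne_eq, hac, hac', hac.symm, q1, q2, q3, q4, q5, q2.symm,
    q3.symm, q4.symm, q5.symm, hac'.symm, not_false_eq_true, add_zero, zero_add, zero_mul]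
  have hd : ∀ (i j : Ix m) (u : F),
      Matrix.single i j u + Matrix.single i j u = (0 : Matrix (Ix m) (Ix m) F) := by
    intro i j u
    rw [← Matrix.single_add, show u + u = 0 by linear_combination u * h2, Matrix.single_zero]
  have e : d * t = t * d := mul_comm d t
  rw [e, show t * d * t = t * t * d by ring]
  linear_combination (norm := abel) hd a c t + hd c.swap a.swap t + hd c c.swap d + hd a c.swap (t * d)

theorem rootX_self_inv {a b : Ix m} (h : a ≠ b) (t : F) :
    (rootX a b h t : Sp)⁻¹ = rootX a b h t := by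
  rw [rootX_inv, neg_eq_self h2]

end CharTwo

/-! ### Groups containing root subgroups -/

/-- `K` contains the root subgroup of the position `(a, b)`. -/
def All (K : Subgroup (Matrix.symplecticGroup (Fin m) F)) (a b : Ix m) : Prop := ∀ (h : a ≠ b) (t : F), rootX a b h t ∈ K

variable {K : Subgroup (Matrix.symplecticGroup (Fin m) F)}

theorem All.symm {a b : Ix m} (h : All K a b) : All K b.swap a.swap := fun h' t => by
  rw [rootX_eq_swap h']
  have key : ∀ (x y : Ix m) (hxy : x ≠ y) (u : F), x = a → y = b → rootX x y hxy u ∈ K := by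
    rintro x y hxy u rfl rfl; exact h hxy u
  exact key _ _ _ _ (Sum.swap_swap a) (Sum.swap_swap b)

theorem All.trans {a b c : Ix m} (h1 : All K a b) (h2 : All K b c) (hab : a ≠ b)
    (hab' : a ≠ b.swap) (hbc : b ≠ c) (hcb' : c ≠ b.swap) (hca' : c ≠ a.swap) : All K a c :=
  fun hac t => by
    have := comm_rootX hab hab' hbc hcb' hac t (1 : F)
    rw [if_neg hca', mul_one] at this
    rw [← this]
    exact mul_mem (mul_mem (mul_mem (h1 hab t) (h2 hbc 1)) (inv_mem (h1 hab t)))
      (inv_mem (h2 hbc 1))

theorem All.trans_opp (h2' : (2 : F) ≠ 0) {a b : Ix m} (h1 : All K a b) (h2 : All K b a.swap)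
    (hab : a ≠ b) (hab' : a ≠ b.swap) : All K a a.swap := fun hac t => by
  have hbc : b ≠ a.swap := fun e => hab' (by rw [e, Sum.swap_swap])
  have := comm_rootX hab hab' hbc (fun e => hab (swap_inj e)) hac (t / 2) (1 : F)
  rw [if_pos rfl, mul_one, mul_div_cancel₀ _ h2'] at this
  rw [← this]
  exact mul_mem (mul_mem (mul_mem (h1 hab _) (h2 hbc 1)) (inv_mem (h1 hab _))) (inv_mem (h2 hbc 1))

theorem All.map {π : Equiv.Perm (Ix m)} (hπ : ∀ x, π x.swap = (π x).swap) {n : Sp}
    (hn : Mono π n) (hnK : n ∈ K) (hne : ∀ x, n.1 (π x) x ≠ 0) {a b : Ix m} (h : All K a b) :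
    All K (π a) (π b) := fun hab t => by
  have hab' : a ≠ b := fun e => hab (by rw [e])
  have := hn.conj_rootX hπ hab' (t * n.1 (π b) b / n.1 (π a) a)
  rw [show n.1 (π a) a * (t * n.1 (π b) b / n.1 (π a) a) / n.1 (π b) b = t by
    field_simp [hne a, hne b]] at this
  rw [← this]
  exact mul_mem (mul_mem hnK (h hab' _)) (inv_mem hnK)

variable [Finite F]

/-- An additive subgroup containing all squares is everything. -/
theorem mem_of_squares (T : AddSubgroup F) (hT : ∀ z : Fˣ, (z : F) * z ∈ T) (t : F) : t ∈ T := by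
  have hsq : ∀ z : F, z * z ∈ T := fun z => by
    by_cases hz : z = 0
    · rw [hz, zero_mul]; exact zero_mem T
    · simpa using hT (Units.mk0 z hz)
  by_cases h2 : (2 : F) = 0
  · haveI : Fintype F := Fintype.ofFinite F
    obtain ⟨z, rfl⟩ := FiniteField.isSquare_of_char_two
      (CharP.ringChar_of_prime_eq_zero Nat.prime_two (by exact_mod_cast h2)) t
    exact hsq z
  · have h4 : t = (t + 1) / 2 * ((t + 1) / 2) - (t - 1) / 2 * ((t - 1) / 2) := by
      field_simp; ring
    rw [h4]
    exact sub_mem (hsq _) (hsq _)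

/-- From `x(1)` and the torus, the whole root subgroup of a position scaled by `z²`. -/
theorem all_of_one (htor : ∀ z : Fˣ, (torEl z : Sp) ∈ K) {i j : Fin m}
    (hab : (Sum.inl i : Ix m) ≠ Sum.inr j) (h1 : rootX (.inl i) (.inr j) hab (1 : F) ∈ K) :
    All K (.inl i) (.inr j) := fun _ t => by
  let T : AddSubgroup F :=
    { carrier := {t | rootX (.inl i) (.inr j) hab t ∈ K}
      zero_mem' := by simp [rootX_zero]
      add_mem' := fun {x y} hx hy => by
        show rootX (.inl i) (.inr j) hab (x + y) ∈ K
        rw [← rootX_mul]; exact mul_mem hx hy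
      neg_mem' := fun {x} hx => by
        show rootX (.inl i) (.inr j) hab (-x) ∈ K
        rw [← rootX_inv]; exact inv_mem hx }
  refine mem_of_squares T (fun z => ?_) t
  have := mul_mem (mul_mem (htor z) h1) (inv_mem (htor z))
  rw [torEl_conj] at this
  show rootX (.inl i) (.inr j) hab _ ∈ K
  convert this using 2
  simp [torScal]

end Cfsg.Agent.GLOrder.SpRoot

namespace Cfsg.Agent.GLOrder.SpRoot

theorem Mono.apply_ne_zero {m : ℕ} {F : Type*} [Field F] {π : Equiv.Perm (Ix m)}
    {g : Matrix.symplecticGroup (Fin m) F} (hg : Mono π g) (x : Ix m) : g.1 (π x) x ≠ 0 := by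
  intro h
  have h1 := congrFun (congrFun (show g.1 * (g⁻¹).1 = 1 by
    rw [← Submonoid.coe_mul, mul_inv_cancel]; rfl) (π x)) (π x)
  rw [Matrix.one_apply_eq, Matrix.mul_apply, Finset.sum_eq_single x, h, zero_mul] at h1
  · exact zero_ne_one h1
  · intro z _ hz
    by_contra hc
    exact hz (π.injective (hg _ _ (left_ne_zero_of_mul hc))).symm
  · exact fun h => absurd (Finset.mem_univ _) h

end Cfsg.Agent.GLOrder.SpRoot
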