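import Cfsg.Agent.EqLemmas
import Cfsg.Agent.Lib.GLOrder.SympTwoGen

/-!
# Two generation of `PSp_{2m}(F)`

`exists_two_gen_Sp`, `exists_two_gen_PSp`.
-/

set_option autoImplicit false

open Matrix

namespace Cfsg.Agent.GLOrder.SpRoot

variable {m : ℕ} [NeZero m] {F : Type*} [Field F]

local notation "Sp" => Matrix.symplecticGroup (Fin m) F

/-- The last index. -/
def lastIx (m : ℕ) [NeZero m] : Fin m :=
  ⟨m - 1, by have := Nat.pos_of_ne_zero (NeZero.ne m); omega⟩

/-- The Coxeter cycle. -/
def coxFun (x : Ix m) : Ix m :=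
  Sum.elim (fun i => if h : i.1 + 1 < m then .inl ⟨i.1 + 1, h⟩ else .inr 0)
    (fun i => if h : i.1 + 1 < m then .inr ⟨i.1 + 1, h⟩ else .inl 0) x

theorem coxFun_injective : Function.Injective (coxFun : Ix m → Ix m) := by
  rintro (i | i) (j | j) h <;> simp only [coxFun, Sum.elim_inl, Sum.elim_inr] at h <;>
    have := i.isLt <;> have := j.isLt <;> split_ifs at h <;>
    simp only [Sum.inl.injEq, Sum.inr.injEq, reduceCtorEq, Fin.ext_iff, Fin.val_zero] at h ⊢ <;>
    omega

/-- The Coxeter permutation. -/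
noncomputable def coxPerm : Equiv.Perm (Ix m) :=
  Equiv.ofBijective coxFun (Finite.injective_iff_bijective.1 coxFun_injective)

theorem coxPerm_apply (x : Ix m) : coxPerm x = coxFun x := rfl

theorem coxPerm_swap (x : Ix m) : coxPerm x.swap = (coxPerm x).swap := by
  rcases x with i | i <;> simp only [coxPerm_apply, coxFun, Sum.swap_inl, Sum.swap_inr,
    Sum.elim_inl, Sum.elim_inr] <;> split_ifs <;> rfl

theorem cox_inl {i : Fin m} (h : i.1 + 1 < m) : coxPerm (.inl i : Ix m) = .inl ⟨i.1 + 1, h⟩ :=
  dif_pos h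

theorem cox_inr {i : Fin m} (h : i.1 + 1 < m) : coxPerm (.inr i : Ix m) = .inr ⟨i.1 + 1, h⟩ :=
  dif_pos h

theorem cox_inl_last {i : Fin m} (h : ¬ i.1 + 1 < m) : coxPerm (.inl i : Ix m) = .inr 0 :=
  dif_neg h

theorem cox_inr_last {i : Fin m} (h : ¬ i.1 + 1 < m) : coxPerm (.inr i : Ix m) = .inl 0 :=
  dif_neg h

/-- The signs of the Coxeter element. -/
def coxSign (x : Ix m) : F := Sum.elim (fun _ => 1) (fun i => if i.1 + 1 < m then 1 else -1) x

theorem coxSign_spec (x : Ix m) :
    coxSign x * coxSign x.swap * cf (coxPerm x) = (cf x : F) := by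
  rcases x with i | i <;> simp only [coxSign, coxPerm_apply, coxFun, Sum.swap_inl, Sum.swap_inr,
    Sum.elim_inl, Sum.elim_inr] <;> split_ifs <;> simp [cf]

/-- The Coxeter element. -/
noncomputable def coxEl : Sp := monoEl coxPerm coxSign coxPerm_swap coxSign_spec

theorem mono_coxEl : Mono coxPerm (coxEl : Sp) := mono_monoEl _ _ _ _

theorem coxEl_apply (x : Ix m) : (coxEl : Sp).1 (coxPerm x) x = coxSign x := if_pos rfl

theorem coxSign_ne_zero (x : Ix m) : (coxSign x : F) ≠ 0 := by
  rcases x with i | i <;> simp only [coxSign, Sum.elim_inl, Sum.elim_inr] <;> (try split_ifs) <;>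
    simp

theorem coxEl_ne_zero (x : Ix m) : (coxEl : Sp).1 (coxPerm x) x ≠ 0 := by
  rw [coxEl_apply]; exact coxSign_ne_zero x

variable {K : Subgroup (Matrix.symplecticGroup (Fin m) F)}

/-- All short roots from the orbit of the Coxeter element. -/
theorem all_short (hm : 2 ≤ m)
    (hf : ∀ (i : Fin m) (h : i.1 + 1 < m), All K (.inl i) (.inl ⟨i.1 + 1, h⟩))
    (hb : ∀ (i : Fin m) (h : i.1 + 1 < m), All K (.inl ⟨i.1 + 1, h⟩) (.inl i))
    (hp : All K (.inl (lastIx m)) (.inr 0)) (hn : All K (.inr (lastIx m)) (.inl 0))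
    {a b : Ix m} (hab : a ≠ b) (hab' : a ≠ b.swap) : All K a b := by
  have hlast : (lastIx m).1 = m - 1 := rfl
  have hl0 : lastIx m ≠ 0 := fun e => by
    have := congrArg Fin.val e
    simp only [hlast, Fin.val_zero] at this
    omega
  have llAux : ∀ (k : ℕ) (i j : Fin m), i.1 + (k + 1) = j.1 →
      All K (.inl i) (.inl j) ∧ All K (.inl j) (.inl i) := by
    intro k
    induction k with
    | zero =>
      intro i j h
      have e : j = ⟨i.1 + 1, by have := j.isLt; omega⟩ := Fin.ext (by simp only; omega)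
      rw [e]
      exact ⟨hf i _, hb i _⟩
    | succ k ih =>
      intro i j h
      have hi : i.1 + 1 < m := by have := j.isLt; omega
      obtain ⟨h1, h2⟩ := ih ⟨i.1 + 1, hi⟩ j (by simp only; omega)
      exact ⟨(hf i hi).trans h1 (by simp [Fin.ext_iff]) (by simp) (by simp [Fin.ext_iff]; omega)
          (by simp) (by simp),
        h2.trans (hb i hi) (by simp [Fin.ext_iff]; omega) (by simp) (by simp [Fin.ext_iff])
          (by simp) (by simp)⟩
  have ll : ∀ i j : Fin m, i ≠ j → All K (.inl i) (.inl j) := by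
    intro i j h
    rcases lt_or_gt_of_ne (fun e => h (Fin.ext e) : i.1 ≠ j.1) with hlt | hlt
    · exact (llAux (j.1 - i.1 - 1) i j (by omega)).1
    · exact (llAux (i.1 - j.1 - 1) j i (by omega)).2
  have rr : ∀ i j : Fin m, i ≠ j → All K (.inr i) (.inr j) := fun i j h => by
    simpa using (ll j i h.symm).symm
  have lr0 : ∀ i : Fin m, i ≠ 0 → All K (.inl i) (.inr 0) := by
    intro i hi
    by_cases h : i = lastIx m
    · exact h ▸ hp
    · exact (ll i _ h).trans hp (by simpa using h) (by simp) (by simp)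
        (by simpa using hl0.symm) (by simpa using hi.symm)
  have rl0 : ∀ i : Fin m, i ≠ 0 → All K (.inr i) (.inl 0) := by
    intro i hi
    by_cases h : i = lastIx m
    · exact h ▸ hn
    · exact (rr i _ h).trans hn (by simpa using h) (by simp) (by simp)
        (by simpa using hl0.symm) (by simpa using hi.symm)
  rcases a with i | i <;> rcases b with j | j
  · exact ll i j fun e => hab (by rw [e])
  · have hij : i ≠ j := fun e => hab' (by rw [e]; rfl)
    by_cases hi : i = 0
    · subst hi; simpa using (lr0 j hij.symm).symm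
    by_cases hj : j = 0
    · exact hj ▸ lr0 i hi
    · exact (lr0 i hi).trans (rr 0 j (Ne.symm hj)) (by simp) (by simpa using hi)
        (by simpa using Ne.symm hj) (by simp) (by simpa using hij.symm)
  · have hij : i ≠ j := fun e => hab' (by rw [e]; rfl)
    by_cases hi : i = 0
    · subst hi; simpa using (rl0 j hij.symm).symm
    by_cases hj : j = 0
    · exact hj ▸ rl0 i hi
    · exact (rl0 i hi).trans (ll 0 j (Ne.symm hj)) (by simp) (by simpa using hi)
        (by simpa using Ne.symm hj) (by simp) (by simpa using hij.symm)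
  · exact rr i j fun e => hab (by rw [e])

theorem all_map_cox (hc : (coxEl : Sp) ∈ K) {a b : Ix m} (h : All K a b) :
    All K (coxPerm a) (coxPerm b) :=
  h.map coxPerm_swap mono_coxEl hc coxEl_ne_zero

theorem rootX_mem_congr {a b a' b' : Ix m} {h : a ≠ b} (ha : a = a') (hb : b = b') {t : F}
    (hx : rootX a b h t ∈ K) (h' : a' ≠ b') : rootX a' b' h' t ∈ K := by
  subst ha hb; exact hx

theorem one_map_cox (hc : (coxEl : Sp) ∈ K) {a b : Ix m} {hab : a ≠ b}
    (h : rootX a b hab (1 : F) ∈ K) :
    rootX (coxPerm a) (coxPerm b) (fun e => hab (coxPerm.injective e)) (1 : F) ∈ K := by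
  have h1 := mul_mem (mul_mem hc h) (inv_mem hc)
  rw [mono_coxEl.conj_rootX coxPerm_swap hab, coxEl_apply, coxEl_apply] at h1
  have hs : ∀ x : Ix m, (coxSign x : F) = 1 ∨ (coxSign x : F) = -1 := by
    intro x
    rcases x with i | i <;> simp only [coxSign, Sum.elim_inl, Sum.elim_inr] <;>
      (try split_ifs) <;> simp
  rcases hs a with e | e <;> rcases hs b with e' | e' <;> rw [e, e'] at h1 <;>
    first
      | simpa using h1
      | (have h2 := inv_mem h1; rw [rootX_inv] at h2; simpa using h2)

/-- The common part: short roots from `x_r(1)`, the torus and the Coxeter element. -/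
theorem all_short_of_cox [Finite F] (hm : 2 ≤ m) (hc : (coxEl : Sp) ∈ K)
    (htor : ∀ z : Fˣ, (torEl z : Sp) ∈ K) {h01 : (Sum.inl 0 : Ix m) ≠ Sum.inl ⟨1, hm⟩}
    (hx : rootX (.inl 0) (.inl ⟨1, hm⟩) h01 (1 : F) ∈ K)
    {a b : Ix m} (hab : a ≠ b) (hab' : a ≠ b.swap) : All K a b := by
  have hlast : (lastIx m).1 = m - 1 := rfl
  have hone : ∀ (k : ℕ) (hk : k + 1 < m) (h : (Sum.inl (⟨k, by omega⟩ : Fin m) : Ix m) ≠
      Sum.inl ⟨k + 1, hk⟩), rootX _ _ h (1 : F) ∈ K := by
    intro k
    induction k with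
    | zero => intro _ _; exact hx
    | succ k ih =>
      intro hk h
      have h1 := one_map_cox hc (ih (by omega) (by simp [Fin.ext_iff]))
      exact rootX_mem_congr (cox_inl (by simp only; omega)) (cox_inl (by simp only; omega)) h1 h
  have hwrap : rootX (.inl (lastIx m)) (.inr 0) (by simp) (1 : F) ∈ K := by
    have h1 := one_map_cox hc (hone (m - 2) (by omega) (by simp [Fin.ext_iff]))
    refine rootX_mem_congr ?_ (cox_inl_last (by simp only; omega)) h1 _
    rw [cox_inl (by simp only; omega)]
    exact congrArg Sum.inl (Fin.ext (by simp only [hlast]; omega))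
  have hp : All K (.inl (lastIx m)) (.inr 0) := all_of_one htor _ hwrap
  have hR : ∀ (k : ℕ) (hk : k + 1 < m),
      All K (.inr (⟨k, by omega⟩ : Fin m)) (.inr (⟨k + 1, hk⟩ : Fin m)) := by
    intro k
    induction k with
    | zero =>
      intro hk
      have h1 := all_map_cox hc hp
      rw [cox_inl_last (by rw [hlast]; omega), cox_inr (by simpa using hk)] at h1
      simpa using h1
    | succ k ih =>
      intro hk
      have h1 := all_map_cox hc (ih (by omega))
      rw [cox_inr (by simp only; omega), cox_inr (by simp only; omega)] at h1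
      exact h1
  have hn : All K (.inr (lastIx m)) (.inl 0) := by
    have h1 := all_map_cox hc (hR (m - 2) (by omega))
    rw [cox_inr (by simp only; omega), cox_inr_last (by simp only; omega)] at h1
    convert h1 using 2
    exact Fin.ext (by simp only [hlast]; omega)
  have hL : ∀ (k : ℕ) (hk : k + 1 < m),
      All K (.inl (⟨k, by omega⟩ : Fin m)) (.inl (⟨k + 1, hk⟩ : Fin m)) := by
    intro k
    induction k with
    | zero =>
      intro hk
      have h1 := all_map_cox hc hn
      rw [cox_inr_last (by rw [hlast]; omega), cox_inl (by simpa using hk)] at h1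
      simpa using h1
    | succ k ih =>
      intro hk
      have h1 := all_map_cox hc (ih (by omega))
      rw [cox_inl (by simp only; omega), cox_inl (by simp only; omega)] at h1
      exact h1
  exact all_short hm (fun i h => hL i.1 h)
    (fun i h => by simpa using (hR i.1 h).symm) hp hn hab hab'

/-- All root subgroups give everything. -/
theorem eq_top_of_short_long [Finite F]
    (hs : ∀ a b : Ix m, a ≠ b → a ≠ b.swap → All K a b)
    (hl : ∀ a : Ix m, All K a a.swap) : K = ⊤ :=
  eq_top_of_rootX_mem fun a b h t => by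
    by_cases h' : a = b.swap
    · obtain rfl : b = a.swap := by rw [h', Sum.swap_swap]
      exact hl a h t
    · exact hs a b h h' h t

variable [Finite F]

theorem two_gen_odd (hm : 2 ≤ m) (h2 : (2 : F) ≠ 0) (hc : (coxEl : Sp) ∈ K)
    (htor : ∀ z : Fˣ, (torEl z : Sp) ∈ K) {h01 : (Sum.inl 0 : Ix m) ≠ Sum.inl ⟨1, hm⟩}
    (hx : rootX (.inl 0) (.inl ⟨1, hm⟩) h01 (1 : F) ∈ K) : K = ⊤ := by
  have hs : ∀ a b : Ix m, a ≠ b → a ≠ b.swap → All K a b := fun a b hab hab' =>
    all_short_of_cox hm hc htor hx hab hab'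
  refine eq_top_of_short_long hs fun a => ?_
  obtain ⟨k, hk⟩ : ∃ k : Fin m, a ≠ Sum.inl k ∧ a ≠ Sum.inr k := by
    haveI : Nontrivial (Fin m) := Fin.nontrivial_iff_two_le.2 hm
    rcases a with i | i <;> obtain ⟨k, hk⟩ := exists_ne i <;> exact ⟨k, by simp [hk.symm]⟩
  exact All.trans_opp h2 (hs a (.inl k) hk.1 (by simpa using hk.2))
    (hs _ _ (fun e => hk.2 (by rw [← Sum.swap_swap a, ← e]; rfl))
      (fun e => hk.1 (by simpa using e.symm))) hk.1 (by simpa using hk.2)

section CharTwo

variable (h2 : (2 : F) = 0)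
include h2

omit [Finite F] in
theorem cox_conj {a b : Ix m} (h : a ≠ b) (t : F) :
    (coxEl : Sp) * rootX a b h t * (coxEl)⁻¹ =
      rootX (coxPerm a) (coxPerm b) (fun e => h (coxPerm.injective e)) t := by
  rw [mono_coxEl.conj_rootX coxPerm_swap h, coxEl_apply, coxEl_apply]
  have hs : ∀ x : Ix m, (coxSign x : F) = 1 := by
    intro x
    rcases x with i | i <;> simp only [coxSign, Sum.elim_inl, Sum.elim_inr] <;>
      (try split_ifs) <;> first | rfl | exact neg_eq_self h2 1
  congr 1
  rw [hs, hs, one_mul, div_one]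

omit [Finite F] in
/-- `x_s x_{10}(1) x_s` conjugated by the Coxeter element. -/
theorem cox_xs_conj (hm : 2 ≤ m) :
    ((coxEl : Sp) * rootX (.inl 0) (.inr 0) (by simp) (1 : F)) *
        rootX (.inl ⟨1, hm⟩) (.inl 0) (by simp [Fin.ext_iff]) (1 : F) *
        (coxEl * rootX (.inl 0) (.inr 0) (by simp) (1 : F))⁻¹ =
      rootX (coxPerm (.inl ⟨1, hm⟩)) (coxPerm (.inl 0)) (by simp [Fin.ext_iff]) (1 : F) *
        (rootX (coxPerm (.inl ⟨1, hm⟩)) (coxPerm (.inr 0)) (by simp) (1 : F) *
          rootX (coxPerm (.inl ⟨1, hm⟩)) (coxPerm (.inr ⟨1, hm⟩)) (by simp) (1 : F)) := by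
  set xs : Sp := rootX (.inl 0) (.inr 0) (by simp) (1 : F) with hxs
  set v : Sp := rootX (.inl ⟨1, hm⟩) (.inl 0) (by simp [Fin.ext_iff]) (1 : F) with hv
  have key := comm_long h2 (a := (Sum.inl ⟨1, hm⟩ : Ix m)) (c := Sum.inl 0)
    (by simp [Fin.ext_iff]) (by simp) (1 : F) (1 : F)
  rw [mul_one, mul_one] at key
  have hvv : v⁻¹ = v := rootX_self_inv h2 _ _
  have hxx : xs⁻¹ = xs := rootX_self_inv h2 _ _
  have key' : xs * v * xs⁻¹ = v * (v * xs * v * xs) := by
    have : v * v = 1 := by nth_rewrite 1 [← hvv]; exact inv_mul_cancel v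
    rw [hxx, ← mul_assoc, ← mul_assoc, ← mul_assoc, this, one_mul]
  calc coxEl * xs * v * (coxEl * xs)⁻¹ = coxEl * (xs * v * xs⁻¹) * coxEl⁻¹ := by group
    _ = coxEl * (v * (v * xs * v * xs)) * coxEl⁻¹ := by rw [key']
    _ = (coxEl * v * coxEl⁻¹) * (coxEl * (v * xs * v * xs) * coxEl⁻¹) := by group
    _ = _ := by
      rw [show v * xs * v * xs = _ from key, hv, cox_conj h2]
      congr 1
      rw [← cox_conj h2, ← cox_conj h2]
      · simp only [mul_assoc, inv_mul_cancel_left]
        rfl
      all_goals simp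

theorem two_gen_even (hm : 2 ≤ m) (hq : m = 2 → 2 < Nat.card F)
    (hb : (coxEl : Sp) * rootX (.inl 0) (.inr 0) (by simp) (1 : F) ∈ K)
    (htor : ∀ z : Fˣ, (torEl z : Sp) ∈ K) {h01 : (Sum.inl 0 : Ix m) ≠ Sum.inl ⟨1, hm⟩}
    (hx : rootX (.inl 0) (.inl ⟨1, hm⟩) h01 (1 : F) ∈ K) : K = ⊤ := by
  have hlast : (lastIx m).1 = m - 1 := rfl
  set xs : Sp := rootX (.inl 0) (.inr 0) (by simp) (1 : F) with hxs
  -- transport by the generator
  have bfwd : ∀ (a b : Ix m) (h : a ≠ b) (t : F), a ≠ .inr 0 → b ≠ .inl 0 →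
      rootX a b h t ∈ K →
      rootX (coxPerm a) (coxPerm b) (fun e => h (coxPerm.injective e)) t ∈ K := by
    intro a b h t ha hb' hmem
    have hc : Commute xs (rootX a b h t) :=
      commute_long (c := (Sum.inl 0 : Ix m)) h ha hb' t 1
    have h1 := mul_mem (mul_mem hb hmem) (inv_mem hb)
    rw [_root_.mul_inv_rev, show coxEl * xs * rootX a b h t * (xs⁻¹ * coxEl⁻¹) =
      coxEl * (xs * rootX a b h t * xs⁻¹) * coxEl⁻¹ by group, hc.eq, mul_inv_cancel_right,
      cox_conj h2] at h1
    exact h1
  have bbwd : ∀ (a b : Ix m), a ≠ .inr 0 → b ≠ .inl 0 → All K (coxPerm a) (coxPerm b) →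
      All K a b := by
    intro a b ha hb' hall h t
    have hc : Commute xs (rootX a b h t) :=
      commute_long (c := (Sum.inl 0 : Ix m)) h ha hb' t 1
    have h1 := mul_mem (mul_mem (inv_mem hb) (hall (fun e => h (coxPerm.injective e)) t)) hb
    rw [← cox_conj h2 h, _root_.mul_inv_rev, show xs⁻¹ * coxEl⁻¹ *
        (coxEl * rootX a b h t * coxEl⁻¹) * (coxEl * xs) = xs⁻¹ * rootX a b h t * xs by group,
      hc.inv_left.eq, inv_mul_cancel_right] at h1
    exact h1
  have bfwdAll : ∀ (a b : Ix m), a ≠ .inr 0 → b ≠ .inl 0 → All K a b →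
      All K (coxPerm a) (coxPerm b) := fun a b ha hb' hall h t =>
    bfwd a b (fun e => h (by rw [e])) t ha hb' (hall _ t)
  have hone : ∀ (k : ℕ) (hk : k + 1 < m) (h : (Sum.inl (⟨k, by omega⟩ : Fin m) : Ix m) ≠
      Sum.inl ⟨k + 1, hk⟩), rootX _ _ h (1 : F) ∈ K := by
    intro k
    induction k with
    | zero => intro _ _; exact hx
    | succ k ih =>
      intro hk h
      have h1 := bfwd _ _ (by simp [Fin.ext_iff]) 1 (by simp) (by simp [Fin.ext_iff])
        (ih (by omega) (by simp [Fin.ext_iff]))
      exact rootX_mem_congr (cox_inl (by simp only; omega)) (cox_inl (by simp only; omega)) h1 h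
  have hwrap : rootX (.inl (lastIx m)) (.inr 0) (by simp) (1 : F) ∈ K := by
    have h1 := bfwd _ _ (by simp [Fin.ext_iff]) 1 (by simp) (by simp [Fin.ext_iff])
      (hone (m - 2) (by omega) (by simp [Fin.ext_iff]))
    refine rootX_mem_congr ?_ (cox_inl_last (by simp only; omega)) h1 _
    rw [cox_inl (by simp only; omega)]
    exact congrArg Sum.inl (Fin.ext (by simp only [hlast]; omega))
  have hp : All K (.inl (lastIx m)) (.inr 0) := all_of_one htor _ hwrap
  have hR01 : All K (.inr 0) (.inr ⟨1, hm⟩) := by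
    have h1 := bfwdAll _ _ (by simp) (by simp) hp
    rw [cox_inl_last (by rw [hlast]; omega), cox_inr (by simp only [Fin.val_zero]; omega)] at h1
    simpa using h1
  have hL10 : All K (.inl ⟨1, hm⟩) (.inl 0) := by simpa using hR01.symm
  -- downwards along the chain
  have hL : ∀ (k : ℕ) (i : Fin m) (h : i.1 + 1 < m), i.1 + 2 + k = m →
      All K (.inl i) (.inl ⟨i.1 + 1, h⟩) := by
    intro k
    induction k with
    | zero =>
      intro i h hk
      refine bbwd _ _ (by simp) (fun e => Nat.succ_ne_zero i.1 (by simpa using congrArg Fin.val (Sum.inl.inj e))) ?_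
      rw [cox_inl h, cox_inl_last (by simp only; omega)]
      convert hp using 2
      exact Fin.ext (by simp only [hlast]; omega)
    | succ k ih =>
      intro i h hk
      refine bbwd _ _ (by simp) (fun e => Nat.succ_ne_zero i.1 (by simpa using congrArg Fin.val (Sum.inl.inj e))) ?_
      rw [cox_inl h, cox_inl (by simp only; omega)]
      exact ih ⟨i.1 + 1, h⟩ _ (by simp only; omega)
  have hL' : ∀ (i : Fin m) (h : i.1 + 1 < m), All K (.inl i) (.inl ⟨i.1 + 1, h⟩) := fun i h =>
    hL (m - i.1 - 2) i h (by omega)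
  -- the product of three root elements
  have hP := mul_mem (mul_mem hb (hL10 (by simp [Fin.ext_iff]) 1)) (inv_mem hb)
  rw [hxs, cox_xs_conj h2 hm] at hP
  -- extraction of `x_s`
  have hxsK : xs ∈ K := by
    rcases Nat.lt_or_ge 2 m with hm3 | hm3
    · set i2 : Fin m := ⟨2, hm3⟩ with hi2
      set i1 : Fin m := ⟨1, hm⟩ with hi1
      have e10 : coxPerm (.inl i1 : Ix m) = .inl i2 := cox_inl (i := i1) hm3
      have e00 : coxPerm (.inl 0 : Ix m) = .inl i1 := by
        rw [cox_inl (by simp only [Fin.val_zero]; omega)]; simp [hi1]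
      have e00' : coxPerm (.inr 0 : Ix m) = .inr i1 := by
        rw [cox_inr (by simp only [Fin.val_zero]; omega)]; simp [hi1]
      have e10' : coxPerm (.inr i1 : Ix m) = .inr i2 := cox_inr (i := i1) hm3
      simp only [show (⟨1, hm⟩ : Fin m) = i1 from rfl] at hP
      simp only [e10, e00, e00', e10'] at hP
      have hup : ∀ (k : ℕ) (i j : Fin m), i.1 + (k + 1) = j.1 → All K (.inl i) (.inl j) := by
        intro k
        induction k with
        | zero =>
          intro i j h
          have e : j = ⟨i.1 + 1, by have := j.isLt; omega⟩ := Fin.ext (by simp only; omega)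
          rw [e]; exact hL' i _
        | succ k ih =>
          intro i j h
          have hi : i.1 + 1 < m := by have := j.isLt; omega
          exact (hL' i hi).trans (ih ⟨i.1 + 1, hi⟩ j (by simp only; omega))
            (by simp [Fin.ext_iff]) (by simp) (by simp [Fin.ext_iff]; omega) (by simp) (by simp)
      have h20 : All K (.inl i2) (.inr 0) := by
        by_cases h : i2 = lastIx m
        · rw [h]; exact hp
        · have hlt : i2.1 < (lastIx m).1 := by
            have : i2.1 ≠ (lastIx m).1 := fun e => h (Fin.ext e)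
            simp only [hi2, hlast] at this ⊢
            omega
          exact (hup ((lastIx m).1 - i2.1 - 1) i2 _ (by omega)).trans hp (by simpa using h)
            (by simp) (by simp)
            (by simp [Fin.ext_iff, hlast]; omega) (by simp [hi2, Fin.ext_iff])
      have h21' : All K (.inl i2) (.inr i1) :=
        h20.trans hR01 (by simp) (by simp [hi2, Fin.ext_iff]) (by simp [Fin.ext_iff]) (by simp)
          (by simp [hi1, hi2])
      have h02 : All K (.inl 0) (.inl i2) := hup 1 0 i2 (by simp [hi2])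
      have h01' : All K (.inl 0) (.inl i1) := hup 0 0 i1 (by simp [hi1])
      have h02' : All K (.inl 0) (.inr i2) := by simpa using h20.symm
      set A : Sp := rootX (.inl i2) (.inl i1) (by simp [hi1, hi2]) (1 : F) with hA
      set B : Sp := rootX (.inl i2) (.inr i1) (by simp) (1 : F) with hB
      set C : Sp := rootX (.inl i2) (.inr i2) (by simp) (1 : F) with hC
      set D : Sp := rootX (.inl 0) (.inl i2) (by simp [hi2, Fin.ext_iff]) (1 : F) with hD
      have hBC : Commute C B := commute_long (c := (Sum.inl i2 : Ix m)) (by simp) (by simp)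
        (by simp) (1 : F) 1
      have hQ : A * C ∈ K := by
        have h1 := mul_mem hP (h21' (by simp) 1)
        rwa [← hB, mul_assoc, mul_assoc, hBC.eq, ← mul_assoc B B C,
          show B * B = 1 by nth_rewrite 1 [hB, ← rootX_self_inv h2]; exact inv_mul_cancel B,
          one_mul] at h1
      have hDA : D * A * D⁻¹ * A⁻¹ =
          rootX (.inl 0) (.inl i1) (by simp [hi1, Fin.ext_iff]) (1 : F) := by
        have := comm_rootX (a := (Sum.inl 0 : Ix m)) (b := Sum.inl i2) (c := Sum.inl i1)
          (by simp [hi2, Fin.ext_iff]) (by simp) (by simp [hi1, hi2]) (by simp)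
          (by simp [hi1, Fin.ext_iff]) (1 : F) 1
        rw [if_neg (by simp), mul_one] at this
        exact this
      have hDC : D * C * D * C = rootX (.inl 0) (.inr i2) (by simp) (1 : F) * xs := by
        have := comm_long h2 (a := (Sum.inl 0 : Ix m)) (c := Sum.inl i2)
          (by simp [hi2, Fin.ext_iff]) (by simp) (1 : F) 1
        rw [mul_one, mul_one] at this
        exact this
      have hA1 : Commute A (rootX (.inl 0) (.inr i2) (by simp) (1 : F)) := by
        refine commute_rootX _ _ (fun x y e => sum_ne_long (a := (Sum.inl 0 : Ix m))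
          (b := Sum.inl i1) (c := Sum.inl i2) (by simp [hi1, Fin.ext_iff]) (by simp)
          (by simp [hi1, hi2]) x y ?_) 1 1
        rw [e]
        show _ = wt (Sum.inl i2) - wt (Sum.inl i2 : Ix m).swap + (wt (Sum.inl 0) - wt (Sum.inl i1))
        simp only [Sum.swap_inl]
        abel
      have hA2 : Commute A xs :=
        (commute_long (c := (Sum.inl 0 : Ix m)) (by simp [hi1, hi2]) (by simp)
          (by simp [hi1, Fin.ext_iff]) (1 : F) 1).symm
      have hg := mul_mem (mul_mem (mul_mem (h02 (by simp [hi2, Fin.ext_iff]) 1) hQ)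
        (inv_mem (h02 (by simp [hi2, Fin.ext_iff]) 1))) (inv_mem hQ)
      rw [← hD] at hg
      have hg' : D * (A * C) * D⁻¹ * (A * C)⁻¹ =
          (D * A * D⁻¹ * A⁻¹) * (A * (D * C * D * C) * A⁻¹) := by
        have hDi : D⁻¹ = D := rootX_self_inv h2 _ _
        have hCi : C⁻¹ = C := rootX_self_inv h2 _ _
        have : D * C * D * C = D * C * D⁻¹ * C⁻¹ := by rw [hDi, hCi]
        rw [this]; group
      rw [hg', hDA, hDC, (hA1.mul_right hA2).eq, mul_inv_cancel_right] at hg
      exact (Subgroup.mul_mem_cancel_left K (h02' (by simp) 1)).1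
        ((Subgroup.mul_mem_cancel_left K (h01' (by simp [hi1, Fin.ext_iff]) 1)).1 hg)
    · obtain rfl : m = 2 := by omega
      have hz : ∀ h : 1 < 2, (⟨1, h⟩ : Fin 2) = 1 := fun _ => rfl
      have el : lastIx 2 = 1 := rfl
      rw [el] at hp
      simp only [hz] at hP hL10 hR01 hx
      have e1 : coxPerm (.inl (1 : Fin 2) : Ix 2) = .inr 0 := cox_inl_last (by simp)
      have e2 : coxPerm (.inl (0 : Fin 2) : Ix 2) = .inl 1 := cox_inl (by simp)
      have e3 : coxPerm (.inr (0 : Fin 2) : Ix 2) = .inr 1 := cox_inr (by simp)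
      have e4 : coxPerm (.inr (1 : Fin 2) : Ix 2) = .inl 0 := cox_inr_last (by simp)
      simp only [e1, e2, e3, e4] at hP
      set A : Matrix.symplecticGroup (Fin 2) F := rootX (.inr 0) (.inl 1) (by simp) (1 : F) with hA
      set B : Matrix.symplecticGroup (Fin 2) F :=
        rootX (.inr 0) (.inr 1) (by simp) (1 : F) with hB
      set C : Matrix.symplecticGroup (Fin 2) F :=
        rootX (.inr 0) (.inl 0) (by simp) (1 : F) with hC
      have hBC : Commute C B := commute_long (c := (Sum.inr 0 : Ix 2)) (by simp) (by simp)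
        (by simp) (1 : F) 1
      have hQ : A * C ∈ K := by
        have h1 := mul_mem hP (hR01 (by simp) 1)
        rwa [← hB, mul_assoc, mul_assoc, hBC.eq, ← mul_assoc B B C,
          show B * B = 1 by nth_rewrite 1 [hB, ← rootX_self_inv h2]; exact inv_mul_cancel B,
          one_mul] at h1
      have hR10 : All K (.inr (1 : Fin 2)) (.inr 0) := by
        simpa using (show All K (.inl (0 : Fin 2)) (.inl 1) from hL' 0 (by simp)).symm
      set P : F → Matrix.symplecticGroup (Fin 2) F :=
        fun t => rootX (.inr 1) (.inl 0) (by simp) t * rootX (.inr 1) (.inl 1) (by simp) (t * t)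
        with hPdef
      have hA' : A = rootX (.inr 1) (.inl 0) (by simp) (1 : F) := by
        rw [hA, rootX_eq_swap]
        congr 1
        simp [cf_eq_one h2, neg_eq_self h2]
      have hcomm : Commute (rootX (.inr (1 : Fin 2)) (.inl 0) (by simp) (1 : F))
          (rootX (.inr 1) (.inl 1) (by simp) (1 : F)) :=
        (commute_long (c := (Sum.inr 1 : Ix 2)) (by simp) (by simp) (by simp) (1 : F) 1).symm
      have hPK : ∀ t : F, P t ∈ K := by
        intro t
        set D : Matrix.symplecticGroup (Fin 2) F :=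
          rootX (.inr 1) (.inr 0) (by simp) t with hD
        have hDA : D * A * D⁻¹ * A⁻¹ = 1 := by
          have := comm_rootX (a := (Sum.inr 1 : Ix 2)) (b := Sum.inr 0) (c := Sum.inl 1)
            (by simp) (by simp) (by simp) (by simp) (by simp) t (1 : F)
          rw [if_pos (show (Sum.inl 1 : Ix 2) = (Sum.inr 1 : Ix 2).swap from rfl), h2, zero_mul,
            rootX_zero] at this
          exact this
        have hDC : D * C * D * C = P t := by
          have := comm_long h2 (a := (Sum.inr 1 : Ix 2)) (c := Sum.inr 0)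
            (by simp) (by simp) t 1
          rw [mul_one, mul_one] at this
          exact this
        have hg := mul_mem (mul_mem (mul_mem (hR10 (by simp) t) hQ)
          (inv_mem (hR10 (by simp) t))) (inv_mem hQ)
        rw [← hD] at hg
        have hg' : D * (A * C) * D⁻¹ * (A * C)⁻¹ =
            (D * A * D⁻¹ * A⁻¹) * (A * (D * C * D * C) * A⁻¹) := by
          have hDi : D⁻¹ = D := rootX_self_inv h2 _ _
          have hCi : C⁻¹ = C := rootX_self_inv h2 _ _
          have : D * C * D * C = D * C * D⁻¹ * C⁻¹ := by rw [hDi, hCi]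
          rw [this]; group
        have hAP : Commute A (P t) := by
          rw [hA']
          refine Commute.mul_right ?_
            (commute_long (c := (Sum.inr 1 : Ix 2)) (by simp) (by simp) (by simp) (1 : F)
              (t * t)).symm
          show _ * _ = _ * _
          rw [rootX_mul, rootX_mul, add_comm]
        rwa [hg', hDA, hDC, one_mul, hAP.eq, mul_inv_cancel_right] at hg
      -- separate the long root by the torus
      obtain ⟨z, hz1⟩ : ∃ z : Fˣ, z ≠ 1 := by
        have hcard : 1 < Nat.card Fˣ := by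
          rw [Nat.card_units]; have := hq rfl; omega
        haveI : Finite Fˣ := inferInstance
        obtain ⟨a, b, hab⟩ := (Finite.one_lt_card_iff_nontrivial.1 hcard).exists_pair_ne
        by_cases ha : a = 1
        · exact ⟨b, fun e => hab (ha.trans e.symm)⟩
        · exact ⟨a, ha⟩
      set μ : F := ((z⁻¹ : Fˣ) : F) * ((z⁻¹ : Fˣ) : F) with hμ
      have hμ0 : μ - μ * μ ≠ 0 := by
        intro h
        have h1 : μ * (1 - μ) = 0 := by rw [mul_sub, mul_one]; exact h
        rcases mul_eq_zero.1 h1 with h1 | h1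
        · simp [hμ] at h1
        · have h3 : (((z⁻¹ : Fˣ) : F) - 1) * (((z⁻¹ : Fˣ) : F) - 1) = 0 := by
            rw [hμ] at h1
            linear_combination -h1 + (1 - ((z⁻¹ : Fˣ) : F)) * h2
          exact hz1 (inv_injective (Units.ext (by
            simpa [sub_eq_zero] using mul_self_eq_zero.1 h3)))
      have h11 : All K (.inr (1 : Fin 2)) (.inl 1) := by
        intro h w
        haveI : Fintype F := Fintype.ofFinite F
        obtain ⟨t, ht⟩ := FiniteField.isSquare_of_char_two
          (CharP.ringChar_of_prime_eq_zero Nat.prime_two (by exact_mod_cast h2))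
          (w / (μ - μ * μ))
        have h1 := mul_mem (inv_mem (hPK (μ * t)))
          (mul_mem (mul_mem (htor z) (hPK t)) (inv_mem (htor z)))
        rw [hPdef] at h1
        simp only at h1
        rw [show torEl z * (rootX (.inr 1) (.inl 0) (by simp) t *
              rootX (.inr 1) (.inl 1) (by simp) (t * t)) * (torEl z)⁻¹ =
            (torEl z * rootX (.inr 1) (.inl 0) (by simp) t * (torEl z)⁻¹) *
            (torEl z * rootX (.inr 1) (.inl 1) (by simp) (t * t) *
              (torEl z : Matrix.symplecticGroup (Fin 2) F)⁻¹) by group,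
          torEl_conj, torEl_conj, _root_.mul_inv_rev, mul_assoc, ← mul_assoc _ (rootX _ _ _ _)
            (rootX _ _ _ _)] at h1
        have e0 : torScal z (Sum.inr 1 : Ix 2) * t / torScal z (Sum.inl 0 : Ix 2) = μ * t := by
          simp [torScal, hμ]; field_simp
        have e1 : torScal z (Sum.inr 1 : Ix 2) * (t * t) / torScal z (Sum.inl 1 : Ix 2) =
            μ * (t * t) := by
          simp [torScal, hμ]; field_simp
        rw [e0, e1, inv_mul_cancel, one_mul, rootX_inv, rootX_mul] at h1
        rw [show w = -(μ * t * (μ * t)) + μ * (t * t) by rw [(div_eq_iff hμ0).1 ht]; ring]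
        exact h1
      have h10 : All K (.inr (1 : Fin 2)) (.inl 0) := fun h t =>
        (Subgroup.mul_mem_cancel_right K (h11 (by simp) (t * t))).1 (hPK t)
      have hn : rootN (Sum.inl (1 : Fin 2)) (Sum.inr 0) (by simp) (1 : F) ∈ K := by
        refine mul_mem (mul_mem (hp _ _) ?_) (hp _ _)
        have : All K (.inr (0 : Fin 2)) (.inl 1) := by simpa using h10.symm
        exact this _ _
      have h00 := h11.map (pairFun_swap _ _) (mono_rootN _ _ _ one_ne_zero) hn fun x => by
        have := mono_rootN (Sum.inl (1 : Fin 2)) (Sum.inr 0) (by simp) (one_ne_zero (α := F))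
        exact this.apply_ne_zero x
      have f1 : (Function.Involutive.toPerm _ (pairFun_invol (Sum.inl (1 : Fin 2) : Ix 2) (Sum.inr 0)))
          (Sum.inr 1 : Ix 2) =
          (Sum.inl 0 : Ix 2) := by
        rw [Function.Involutive.coe_toPerm,
          show (Sum.inr 1 : Ix 2) = (Sum.inl (1 : Fin 2) : Ix 2).swap from rfl, pairFun_swap,
          pairFun_left]
        rfl
      have f2 : (Function.Involutive.toPerm _ (pairFun_invol (Sum.inl (1 : Fin 2) : Ix 2) (Sum.inr 0)))
          (Sum.inl 1 : Ix 2) =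
          (Sum.inr 0 : Ix 2) := by rw [Function.Involutive.coe_toPerm, pairFun_left]
      rw [f1, f2] at h00
      exact h00 _ _
  have hc : (coxEl : Sp) ∈ K := (Subgroup.mul_mem_cancel_right K hxsK).1 hb
  have hs : ∀ a b : Ix m, a ≠ b → a ≠ b.swap → All K a b := fun a b hab hab' =>
    all_short_of_cox hm hc htor hx hab hab'
  have hlong : ∀ (a c : Ix m), a ≠ c → a ≠ c.swap →
      rootX c c.swap (self_ne_swap c) (1 : F) ∈ K → All K a a.swap := by
    intro a c hac hac' hcK h w
    haveI : Fintype F := Fintype.ofFinite F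
    obtain ⟨t, rfl⟩ := FiniteField.isSquare_of_char_two
      (CharP.ringChar_of_prime_eq_zero Nat.prime_two (by exact_mod_cast h2)) w
    have h1 := mul_mem (mul_mem (mul_mem (hs a c hac hac' hac t) hcK) (hs a c hac hac' hac t)) hcK
    rw [comm_long h2 hac hac', mul_one, mul_one] at h1
    exact (Subgroup.mul_mem_cancel_left K
      (hs a c.swap hac' (by rwa [Sum.swap_swap]) hac' t)).1 h1
  have h11 : All K (.inl (⟨1, hm⟩ : Fin m)) (.inr ⟨1, hm⟩) :=
    hlong (.inl ⟨1, hm⟩) (.inl 0) (by simp [Fin.ext_iff]) (by simp) hxsK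
  refine eq_top_of_short_long hs ?_
  -- every long root is reached through a short one
  have h00 : All K (.inl (0 : Fin m)) (.inr 0) :=
    hlong (.inl 0) (.inl ⟨1, hm⟩) (by simp [Fin.ext_iff]) (by simp) (h11 _ 1)
  have hLi : ∀ i : Fin m, All K (.inl i) (.inr i) := by
    intro i
    by_cases hi : i = 0
    · rw [hi]; exact h00
    · exact hlong (.inl i) (.inl 0) (by simpa using hi) (by simp) hxsK
  have hRj : ∀ (k : ℕ) (hk : k < m), All K (.inr (⟨k, hk⟩ : Fin m)) (.inl ⟨k, hk⟩) := by
    intro k
    induction k with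
    | zero =>
      intro hk
      have h1 := all_map_cox hc (hLi (lastIx m))
      rw [cox_inl_last (by rw [hlast]; omega), cox_inr_last (by rw [hlast]; omega)] at h1
      simpa using h1
    | succ k ih =>
      intro hk
      have h1 := all_map_cox hc (ih (by omega))
      rw [cox_inr (by simp only; omega), cox_inl (by simp only; omega)] at h1
      exact h1
  rintro (i | i)
  · exact hLi i
  · exact hRj i.1 i.2

end CharTwo

/-- `Sp_{2m}(F)` is two-generated for `m ≥ 2`, `(m, q) ≠ (2, 2)`. -/
theorem exists_two_gen_Sp (hm : 2 ≤ m) (hq : m = 2 → 2 < Nat.card F) :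
    ∃ a b : Sp, Subgroup.closure ({a, b} : Set Sp) = ⊤ := by
  obtain ⟨ζ, hζ⟩ := IsCyclic.exists_generator (α := Fˣ)
  set h01 : (Sum.inl 0 : Ix m) ≠ Sum.inl ⟨1, hm⟩ := by simp [Fin.ext_iff]
  set x : Sp := rootX (.inl 0) (.inl ⟨1, hm⟩) h01 (1 : F) with hx
  set a : Sp := torEl ζ * x with ha
  have hcomm : Commute (torEl ζ : Sp) x := by
    refine mul_inv_eq_iff_eq_mul.1 ?_
    rw [hx, torEl_conj]
    congr 1
    simp [torScal]
  have hgen : ∀ b : Sp, (∀ z : Fˣ, (torEl z : Sp) ∈ Subgroup.closure ({a, b} : Set Sp)) ∧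
      x ∈ Subgroup.closure ({a, b} : Set Sp) := by
    intro b
    have haK : a ∈ Subgroup.closure ({a, b} : Set Sp) := Subgroup.subset_closure (by simp)
    have hxK : x ∈ Subgroup.closure ({a, b} : Set Sp) := by
      have h1 : (torEl ζ : Sp) ^ (Nat.card F - 1) = 1 := by
        show (torHom ζ : Sp) ^ (Nat.card F - 1) = 1
        rw [← map_pow, ← Nat.card_units, pow_card_eq_one', map_one]
      have h2 : x⁻¹ = a ^ (Nat.card F - 1) := by
        haveI : Fintype F := Fintype.ofFinite F
        rw [ha, hcomm.mul_pow, h1, one_mul, hx, rootX_inv, rootX_pow, Nat.card_eq_fintype_card,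
          Nat.cast_sub Fintype.card_pos, FiniteField.cast_card_eq_zero]
        congr 1
        ring
      exact inv_mem_iff.1 (h2 ▸ pow_mem haK _)
    refine ⟨fun z => ?_, hxK⟩
    have h1 : (torEl ζ : Sp) ∈ Subgroup.closure ({a, b} : Set Sp) :=
      (Subgroup.mul_mem_cancel_right _ hxK).1 haK
    obtain ⟨k, rfl⟩ := Subgroup.mem_zpowers_iff.1 (hζ z)
    show torHom (ζ ^ k) ∈ _
    rw [map_zpow]
    exact zpow_mem h1 k
  by_cases h2 : (2 : F) = 0
  · exact ⟨a, coxEl * rootX (.inl 0) (.inr 0) (by simp) (1 : F),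
      two_gen_even h2 hm hq (Subgroup.subset_closure (by simp)) (hgen _).1 (hgen _).2⟩
  · exact ⟨a, coxEl, two_gen_odd hm h2 (Subgroup.subset_closure (by simp)) (hgen _).1 (hgen _).2⟩

theorem exists_two_gen_PSp (hm : 2 ≤ m) (hq : m = 2 → 2 < Nat.card F) :
    ∃ a b : Cfsg.PSp m F, Subgroup.closure ({a, b} : Set (Cfsg.PSp m F)) = ⊤ := by
  obtain ⟨a, b, hab⟩ := exists_two_gen_Sp (F := F) hm hq
  set q : Sp →* Cfsg.PSp m F :=
    QuotientGroup.mk' (Subgroup.center Sp) with hqdef
  refine ⟨q a, q b, ?_⟩
  rw [← Set.image_pair, ← MonoidHom.map_closure, hab,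
    Subgroup.map_top_of_surjective q (QuotientGroup.mk'_surjective _)]

end Cfsg.Agent.GLOrder.SpRoot
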