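import Cfsg.Agent.EqLemmas
import Cfsg.Agent.Lib.GLOrder.ThompsonPSpFour

/-!
# Thompson's conjecture for `PSp₄(F)`: main part

`exists_good_conj`, `exists_thompson_PSp_four`.
-/

set_option autoImplicit false

open Matrix

namespace Cfsg.Agent.GLOrder.PSpFour

open Cfsg.Agent.Linear

variable {F : Type*} [Field F]

local notation "G₄" => Cfsg.spGL 2 F

theorem blk_inv (h : Cfsg.spGL 2 F) :
    blkA h⁻¹ = (blkD h)ᵀ ∧ blkB h⁻¹ = -(blkB h)ᵀ ∧ blkC h⁻¹ = -(blkC h)ᵀ ∧
      blkD h⁻¹ = (blkA h)ᵀ := by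
  obtain ⟨A, rfl⟩ := (spEquiv 2 F).surjective h
  have hval : ((spEquiv 2 F A)⁻¹).1.1 = -Matrix.J (Fin 2) F * A.1ᵀ * Matrix.J (Fin 2) F := by
    rw [← map_inv, spEquiv_val]
    exact SymplecticGroup.coe_inv A
  have hA : A.1 = fromBlocks (blkA (spEquiv 2 F A)) (blkB (spEquiv 2 F A)) (blkC (spEquiv 2 F A))
      (blkD (spEquiv 2 F A)) := spGL_blocks (spEquiv 2 F A)
  rw [hA, Matrix.fromBlocks_transpose, Matrix.J, Matrix.fromBlocks_neg, Matrix.fromBlocks_multiply,
    Matrix.fromBlocks_multiply] at hval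
  simp only [Matrix.zero_mul, Matrix.mul_zero, neg_zero, neg_neg, Matrix.one_mul, Matrix.mul_one,
    Matrix.neg_mul, Matrix.mul_neg, zero_add, add_zero] at hval
  rw [spGL_blocks (spEquiv 2 F A)⁻¹, fromBlocks_inj] at hval
  exact hval

theorem blkC_conj (h g : Cfsg.spGL 2 F) :
    blkC (h⁻¹ * g * h) = (-(blkC h)ᵀ * blkA g + (blkA h)ᵀ * blkC g) * blkA h +
      (-(blkC h)ᵀ * blkB g + (blkA h)ᵀ * blkD g) * blkC h := by
  obtain ⟨-, -, i3, i4⟩ := blk_inv h
  rw [(blk_mul (h⁻¹ * g) h).2.2.1, (blk_mul h⁻¹ g).2.2.1, (blk_mul h⁻¹ g).2.2.2, i3, i4]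

theorem blkC_conj_pair (g : Cfsg.spGL 2 F) {p q r t p' q' r' t' : F} (h : p * t - q * r = 1)
    (h' : p' * t' - q' * r' = 1) (i j : Fin 2) :
    blkC ((pairEl p q r t p' q' r' t' h h')⁻¹ * g * pairEl p q r t p' q' r' t' h h') i j =
      (-(![r, r'] i) * blkA g i j + ![p, p'] i * blkC g i j) * ![p, p'] j +
      (-(![r, r'] i) * blkB g i j + ![p, p'] i * blkD g i j) * ![r, r'] j := by
  rw [blkC_conj, pairEl, (blk_spOfBlocks _ _ _).1, (blk_spOfBlocks _ _ _).2.2.1,
    Matrix.diagonal_transpose, Matrix.diagonal_transpose, Matrix.diagonal_neg]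
  simp [Matrix.diagonal_mul, Matrix.mul_diagonal, Matrix.add_apply]

/-- `C` is invertible and of a shape handled by `exists_sym_factor`. -/
def GoodC (g : Cfsg.spGL 2 F) : Prop :=
  (blkC g).det ≠ 0 ∧ (blkC g 0 0 ≠ 0 ∨ blkC g 1 1 = 0)

theorem exists_vec_not_eigen {g : Cfsg.spGL 2 F} (hg : g ∉ Subgroup.center G₄) :
    ∃ v : Fin 2 ⊕ Fin 2 → F, v ≠ 0 ∧ ∀ a : F, a • v ≠ g • v := by
  by_contra hc
  push Not at hc
  refine hg (mem_center_of_fix_points g fun P => ?_)
  induction P using Projectivization.ind with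
  | _ v hv =>
    rw [spGL_smul_mk, Projectivization.mk_eq_mk_iff']
    exact hc v hv

theorem smul_single_inl (g : Cfsg.spGL 2 F) (j : Fin 2) (x : Fin 2 ⊕ Fin 2) :
    (g • (Pi.single (Sum.inl j) 1 : Fin 2 ⊕ Fin 2 → F)) x =
      Sum.elim (fun i => blkA g i j) (fun i => blkC g i j) x :=
  congrFun (spGL_mulVec_inl g j) x

theorem smul_single_inr (g : Cfsg.spGL 2 F) (j : Fin 2) (x : Fin 2 ⊕ Fin 2) :
    (g • (Pi.single (Sum.inr j) 1 : Fin 2 ⊕ Fin 2 → F)) x =
      Sum.elim (fun i => blkB g i j) (fun i => blkD g i j) x :=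
  congrFun (spGL_mulVec_inr g j) x

/-- The case where `f(g x, x)` vanishes identically. -/
theorem good_of_alternating {g : Cfsg.spGL 2 F} (hg : g ∉ Subgroup.center G₄)
    (hQ : ∀ x, Cfsg.sympForm 2 F (g • x) x = 0) : ∃ h, GoodC (h⁻¹ * g * h) := by
  obtain ⟨v, hv0, hv⟩ := exists_vec_not_eigen hg
  obtain ⟨k, hk⟩ := exists_spGL_smul_eq (m := 2)
    (show (Pi.single (Sum.inl 0) 1 : Fin 2 ⊕ Fin 2 → F) ≠ 0 by simp) hv0
  set g' := k⁻¹ * g * k with hg'
  have hQ' : ∀ x, Cfsg.sympForm 2 F (g' • x) x = 0 := fun x => by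
    have h1 := hQ (k • x)
    rw [← sympForm_smul_smul k⁻¹ (g • k • x), inv_smul_smul] at h1
    rwa [hg', mul_smul, mul_smul]
  have hne : ∀ a : F, a • (Pi.single (Sum.inl 0) 1 : Fin 2 ⊕ Fin 2 → F) ≠
      g' • (Pi.single (Sum.inl 0) 1 : Fin 2 ⊕ Fin 2 → F) := fun a e => by
    refine hv a ?_
    have h1 := congrArg (k • ·) e
    simp only [hg', mul_smul, smul_inv_smul, hk] at h1
    rwa [smul_comm, hk] at h1
  have q : ∀ x : Fin 2 ⊕ Fin 2 → F, ∑ i : Fin 2, ((g' • x) (.inr i) * x (.inl i) - (g' • x) (.inl i) * x (.inr i)) = 0 :=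
    fun x => by rw [← sympForm_eq_sum]; exact hQ' x
  have q0 := q (Pi.single (Sum.inl 0) 1)
  have q1 := q (Pi.single (Sum.inl 1) 1)
  have q1' := q (Pi.single (Sum.inr 1) 1)
  have q01 := q (Pi.single (Sum.inl 0) 1 + Pi.single (Sum.inl 1) 1)
  have q01' := q (Pi.single (Sum.inl 0) 1 + Pi.single (Sum.inr 1) 1)
  simp [Fin.sum_univ_two, smul_single_inl, smul_single_inr, Pi.single_apply, smul_add] at q0 q1 q1' q01 q01'
  by_cases h10 : blkC g' 1 0 = 0
  · have hA10 : blkA g' 1 0 ≠ 0 := by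
      intro h
      refine hne (blkA g' 0 0) ?_
      funext x
      rw [smul_single_inl]
      rcases x with i | i <;> fin_cases i <;> simp [h, h10, q0]
    refine ⟨k * pairEl 1 0 0 1 0 (-1) 1 0 (by ring) (by ring), ?_⟩
    rw [show (k * pairEl 1 0 0 1 0 (-1) 1 0 (by ring) (by ring))⁻¹ * g *
        (k * pairEl 1 0 0 1 0 (-1) 1 0 (by ring) (by ring)) =
      (pairEl 1 0 0 1 0 (-1) 1 0 (by ring) (by ring))⁻¹ * g' *
        pairEl 1 0 0 1 0 (-1) 1 0 (by ring) (by ring) by rw [hg']; group]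
    refine ⟨?_, Or.inr ?_⟩
    · rw [Matrix.det_fin_two]
      simp only [blkC_conj_pair]
      simp [q0, q1']
      refine ⟨?_, hA10⟩
      intro h
      rw [h] at q01'
      exact hA10 (by linear_combination -q01' + q0 - q1')
    · simp only [blkC_conj_pair]
      simp [q1']
  · refine ⟨k, ?_⟩
    show GoodC g'
    refine ⟨?_, Or.inr q1⟩
    rw [Matrix.det_fin_two, q0, q1, zero_mul, zero_sub, neg_ne_zero, mul_ne_zero_iff]
    refine ⟨?_, h10⟩
    intro h
    rw [h] at q01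
    exact h10 (by linear_combination q01 - q0 - q1)

/-- The normalised case `g e₀ = a f₀`. -/
theorem good_or_transvection {g : Cfsg.spGL 2 F} {a : F} (ha : a ≠ 0)
    (hcol : g • (Pi.single (Sum.inl 0) 1 : Fin 2 ⊕ Fin 2 → F) = Pi.single (Sum.inr 0) a) :
    (∃ h, GoodC (h⁻¹ * g * h)) ∨
      ∃ ε : F, ε * ε = 1 ∧ ∃ (v : Fin 2 ⊕ Fin 2 → F) (c : F),
        ∀ x : Fin 2 ⊕ Fin 2 → F, g • x = ε • (spTv v c • x) := by
  have c0 := congrFun hcol (.inl 0)
  have c1 := congrFun hcol (.inl 1)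
  have c2 := congrFun hcol (.inr 0)
  have c3 := congrFun hcol (.inr 1)
  simp [smul_single_inl] at c0 c1 c2 c3
  obtain ⟨r1, r2, r3⟩ := spGL_blk_rel g
  have r1' := congrFun (congrFun r1 0) 1
  have r2' := congrFun (congrFun r2 0) 1
  have r00 := congrFun (congrFun r3 0) 0
  have r01 := congrFun (congrFun r3 0) 1
  have r10 := congrFun (congrFun r3 1) 0
  have r11 := congrFun (congrFun r3 1) 1
  simp [Matrix.mul_apply, Fin.sum_univ_two, c0, c1, c2, c3] at r1' r2' r00 r01 r10 r11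
  have hA01 : blkA g 0 1 = 0 := by
    rcases r1' with h | h
    · exact absurd h ha
    · exact h
  have hB01 : blkB g 0 1 = 0 := by
    rcases r01 with h | h
    · exact absurd h ha
    · exact h
  by_cases hC11 : blkC g 1 1 = 0
  swap
  · refine Or.inl ⟨pairEl 1 0 0 1 1 0 0 1 (by ring) (by ring), ?_, Or.inl ?_⟩
    · rw [Matrix.det_fin_two]; simp only [blkC_conj_pair]; simp [c2, c3, ha, hC11]
    · simp only [blkC_conj_pair]; simp [c2, ha]
  by_cases hB11 : blkB g 1 1 = 0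
  swap
  · refine Or.inl ⟨pairEl 1 0 0 1 0 (-1) 1 0 (by ring) (by ring), ?_, Or.inl ?_⟩
    · rw [Matrix.det_fin_two]; simp only [blkC_conj_pair]; simp [c1, c2, ha, hB11]
    · simp only [blkC_conj_pair]; simp [c2, ha]
  by_cases hDA : blkD g 1 1 = blkA g 1 1
  swap
  · refine Or.inl ⟨pairEl 1 0 0 1 1 0 1 1 (by ring) (by ring), ?_, Or.inl ?_⟩
    · rw [Matrix.det_fin_two]; simp only [blkC_conj_pair]
      simp [c1, c2, c3, ha, hC11, hB11]
      intro h
      exact hDA (by linear_combination h)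
    · simp only [blkC_conj_pair]; simp [c2, ha]
  set ε := blkA g 1 1 with hε
  simp [hA01, hB01, hC11, hB11, hDA] at r2' r10 r11
  have hεε : ε * ε = 1 := r11
  have hε0 : ε ≠ 0 := fun e => by simp [e] at hεε
  have hp : a * blkB g 0 0 = -1 := by linear_combination -r00
  have hp0 : blkB g 0 0 ≠ 0 := fun e => by rw [e, mul_zero] at hp; simp at hp
  by_cases hC01 : blkC g 0 1 = 0
  swap
  · have hD10 : blkD g 1 0 ≠ 0 := by
      intro h
      rw [h] at r10
      exact hC01 (by simpa [hp0] using r10)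
    refine Or.inl ⟨pairEl 1 0 1 1 1 0 0 1 (by ring) (by ring), ?_, Or.inr ?_⟩
    · rw [Matrix.det_fin_two]; simp only [blkC_conj_pair]
      simp [c1, c3, hC11, hA01, hC01, hD10]
    · simp only [blkC_conj_pair]; simp [hC11]
  by_cases hD01 : blkD g 0 1 = 0
  swap
  · have hB10 : blkB g 1 0 ≠ 0 := by
      intro h
      rw [h] at r2'
      exact hD01 (by simpa [hp0] using r2')
    refine Or.inl ⟨pairEl 1 0 1 1 0 (-1) 1 0 (by ring) (by ring), ?_, Or.inr ?_⟩
    · rw [Matrix.det_fin_two]; simp only [blkC_conj_pair]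
      simp [c1, hB11, hB01, hD01, hB10]
    · simp only [blkC_conj_pair]; simp [hB11]
  simp [hC01, hD01, hε0] at r2' r10
  have hB10 : blkB g 1 0 = 0 := r2'
  have hD10 : blkD g 1 0 = 0 := r10
  set p := blkB g 0 0 with hpdef
  set r := blkD g 0 0 with hrdef
  by_cases htr : r = 2 * ε
  · refine Or.inr ⟨ε, hεε, Sum.elim ![1, 0] ![1 / (ε * p), 0], ε * p, fun x => ?_⟩
    rw [spTv_smul, sympForm_eq_sum, spGL_smul_eq, spGL_blocks]
    funext y
    rcases y with i | i <;> fin_cases i <;>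
      simp [Matrix.mulVec, dotProduct, Fintype.sum_sum_type, Fin.sum_univ_two, c0, c1, c2, c3,
        hA01, hB01, hC11, hB11, hC01, hD01, hB10, hD10, hDA, ← hpdef, ← hrdef, ← hε] <;>
      field_simp <;>
      first
        | ring1
        | linear_combination (-(x (.inr 0))) * hεε
        | linear_combination x (.inr 0) * p * hεε
        | linear_combination (-(x (.inr 0)) * p) * hεε
        | linear_combination (x (.inl 0)) * hp + x (.inr 0) * p * htr
        | linear_combination (-(x (.inl 0))) * hp - x (.inr 0) * p * htr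
  · refine Or.inl ⟨spOfBlocks !![1, 0; 1, 0] !![0, -1; 0, 0] !![0, 1; 0, -1] !![0, 0; 1, 0]
      ?_ ?_ ?_, ?_⟩
    · ext i j; fin_cases i <;> fin_cases j <;> simp [Matrix.mul_apply, Fin.sum_univ_two]
    · ext i j; fin_cases i <;> fin_cases j <;> simp [Matrix.mul_apply, Fin.sum_univ_two]
    · ext i j; fin_cases i <;> fin_cases j <;> simp [Matrix.mul_apply, Fin.sum_univ_two]
    refine ⟨?_, Or.inl ?_⟩
    · rw [Matrix.det_fin_two, blkC_conj, (blk_spOfBlocks _ _ _).1, (blk_spOfBlocks _ _ _).2.2.1]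
      simp [Matrix.mul_apply, Fin.sum_univ_two, c0, c1, c2, c3, hA01, hB01, hC11, hB11, hC01, hD01,
        hB10, hD10, hDA, ← hpdef, ← hrdef, ← hε]
      intro h
      refine htr ?_
      have h' : 2 - ε * r = 0 := by linear_combination h + hp - hεε
      linear_combination (-ε) * h' + (-r) * hεε
    · rw [blkC_conj, (blk_spOfBlocks _ _ _).1, (blk_spOfBlocks _ _ _).2.2.1]
      simp [Matrix.mul_apply, Fin.sum_univ_two, c1, c2, c3, ha, hC01, hC11]

/-- A noncentral element either moves some Lagrangian off itself or is a signed transvection. -/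
theorem exists_good_conj (g : Cfsg.spGL 2 F) :
    (∃ h, GoodC (h⁻¹ * g * h)) ∨
      ∃ z ∈ Subgroup.center G₄, ∃ (v : Fin 2 ⊕ Fin 2 → F) (c : F), g = z * spTv v c := by
  by_cases hg : g ∈ Subgroup.center G₄
  · exact Or.inr ⟨g, hg, 0, 0, by rw [spTv_zero, mul_one]⟩
  by_cases hQ : ∀ x, Cfsg.sympForm 2 F (g • x) x = 0
  · exact Or.inl (good_of_alternating hg hQ)
  push Not at hQ
  obtain ⟨v, hv⟩ := hQ
  set a := Cfsg.sympForm 2 F (g • v) v with ha
  have hpair : Cfsg.sympForm 2 F (a⁻¹ • (g • v)) v = 1 := by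
    rw [sympForm_smul_left, ← ha, inv_mul_cancel₀ hv]
  obtain ⟨k, hk1, hk2⟩ := exists_spGL_pair
    (u := (Pi.single (Sum.inr 0) 1 : Fin 2 ⊕ Fin 2 → F)) (v := Pi.single (Sum.inl 0) 1)
    (by rw [sympForm_single_inr_left]; simp) hpair
  have hcol : (k⁻¹ * g * k) • (Pi.single (Sum.inl 0) 1 : Fin 2 ⊕ Fin 2 → F) =
      Pi.single (Sum.inr 0) a := by
    rw [mul_smul, mul_smul, hk2, inv_smul_eq_iff,
      show (Pi.single (Sum.inr 0) a : Fin 2 ⊕ Fin 2 → F) = a • Pi.single (Sum.inr 0) 1 by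
        rw [← Pi.single_smul, smul_eq_mul, mul_one],
      smul_comm, hk1, smul_smul, mul_inv_cancel₀ hv, one_smul]
  rcases good_or_transvection hv hcol with ⟨h, hh⟩ | ⟨ε, hεε, w, c, hw⟩
  · refine Or.inl ⟨k * h, ?_⟩
    rwa [show (k * h)⁻¹ * g * (k * h) = h⁻¹ * (k⁻¹ * g * k) * h by group]
  · have hev : ∀ x : Fin 2 ⊕ Fin 2 → F, (g * (spTv (k • w) c)⁻¹) • x = ε • x := by
      intro x
      have h1 := hw (k⁻¹ • (spTv (k • w) c)⁻¹ • x)
      rw [← spTv_conj] at h1 ⊢
      simp only [mul_smul, smul_inv_smul, _root_.mul_inv_rev, inv_inv, inv_smul_smul] at h1 ⊢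
      have h2 := congrArg (k • ·) h1
      simp only [smul_inv_smul] at h2
      rw [h2, smul_comm k ε, smul_inv_smul]
    refine Or.inr ⟨g * (spTv (k • w) c)⁻¹, ?_, k • w, c, by group⟩
    rw [Subgroup.mem_center_iff]
    intro y
    refine spGL_ext fun x => ?_
    rw [mul_smul y, mul_smul (g * _) y, hev, hev, smul_comm]

/-- Every noncentral element is, up to the centre, a product of two conjugates of `diag(l, l⁻ᵀ)`. -/
theorem mem_class_sq_of_not_central [Fintype F] (h3 : 3 ≤ Fintype.card F) {s d : F} (hs : s ≠ 0)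
    (hd : d ≠ 0) (hd1 : d ≠ 1) (hirr : ∀ r, r * r - s * r + d ≠ 0) (l : GL (Fin 2) F)
    (hl : l.1 = comp2 s d) {g : Cfsg.spGL 2 F} (hg : g ∉ Subgroup.center G₄) :
    ∃ z ∈ Subgroup.center G₄, ∃ u v : G₄,
      z * g = (u * spLevi l * u⁻¹) * (v * spLevi l * v⁻¹) := by
  rcases exists_good_conj g with ⟨h, hdet, hshape⟩ | ⟨z, hz, w, c, hw⟩
  · obtain ⟨S, hS, l₁, l₂, e1, e2, e3, e4, e5⟩ := exists_sym_factor h3 hs hd hirr hdet hshape
    set g' := h⁻¹ * g * h with hg'
    obtain ⟨r1, -, -⟩ := spGL_blk_rel g'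
    have hU : IsUnit (blkC g').det := isUnit_iff_ne_zero.2 hdet
    have hsym : (blkA g' * (blkC g')⁻¹).IsSymm := by
      rw [Matrix.IsSymm, Matrix.transpose_mul, Matrix.transpose_nonsing_inv]
      have h1 : (blkC g')ᵀ⁻¹ * ((blkA g')ᵀ * blkC g') * (blkC g')⁻¹ =
          (blkC g')ᵀ⁻¹ * ((blkC g')ᵀ * blkA g') * (blkC g')⁻¹ := by rw [r1]
      rw [mul_assoc, mul_assoc, Matrix.mul_nonsing_inv _ hU, mul_one, ← mul_assoc _ _ (blkA g'),
        Matrix.nonsing_inv_mul _ (by rwa [Matrix.det_transpose]), one_mul] at h1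
      exact h1
    have hA : blkA g' + (S - blkA g' * (blkC g')⁻¹) * blkC g' = l₁ * l₂ := by
      rw [Matrix.sub_mul, mul_assoc, Matrix.nonsing_inv_mul _ hU, mul_one, e5]
      abel
    obtain ⟨u, v, huv⟩ := mem_class_sq hs hd hd1 hirr l hl (hS.sub hsym) e1 e2 e3 e4 hA
    refine ⟨1, one_mem _, h * u, h * v, ?_⟩
    rw [one_mul, show g = h * g' * h⁻¹ by rw [hg']; group, huv]
    group
  · have hw0 : w ≠ 0 := by
      rintro rfl
      rw [spTv_zero_vec, mul_one] at hw
      exact hg (hw ▸ hz)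
    have hc0 : c ≠ 0 := by
      rintro rfl
      rw [spTv_zero, mul_one] at hw
      exact hg (hw ▸ hz)
    obtain ⟨k, hk⟩ := exists_spGL_smul_eq hw0
      (show (Pi.single (Sum.inr 0) 1 : Fin 2 ⊕ Fin 2 → F) ≠ 0 by simp)
    set t := spTv (Pi.single (Sum.inr 0) 1 : Fin 2 ⊕ Fin 2 → F) c with ht
    have hconj : k * spTv w c * k⁻¹ = t := by rw [spTv_conj, hk]
    have ht1 : ∀ i j, blkA t i j = (1 : Matrix (Fin 2) (Fin 2) F) i j := by
      intro i j
      have h := smul_single_inl t j (.inl i)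
      rw [ht, spTv_smul] at h
      rw [Sum.elim_inl] at h
      rw [← h]
      simp [Pi.single_apply, Matrix.one_apply]
    obtain ⟨c', hc', hC⟩ : ∃ c' : F, c' ≠ 0 ∧ blkC t = !![c', 0; 0, 0] := by
      refine ⟨-c, neg_ne_zero.2 hc0, ?_⟩
      ext i j
      have h := smul_single_inl t j (.inr i)
      rw [ht, spTv_smul] at h
      rw [Sum.elim_inr] at h
      rw [← h]
      fin_cases i <;> fin_cases j <;>
        simp [sympForm_eq_sum, Fin.sum_univ_two, Pi.single_apply]
    have hY : (!![(d * d - 1) / c', 1; 1, 0] : Matrix (Fin 2) (Fin 2) F).IsSymm := by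
      ext i j; fin_cases i <;> fin_cases j <;> simp
    set A' := blkA t + !![(d * d - 1) / c', 1; 1, 0] * blkC t with hA'
    have eA : A' = !![d * d, 0; c', 1] := by
      rw [hA', hC]
      ext i j
      fin_cases i <;> fin_cases j <;> simp [ht1, Matrix.mul_apply, Fin.sum_univ_two, hc']
    obtain ⟨l₁, l₂, e1, e2, e3, e4, e5⟩ := exists_two_factors hs hd hirr (A := A')
      (Or.inl (by simp [eA, hc'])) (by simp [eA, Matrix.det_fin_two]) (by
        rw [eA, Matrix.trace_fin_two]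
        simp
        intro h
        exact hd1 (sub_eq_zero.1 (mul_self_eq_zero.1 (by linear_combination h))))
    obtain ⟨u, v, huv⟩ := mem_class_sq hs hd hd1 hirr l hl hY e1 e2 e3 e4 e5
    refine ⟨z⁻¹, inv_mem hz, k⁻¹ * u, k⁻¹ * v, ?_⟩
    rw [hw, inv_mul_cancel_left, show spTv w c = k⁻¹ * t * k by rw [← hconj]; group, huv]
    group

theorem comp2_pow_card [Fintype F] {s d : F} (hirr : ∀ r, r * r - s * r + d ≠ 0) :
    comp2 s d ^ (Fintype.card F ^ 2 - 1) = 1 := by
  classical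
  set f : Polynomial F := Polynomial.X ^ 2 - Polynomial.C s * Polynomial.X + Polynomial.C d with hf
  have hmonic : f.Monic := by rw [hf]; monicity!
  have hdeg : f.natDegree = 2 := by rw [hf]; compute_degree!
  haveI hfirr : Fact (Irreducible f) := ⟨by
    rw [Polynomial.irreducible_iff_roots_eq_zero_of_degree_le_three (by omega) (by omega),
      Multiset.eq_zero_iff_forall_notMem]
    intro r hr
    rw [Polynomial.mem_roots hmonic.ne_zero, Polynomial.IsRoot.def, hf] at hr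
    simp only [Polynomial.eval_add, Polynomial.eval_sub, Polynomial.eval_mul, Polynomial.eval_pow,
      Polynomial.eval_C, Polynomial.eval_X] at hr
    exact hirr r (by linear_combination hr)⟩
  let pb := AdjoinRoot.powerBasis hmonic.ne_zero
  haveI : Finite (AdjoinRoot f) := Finite.of_equiv _ pb.basis.equivFun.toEquiv.symm
  letI : Fintype (AdjoinRoot f) := Fintype.ofFinite _
  have hcard : Fintype.card (AdjoinRoot f) = Fintype.card F ^ 2 := by
    rw [Fintype.card_congr pb.basis.equivFun.toEquiv, Fintype.card_fun, Fintype.card_fin,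
      AdjoinRoot.powerBasis_dim, hdeg]
  have hroot : AdjoinRoot.root f ≠ 0 := fun e => by
    have h := AdjoinRoot.eval₂_root f
    rw [e, Polynomial.eval₂_at_zero, show f.coeff 0 = d by simp [hf]] at h
    have hd0 : d = 0 := (AdjoinRoot.of f).injective (h.trans (map_zero _).symm)
    exact hirr 0 (by rw [hd0]; ring)
  have h1 : AdjoinRoot.root f ^ (Fintype.card F ^ 2 - 1) = 1 := by
    rw [← hcard]
    exact FiniteField.pow_card_sub_one_eq_one _ hroot
  have haev : Polynomial.aeval (comp2 s d) f = 0 := by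
    rw [hf]
    simp only [map_add, map_sub, map_mul, map_pow, Polynomial.aeval_X, Polynomial.aeval_C]
    rw [pow_two, Matrix.algebraMap_eq_diagonal, Matrix.algebraMap_eq_diagonal]
    ext i j
    fin_cases i <;> fin_cases j <;>
      simp [comp2, Matrix.mul_apply, Fin.sum_univ_two] <;> ring
  have hdvd : f ∣ Polynomial.X ^ (Fintype.card F ^ 2 - 1) - 1 := by
    rw [← AdjoinRoot.mk_eq_zero, map_sub, map_pow, AdjoinRoot.mk_X, h1, map_one, sub_self]
  obtain ⟨w, hw⟩ := hdvd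
  have h2 := congrArg (Polynomial.aeval (comp2 s d)) hw
  rw [map_sub, map_pow, Polynomial.aeval_X, map_one, map_mul, haev, zero_mul] at h2
  exact sub_eq_zero.1 h2

theorem exists_thompson_PSp_four [Fintype F] (p : ℕ) [Fact p.Prime] [CharP F p]
    (h3 : 3 ≤ Fintype.card F) :
    ∃ x : Cfsg.PSp 2 F, ¬ p ∣ orderOf x ∧ ∀ g : Cfsg.PSp 2 F, g ≠ 1 →
      ∃ u v : Cfsg.PSp 2 F, g = (u * x * u⁻¹) * (v * x * v⁻¹) := by
  obtain ⟨s, d, hs, hd, hd1, hirr⟩ := exists_irreducible_coeffs h3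
  let l : GL (Fin 2) F :=
    GeneralLinearGroup.mkOfDetNeZero (comp2 s d) (by rw [det_comp2]; exact hd)
  set e := spEquiv 2 F with he
  set q : Matrix.symplecticGroup (Fin 2) F →* Cfsg.PSp 2 F :=
    QuotientGroup.mk' (Subgroup.center (Matrix.symplecticGroup (Fin 2) F)) with hq
  refine ⟨q (e.symm (spLevi l)), ?_, fun g hg => ?_⟩
  · set N := Fintype.card F ^ 2 - 1 with hN
    have hl : l ^ N = 1 := Units.ext (by rw [Units.val_pow_eq_pow_val]; exact comp2_pow_card hirr)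
    have hdvd : orderOf (q (e.symm (spLevi l))) ∣ N :=
      orderOf_dvd_of_pow_eq_one (by rw [← map_pow, ← map_pow, ← map_pow, hl, map_one, map_one,
        map_one])
    intro hp
    have h1 : p ∣ N := hp.trans hdvd
    obtain ⟨n, -, hcard⟩ := FiniteField.card F p
    have h2 : p ∣ Fintype.card F ^ 2 := by
      rw [hcard, ← pow_mul]; exact dvd_pow_self p (by positivity)
    have h4 : 1 ≤ Fintype.card F ^ 2 := Nat.one_le_pow _ _ (by omega)
    have h5 := Nat.dvd_sub h2 h1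
    rw [show Fintype.card F ^ 2 - N = 1 by omega] at h5
    exact (Fact.out : p.Prime).not_dvd_one h5
  · obtain ⟨g₀, rfl⟩ := QuotientGroup.mk'_surjective _ g
    have hg₀ : e g₀ ∉ Subgroup.center (Cfsg.spGL 2 F) := fun h => hg (by
      refine (QuotientGroup.eq_one_iff g₀).2 (Subgroup.mem_center_iff.2 fun y => ?_)
      exact e.injective (by rw [map_mul, map_mul]; exact Subgroup.mem_center_iff.1 h (e y)))
    obtain ⟨z, hz, u, v, huv⟩ := mem_class_sq_of_not_central h3 hs hd hd1 hirr l rfl hg₀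
    refine ⟨q (e.symm u), q (e.symm v), ?_⟩
    have hz' : q (e.symm z) = 1 := by
      refine (QuotientGroup.eq_one_iff _).2 (Subgroup.mem_center_iff.2 fun y => ?_)
      exact e.injective (by
        rw [map_mul, map_mul, e.apply_symm_apply]; exact Subgroup.mem_center_iff.1 hz (e y))
    have h := congrArg (fun y => q (e.symm y)) huv
    simp only [map_mul, map_inv, hz', one_mul, MulEquiv.symm_apply_apply] at h
    exact h

end Cfsg.Agent.GLOrder.PSpFour
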