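/-
Structure of the normaliser of a maximal torus of `SL_2(q)`, `q` odd.

Main results (namespace `Cfsg.Agent.GLOrder`):
* `card_classes_dihedral_type` : class number of a group with inverting index two abelian part
* `torus_structure` : centralisers, normaliser, class number, squares outside the torus
* `exists_trace_eq` : every trace is split or comes from the non-split torus
-/
import Cfsg.Agent.EqLemmas
import Cfsg.Agent.Lib.GLOrder.TorusNormalizer
import Cfsg.Agent.S2437

set_option autoImplicit false
set_option linter.unusedSectionVars false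

namespace Cfsg.Agent.GLOrder

open Matrix
open scoped MatrixGroups

theorem card_classes_dihedral_type {G : Type*} [Group G] [Finite G] (A : Subgroup G) {d : ℕ}
    (he : Even d) (hA : Nat.card A = d) (hG : Nat.card G = 2 * d)
    (hinv : ∀ g, g ∉ A → ∀ x ∈ A, g * x * g⁻¹ = x⁻¹) (hab : ∀ x ∈ A, ∀ y ∈ A, x * y = y * x)
    (hsq : Nat.card {x : G // x ∈ A ∧ x ^ 2 = 1} = 2) :
    Nat.card (ConjClasses G) = (d + 6) / 2 := by
  classical
  have := Fintype.ofFinite G
  have hidx : A.index = 2 := by
    have h := A.index_mul_card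
    rw [hA, hG] at h
    exact Nat.eq_of_mul_eq_mul_right (hA ▸ Nat.card_pos) h
  refine S2437.card_classes_eq (Equiv.refl G) _ ?_
  simp only [Equiv.refl_symm, Equiv.coe_refl, id_eq]
  have hcom : ∀ u ∈ A, ∀ v, v ∉ A → (u * v = v * u ↔ u ^ 2 = 1) := fun u hu v hv => by
    have h := hinv v hv u hu
    rw [mul_inv_eq_iff_eq_mul] at h
    rw [h, pow_two, mul_left_inj, mul_eq_one_iff_eq_inv]
  have hrow : ∀ u : G, Nat.card {v : G // u * v = v * u} =
      if u ∈ A then (if u ^ 2 = 1 then 2 * d else d) else 4 := by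
    intro u
    split_ifs with hu h2
    · rw [Nat.card_congr (Equiv.subtypeUnivEquiv fun v => ?_), hG]
      by_cases hv : v ∈ A
      · exact hab u hu v hv
      · exact (hcom u hu v hv).2 h2
    · rw [← hA]
      exact Nat.card_congr (Equiv.subtypeEquivRight fun v =>
        ⟨fun h => by_contra fun hv => h2 ((hcom u hu v hv).1 h), fun hv => hab u hu v hv⟩)
    · have key : ∀ v, u * v = v * u ↔ (v ∈ A ∧ v ^ 2 = 1) ∨ (u⁻¹ * v ∈ A ∧ (u⁻¹ * v) ^ 2 = 1) := by
        intro v
        by_cases hv : v ∈ A
        · have hn : u⁻¹ * v ∉ A := fun h => hu (by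
            have := A.mul_mem hv (A.inv_mem h)
            simpa using this)
          simp only [hv, hn, true_and, false_and, or_false]
          exact eq_comm.trans (hcom v hv u hu)
        · have hz : u⁻¹ * v ∈ A := (Subgroup.mul_mem_iff_of_index_two hidx).2
            (iff_of_false (mt A.inv_mem_iff.1 hu) hv)
          simp only [hv, hz, true_and, false_and, false_or]
          rw [← hcom _ hz u hu, mul_inv_cancel_left, mul_assoc u⁻¹ v u, inv_mul_eq_iff_eq_mul]
          exact eq_comm
      rw [Nat.card_congr (Equiv.subtypeEquivRight key), Nat.card_eq_fintype_card,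
        Fintype.card_subtype, Finset.filter_or, Finset.card_union_of_disjoint]
      · rw [← Fintype.card_subtype, ← Fintype.card_subtype, ← Nat.card_eq_fintype_card,
          ← Nat.card_eq_fintype_card, hsq, Nat.card_congr ((Equiv.mulLeft u⁻¹).subtypeEquiv
            (p := fun x => u⁻¹ * x ∈ A ∧ (u⁻¹ * x) ^ 2 = 1)
            (q := fun x => x ∈ A ∧ x ^ 2 = 1) fun v => Iff.rfl), hsq]
      · rw [Finset.disjoint_filter]
        intro v _ hv hv'
        apply hu
        have := A.mul_mem hv.1 (A.inv_mem hv'.1)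
        simpa using this
  rw [Finset.sum_congr rfl fun u _ => hrow u, Finset.sum_ite, Finset.sum_ite, Finset.sum_const,
    Finset.sum_const, Finset.sum_const, smul_eq_mul, smul_eq_mul, smul_eq_mul, Finset.filter_filter]
  have h1 : (Finset.univ.filter fun u => u ∈ A ∧ u ^ 2 = 1).card = 2 := by
    rw [← Fintype.card_subtype, ← Nat.card_eq_fintype_card, hsq]
  have h2 : (Finset.univ.filter fun u => u ∈ A).card = d := by
    rw [← Fintype.card_subtype, ← Nat.card_eq_fintype_card]; exact hA
  have h3 := Finset.card_filter_add_card_filter_not (s := (Finset.univ : Finset G)) (fun u => u ∈ A)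
  have h4 := Finset.card_filter_add_card_filter_not (s := Finset.univ.filter fun u => u ∈ A)
    (fun u => u ^ 2 = 1)
  simp only [Finset.filter_filter] at h4
  rw [h2, h1] at h4
  rw [h2, Finset.card_univ, ← Nat.card_eq_fintype_card, hG] at h3
  rw [h1, ← Nat.card_eq_fintype_card, hG]
  obtain ⟨m, rfl⟩ := he
  rw [show (Finset.univ.filter fun u => u ∉ A).card = m + m by omega]
  obtain ⟨s, hs⟩ : ∃ s, m + m = s + 2 := ⟨m + m - 2, by omega⟩
  rw [Finset.filter_filter, show (Finset.univ.filter fun u => u ∈ A ∧ ¬ u ^ 2 = 1).card = s by omega]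
  rw [show (m + m + 6) / 2 = m + 3 by omega]
  nlinarith

variable {F : Type*} [Field F]

theorem eq_one_or_neg_one_of_sq (h2 : (2 : F) ≠ 0) {x : SL(2, F)} (h : x * x = 1) :
    x = 1 ∨ x = -1 := by
  rw [← center_SL2]
  by_contra hc
  apply hc
  have e : (x : Matrix (Fin 2) (Fin 2) F) * x = PSL2.tr x • (x : Matrix (Fin 2) (Fin 2) F) - 1 :=
    PSL2.coe_sq x
  have h' : (x : Matrix (Fin 2) (Fin 2) F) * x = 1 := congrArg Subtype.val h
  rw [h'] at e
  have e00 := congrFun (congrFun e 0) 0
  have e11 := congrFun (congrFun e 1) 1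
  have e01 := congrFun (congrFun e 0) 1
  have e10 := congrFun (congrFun e 1) 0
  simp at e00 e11 e01 e10
  have htr : PSL2.tr x ≠ 0 := fun h0 => by
    rw [h0] at e00
    exact h2 (by linear_combination e00)
  rw [← not_not (a := x ∈ Subgroup.center SL(2, F)), ← not_isScalar_iff, not_not]
  refine ⟨e01.resolve_left htr, e10.resolve_left htr, ?_⟩
  apply mul_left_cancel₀ htr
  linear_combination e11 - e00

theorem tr_sq_of_mem_center {x : SL(2, F)} (h : x ∈ Subgroup.center SL(2, F)) :
    PSL2.tr x ^ 2 = 4 :=
  not_ne_iff.1 fun h4 => not_mem_center_of_tr h4 h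

section Finite

variable [Finite F]

theorem torus_structure (h2 : (2 : F) ≠ 0) {t : SL(2, F)} {d : ℕ} (hd0 : (d : F) ≠ 0)
    (he : Even d) (hd2 : 2 < d) (ht : orderOf t = d)
    (hC : Subgroup.centralizer ({t} : Set SL(2, F)) = Subgroup.zpowers t) :
    (∀ x ∈ Subgroup.zpowers t, x ∉ Subgroup.center SL(2, F) →
      Subgroup.centralizer ({x} : Set SL(2, F)) = Subgroup.zpowers t) ∧
    Subgroup.centralizer ((Subgroup.zpowers t : Subgroup SL(2, F)) : Set SL(2, F)) =
      Subgroup.zpowers t ∧
    Nat.card (Subgroup.normalizer ((Subgroup.zpowers t : Subgroup SL(2, F)) : Set SL(2, F))) = 2 * d ∧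
    Nat.card (ConjClasses (Subgroup.normalizer
      ((Subgroup.zpowers t : Subgroup SL(2, F)) : Set SL(2, F)))) = (d + 6) / 2 ∧
    ∀ g ∈ Subgroup.normalizer ((Subgroup.zpowers t : Subgroup SL(2, F)) : Set SL(2, F)),
      g ∉ Subgroup.zpowers t → g * g = -1 := by
  have hmem : ∀ x, x ∈ Subgroup.zpowers t ↔ Commute x t := fun x => by
    rw [← hC, mem_centralizer_singleton]
  have hpow : t ^ d = 1 := ht ▸ pow_orderOf_eq_one t
  have htc : t ∉ Subgroup.center SL(2, F) := fun hc => by
    have h1 : t ^ 2 = 1 := by rcases center_SL2.1 hc with rfl | rfl <;> simp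
    have := Nat.le_of_dvd two_pos (orderOf_dvd_of_pow_eq_one h1)
    omega
  have h4 := tr_sq_ne_four h2 hd0 he hpow htc
  have hab : ∀ x ∈ Subgroup.zpowers t, ∀ y ∈ Subgroup.zpowers t, x * y = y * x := fun x hx y hy =>
    (PSL2.commute_of_commute htc ((hmem x).1 hx) ((hmem y).1 hy)).eq
  have hcx : ∀ x ∈ Subgroup.zpowers t, x ∉ Subgroup.center SL(2, F) →
      Subgroup.centralizer ({x} : Set SL(2, F)) = Subgroup.zpowers t := by
    intro x hx hxc
    ext y
    rw [mem_centralizer_singleton]
    exact ⟨fun h => (hmem y).2 (PSL2.commute_of_commute hxc h ((hmem x).1 hx).symm),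
      fun hy => hab y hy x hx⟩
  set T := Subgroup.zpowers t with hT
  set N := Subgroup.normalizer (T : Set SL(2, F)) with hN
  obtain ⟨w, hw⟩ := exists_inverting_conj h2 h4
  have hwN : w ∈ N := by
    rw [hN, Subgroup.mem_normalizer_iff_map_conj_eq]
    show (Subgroup.zpowers t).map (MulAut.conj w).toMonoidHom = _
    rw [MonoidHom.map_zpowers]
    show Subgroup.zpowers (w * t * w⁻¹) = _
    rw [hw, Subgroup.zpowers_inv]
  have hwT : w ∉ T := fun h => by
    rw [((hmem w).1 h).eq, mul_inv_cancel_right] at hw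
    have h1 : t ^ 2 = 1 := by rw [pow_two]; nth_rw 1 [hw]; exact inv_mul_cancel t
    have := Nat.le_of_dvd two_pos (orderOf_dvd_of_pow_eq_one h1)
    omega
  have hwx : ∀ x ∈ T, w * x * w⁻¹ = x⁻¹ := by
    rintro x ⟨j, rfl⟩
    show w * t ^ j * w⁻¹ = (t ^ j)⁻¹
    rw [← conj_zpow, hw, _root_.inv_zpow]
  have hTN : T ≤ N := Subgroup.le_normalizer
  have hout : ∀ g ∈ N, g ∉ T → w⁻¹ * g ∈ T := by
    intro g hg hgT
    have hc : Commute (g * t * g⁻¹) t :=
      (hmem _).1 ((Subgroup.mem_normalizer_iff.1 hg t).1 (Subgroup.mem_zpowers t))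
    rcases commute_or_of_normalizes h2 h4 hw hc with h | h
    · exact absurd ((hmem g).2 h) hgT
    · exact (hmem _).2 h
  have hinv : ∀ g ∈ N, g ∉ T → ∀ x ∈ T, g * x * g⁻¹ = x⁻¹ := by
    intro g hg hgT x hx
    have hz := hab _ (hout g hg hgT) x hx
    calc g * x * g⁻¹ = w * ((w⁻¹ * g) * x) * (w⁻¹ * g)⁻¹ * w⁻¹ := by group
      _ = w * (x * (w⁻¹ * g)) * (w⁻¹ * g)⁻¹ * w⁻¹ := by rw [hz]
      _ = w * x * w⁻¹ := by group
      _ = x⁻¹ := hwx x hx
  have hneg : (-1 : SL(2, F)) ∈ T := (hmem _).2 (Commute.neg_one_left t)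
  have hne : (1 : SL(2, F)) ≠ -1 := fun h => h2 (by
    have := congrArg (fun g : SL(2, F) => (g : Matrix (Fin 2) (Fin 2) F) 0 0) h
    simp at this
    linear_combination this)
  have hsq : ∀ g ∈ N, g ∉ T → g * g = -1 := by
    intro g hg hgT
    have h2T : g * g ∈ T := by
      refine (hmem _).2 ?_
      have e := hinv g hg hgT t (Subgroup.mem_zpowers t)
      have e' := hinv g hg hgT t⁻¹ (T.inv_mem (Subgroup.mem_zpowers t))
      rw [inv_inv] at e'
      show g * g * t = t * (g * g)
      calc g * g * t = g * (g * t * g⁻¹) * g⁻¹ * (g * g) := by group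
        _ = g * t⁻¹ * g⁻¹ * (g * g) := by rw [e]
        _ = t * (g * g) := by rw [e']
    have h1 := hinv g hg hgT _ h2T
    rw [show g * (g * g) * g⁻¹ = g * g by group, eq_inv_iff_mul_eq_one] at h1
    rcases eq_one_or_neg_one_of_sq h2 h1 with h | h
    · exfalso
      rcases eq_one_or_neg_one_of_sq h2 h with rfl | rfl
      · exact hgT T.one_mem
      · exact hgT hneg
    · exact h
  have hidx : T.relIndex N = 2 := by
    rw [Subgroup.relIndex_eq_two_iff]
    refine ⟨w⁻¹, inv_mem hwN, fun n hn => ?_⟩
    by_cases h : n ∈ T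
    · refine Or.inr ⟨h, fun h' => hwT ?_⟩
      have := T.mul_mem (T.inv_mem h') h
      simpa using this
    · refine Or.inl ⟨?_, h⟩
      have hz := hout n hn h
      have e := hwx _ hz
      rw [show w * (w⁻¹ * n) * w⁻¹ = n * w⁻¹ by group] at e
      exact e ▸ T.inv_mem hz
  have hcardT : Nat.card (T.subgroupOf N) = d := by
    rw [Nat.card_congr (Subgroup.subgroupOfEquivOfLe hTN).toEquiv, hT, Nat.card_zpowers, ht]
  have hcardN : Nat.card N = 2 * d := by
    rw [← (T.subgroupOf N).index_mul_card, hcardT]
    rw [Subgroup.relIndex] at hidx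
    rw [hidx]
  refine ⟨hcx, ?_, hcardN, ?_, hsq⟩
  · rw [hT, centralizer_zpowers, hC]
  · refine card_classes_dihedral_type (T.subgroupOf N) he hcardT hcardN ?_ ?_ ?_
    · intro g hg x hx
      exact Subtype.ext (hinv g.1 g.2 hg x.1 hx)
    · exact fun x hx y hy => Subtype.ext (hab x.1 hx y.1 hy)
    · rw [Nat.card_eq_two_iff]
      refine ⟨⟨1, one_mem _, one_pow 2⟩, ⟨⟨-1, hTN hneg⟩, hneg, Subtype.ext (by simp)⟩, ?_, ?_⟩
      · intro h
        exact hne (congrArg (fun x : {x : N // x ∈ T.subgroupOf N ∧ x ^ 2 = 1} => x.1.1) h)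
      · refine Set.eq_univ_of_forall fun x => ?_
        have h1 : x.1.1 * x.1.1 = 1 := by
          rw [← Subgroup.coe_mul, ← pow_two, x.2.2]; rfl
        rcases eq_one_or_neg_one_of_sq h2 h1 with h | h
        · exact Or.inl (Subtype.ext (Subtype.ext h))
        · exact Or.inr (Subtype.ext (Subtype.ext h))

/-- Every trace either is split or occurs in a torus of order `q + 1`. -/
theorem exists_trace_eq (h2 : (2 : F) ≠ 0) {t : SL(2, F)} (ht : orderOf t = Nat.card F + 1)
    (he : Even (Nat.card F + 1))
    (hC : Subgroup.centralizer ({t} : Set SL(2, F)) = Subgroup.zpowers t) (a : F) :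
    (∃ l : F, l ^ 2 - a * l + 1 = 0) ∨ ∃ x ∈ Subgroup.zpowers t, PSL2.tr x = a ∧ a ^ 2 ≠ 4 := by
  classical
  have := Fintype.ofFinite F
  set T := Subgroup.zpowers t with hT
  have hd0 : ((Nat.card F + 1 : ℕ) : F) ≠ 0 := by
    push_cast
    rw [Nat.card_eq_fintype_card, FiniteField.cast_card_eq_zero]
    simp
  have hpow : ∀ x : T, (x : SL(2, F)) ^ (Nat.card F + 1) = 1 := fun x =>
    orderOf_dvd_iff_pow_eq_one.1 (by
      rw [Subgroup.orderOf_coe]
      have h := orderOf_dvd_natCard x
      rwa [show Nat.card T = Nat.card F + 1 from (Nat.card_zpowers t).trans ht] at h)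
  have hsemi : ∀ x : T, PSL2.tr (x : SL(2, F)) ^ 2 = 4 → (x : SL(2, F)) = 1 ∨ (x : SL(2, F)) = -1 :=
    fun x h => center_SL2.1 (not_not.1 fun hc => tr_sq_ne_four h2 hd0 he (hpow x) hc h)
  have hnonsplit : ∀ x : T, PSL2.tr (x : SL(2, F)) ^ 2 ≠ 4 → ∀ l : F,
      l ^ 2 - PSL2.tr (x : SL(2, F)) * l + 1 ≠ 0 := by
    intro x h4 l hl
    have h1 := pow_sub_one_of_root h2 h4 hl
    have h3 := hpow x
    have hq1 := one_lt_card_field (F := F)
    rw [show Nat.card F + 1 = Nat.card F - 1 + 2 by omega, pow_add, h1, one_mul, pow_two] at h3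
    exact h4 (tr_sq_of_mem_center (center_SL2.2 (eq_one_or_neg_one_of_sq h2 h3)))
  let f : Fˣ ⊕ T → F := Sum.elim (fun l => (l : F) + (l : F)⁻¹) (fun x => PSL2.tr (x : SL(2, F)))
  have hf : ∀ b : F, (Finset.univ.filter fun s => f s = b).card ≤ 2 := by
    intro b
    by_cases hb : b ^ 2 = 4
    · have hb' : b = 2 ∨ b = -2 := sq_eq_sq_iff_eq_or_eq_neg.1 (by linear_combination hb)
      obtain ⟨c, hc, hbc⟩ : ∃ c : F, c * c = 1 ∧ b = 2 * c := by
        rcases hb' with rfl | rfl
        · exact ⟨1, one_mul 1, (mul_one _).symm⟩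
        · exact ⟨-1, by ring, by ring⟩
      have hsub : (Finset.univ.filter fun s => f s = b) ⊆
          (Finset.univ.filter fun l : Fˣ => (l : F) = c).disjSum
            (Finset.univ.filter fun x : T => (x : SL(2, F)) = if b = 2 then 1 else -1) := by
        intro s hs
        rw [Finset.mem_filter] at hs
        rcases s with l | x
        · refine Finset.inl_mem_disjSum.2 (Finset.mem_filter.2 ⟨Finset.mem_univ _, ?_⟩)
          have h := hs.2
          simp only [f, Sum.elim_inl] at h
          have h' : ((l : F) - c) * ((l : F) - c) = 0 := by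
            have := l.ne_zero
            field_simp at h
            linear_combination h + hc + (l : F) * hbc
          exact sub_eq_zero.1 (mul_self_eq_zero.1 h')
        · refine Finset.inr_mem_disjSum.2 (Finset.mem_filter.2 ⟨Finset.mem_univ _, ?_⟩)
          have h : PSL2.tr (x : SL(2, F)) = b := hs.2
          rcases hsemi x (by rw [h, hb]) with hx | hx <;> rw [hx] at h ⊢
          · rw [PSL2.tr_one] at h; rw [if_pos h.symm]
          · rw [PSL2.tr_neg, PSL2.tr_one] at h
            rw [if_neg fun e => h2 (mul_left_cancel₀ h2 (by linear_combination -h - e))]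
      refine (Finset.card_le_card hsub).trans ?_
      rw [Finset.card_disjSum]
      refine Nat.add_le_add (Finset.card_le_one.2 ?_) (Finset.card_le_one.2 ?_) <;> intro u hu v hv <;>
        rw [Finset.mem_filter] at hu hv
      · exact Units.ext (hu.2.trans hv.2.symm)
      · exact Subtype.ext (hu.2.trans hv.2.symm)
    · by_cases hx : ∃ x : T, PSL2.tr (x : SL(2, F)) = b
      · obtain ⟨x, hx⟩ := hx
        have hsub : (Finset.univ.filter fun s => f s = b) ⊆ {Sum.inr x, Sum.inr x⁻¹} := by
          intro s hs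
          rw [Finset.mem_filter] at hs
          rcases s with l | y
          · exfalso
            refine hnonsplit x (hx ▸ hb) l ?_
            have h := hs.2
            simp only [f, Sum.elim_inl] at h
            rw [hx, ← h]
            have := l.ne_zero
            field_simp
            ring
          · have h : PSL2.tr (y : SL(2, F)) = b := hs.2
            have hcom : Commute (y : SL(2, F)) (x : SL(2, F)) := by
              obtain ⟨i, hi⟩ := y.2
              obtain ⟨j, hj⟩ := x.2
              rw [← hi, ← hj]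
              exact (Commute.refl t).zpow_zpow i j
            rcases eq_or_eq_inv_of_commute h2 (hx ▸ hb) hcom (h.trans hx.symm) with e | e
            · simp [Subtype.ext_iff, e]
            · simp [Subtype.ext_iff, e]
        exact (Finset.card_le_card hsub).trans Finset.card_le_two
      · simp only [not_exists] at hx
        by_cases hl : ∃ l : Fˣ, (l : F) + (l : F)⁻¹ = b
        · obtain ⟨l, hl⟩ := hl
          have hsub : (Finset.univ.filter fun s => f s = b) ⊆ {Sum.inl l, Sum.inl l⁻¹} := by
            intro s hs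
            rw [Finset.mem_filter] at hs
            rcases s with m | y
            · have h := hs.2
              simp only [f, Sum.elim_inl] at h
              have e : ((m : F) - l) * ((m : F) * l - 1) = 0 := by
                have := m.ne_zero
                have := l.ne_zero
                rw [← h] at hl
                field_simp at hl
                linear_combination -hl
              rcases mul_eq_zero.1 e with e | e
              · simp [Units.ext_iff, sub_eq_zero.1 e]
              · simp [Units.ext_iff, eq_inv_of_mul_eq_one_left (sub_eq_zero.1 e)]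
            · exact absurd hs.2 (hx y)
          exact (Finset.card_le_card hsub).trans Finset.card_le_two
        · simp only [not_exists] at hl
          rw [Finset.filter_false_of_mem]
          · simp
          · rintro (m | y) - h
            · exact hl m h
            · exact hx y h
  have hcard : Fintype.card (Fˣ ⊕ T) = 2 * Fintype.card F := by
    rw [Fintype.card_sum, Fintype.card_units, ← Nat.card_eq_fintype_card (α := T), hT,
      Nat.card_zpowers, ht, Nat.card_eq_fintype_card]
    have := Fintype.one_lt_card (α := F)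
    omega
  have himg := Finset.card_le_mul_card_image (f := f) (Finset.univ : Finset (Fˣ ⊕ T)) 2
    (fun b _ => hf b)
  rw [Finset.card_univ, hcard] at himg
  have htop : (Finset.univ : Finset (Fˣ ⊕ T)).image f = Finset.univ :=
    Finset.eq_univ_of_card _ (le_antisymm (Finset.card_le_univ _) (by omega))
  have ha : a ∈ (Finset.univ : Finset (Fˣ ⊕ T)).image f := htop ▸ Finset.mem_univ a
  obtain ⟨s, -, hs⟩ := Finset.mem_image.1 ha
  rcases s with l | x
  · left
    refine ⟨l, ?_⟩
    simp only [f, Sum.elim_inl] at hs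
    have := l.ne_zero
    rw [← hs]
    field_simp
    ring
  · by_cases hb : a ^ 2 = 4
    · left
      refine ⟨a / 2, ?_⟩
      field_simp
      linear_combination -hb
    · exact Or.inr ⟨x, x.2, hs, hb⟩

end Finite

end Cfsg.Agent.GLOrder
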